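import Cfsg.Agent.Lib.Linear.ShortPres.SUN.Mdl

/-!
# All rank one cells from two of them in odd dimension
-/

set_option autoImplicit false
set_option linter.unusedSectionVars false

namespace Cfsg.Lib.Linear.ShortPres.SUN

open Matrix Cfsg.Lib.Linear.SUDegree Cfsg.Lib.Linear.Herm

variable {F : Type*} [Field F] {J : Conj F} {m : ℕ} [NeZero m] [Finite F] {G : Type*} [Group G]
  {π : G →* Mg J m 1}

namespace ParData

variable (D : ParData J m 1 π)

/-- An element over a prescribed image at the first index has a cell. -/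
def Cell (u : G) : Prop := ∃ a ∈ D.P, ∃ b ∈ D.P, D.t * u * D.t⁻¹ = a * D.t * b

theorem rel1 {c v : F} (h : c + J.σ c + v * J.σ v = 0) :
    c + J.σ c + ∑ _e : Fin 1, v * J.σ v = 0 := by simpa using h

/-- The image of an element at the first index. -/
def u0 (c v : F) (h : c + J.σ c + v * J.σ v = 0) : Mg J m 1 :=
  uM (rel0 (m := m) (v := fun _ : Fin 1 => v) (rel1 h))

/-- Every element over the image has a cell. -/
def Known (c v : F) : Prop :=
  ∀ (h : c + J.σ c + v * J.σ v = 0), ∀ u ∈ D.P, π u = u0 c v h → D.Cell u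

theorem u0_congr {c v c' v' : F} (h : c + J.σ c + v * J.σ v = 0) (h' : c' + J.σ c' + v' * J.σ v' = 0)
    (ec : c = c') (ev : v = v') : (u0 c v h : Mg J m 1) = u0 c' v' h' := by subst ec ev; rfl

theorem u0_mul {c v c' v' : F} (h : c + J.σ c + v * J.σ v = 0) (h' : c' + J.σ c' + v' * J.σ v' = 0) :
    ∃ h'', (u0 c v h : Mg J m 1) * u0 c' v' h' = u0 (c + c' - v * J.σ v') (v + v') h'' := by
  refine ⟨by
    simp only [map_add, map_sub, map_mul, J.inv2]
    linear_combination h + h', ?_⟩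
  rw [u0, u0, uM_mul]
  refine uM_congr _ _ ?_ (by ext i j; by_cases hi : i = 0 <;> simp [rowM, hi])
  rw [rowM_mul, Fin.sum_univ_one]
  ext i j
  simp only [Matrix.add_apply, Matrix.sub_apply, Matrix.single_apply]
  split_ifs <;> ring

theorem u0_inv {c v : F} (h : c + J.σ c + v * J.σ v = 0) :
    ∃ h', (u0 c v h : Mg J m 1)⁻¹ = u0 (J.σ c) (-v) h' := by
  refine ⟨by rw [J.inv2, map_neg]; linear_combination h, ?_⟩
  obtain ⟨hu', e⟩ := uM_inv (rel0 (m := m) (v := fun _ : Fin 1 => v) (rel1 h))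
  rw [u0, e]
  exact uM_congr _ _ (st_single _ _ _) (by ext i j; by_cases hi : i = 0 <;> simp [rowM, hi])

theorem kf_u0 {c v : F} (h : c + J.σ c + v * J.σ v = 0) : kf (u0 c v h : Mg J m 1) = 0 := kf_uM _

theorem compat_inv {p : G} (hp : p ∈ D.P) (hc : kf ((tM J 1 0)⁻¹ * π p * tM J 1 0) = 0) :
    D.t⁻¹ * p * D.t ∈ D.P := by
  have hk : kf (π (D.t * D.t)) = 0 := D.kf_P D.sq
  have h2 : kf (tM J 1 0 * π p * (tM J 1 0)⁻¹) = 0 := by
    have e : tM J 1 0 * π p * (tM J 1 0)⁻¹ =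
        π (D.t * D.t) * ((tM J 1 0)⁻¹ * π p * tM J 1 0) * (π (D.t * D.t))⁻¹ := by
      rw [map_mul, D.πt]; group
    rw [e]
    exact kf_mul le_rfl (kf_mul le_rfl hk hc) (kf_inv le_rfl hk)
  have h1 := D.compat_P hp h2
  have : D.t⁻¹ * p * D.t = (D.t * D.t)⁻¹ * (D.t * p * D.t⁻¹) * (D.t * D.t) := by group
  rw [this]
  exact mul_mem (mul_mem (inv_mem D.sq) h1) D.sq

/-- A cell can be taken with prescribed images. -/
theorem Cell.exact {u a b : G} (hc : D.Cell u) (ha : a ∈ D.P) (hb : b ∈ D.P)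
    (e : π (D.t * u * D.t⁻¹) = π (a * D.t * b)) : D.t * u * D.t⁻¹ = a * D.t * b := by
  obtain ⟨a', ha', b', hb', e'⟩ := hc
  rw [e'] at e ⊢
  have hp : a⁻¹ * a' ∈ D.P := mul_mem (inv_mem ha) ha'
  have e2 : (tM J 1 0)⁻¹ * π (a⁻¹ * a') * tM J 1 0 = π (b * b'⁻¹) := by
    simp only [map_mul, map_inv, D.πt] at e ⊢
    rw [eq_mul_inv_iff_mul_eq, ← mul_right_inj (π a * tM J 1 0)]
    rw [← e]; group
  have h3 := D.compat_inv hp (by rw [e2]; exact D.kf_P (mul_mem hb (inv_mem hb')))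
  have h4 := D.eq_P h3 (mul_mem hb (inv_mem hb')) (by rw [map_mul, map_mul, map_inv, D.πt, e2])
  calc a' * D.t * b' = a * D.t * (D.t⁻¹ * (a⁻¹ * a') * D.t) * b' := by group
    _ = _ := by rw [h4]; group

theorem Known.mk' {c v : F} (h : c + J.σ c + v * J.σ v = 0) {u : G} (hu : u ∈ D.P) (e : π u = u0 c v h)
    (hc : D.Cell u) : D.Known c v := fun h' u' hu' e' => by
  rwa [D.eq_P hu' hu (by rw [e', e])]

theorem Known.inv {c v : F} (hk : D.Known c v) : D.Known (J.σ c) (-v) := by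
  intro h u hu e
  have h0 : c + J.σ c + v * J.σ v = 0 := by
    rw [J.inv2, map_neg] at h; linear_combination h
  obtain ⟨h', e'⟩ := u0_inv (m := m) h0
  obtain ⟨a, ha, b, hb, hc⟩ := hk h0 u⁻¹ (inv_mem hu) (by
    rw [map_inv, e, inv_eq_iff_eq_inv, e'])
  refine ⟨b⁻¹, inv_mem hb, (D.t * D.t)⁻¹ * a⁻¹, mul_mem (inv_mem D.sq) (inv_mem ha), ?_⟩
  calc D.t * u * D.t⁻¹ = (D.t * u⁻¹ * D.t⁻¹)⁻¹ := by group
    _ = _ := by rw [hc]; group

theorem Known.torus {c v : F} (hk : D.Known c v) (h0 : c + J.σ c + v * J.σ v = 0) {l : F} (hl : l ≠ 0) :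
    D.Known (l * J.σ l * c) (l * v) := by
  intro h u hu e
  obtain ⟨i, hi⟩ : ∃ i : Fin m, i ≠ 0 := by
    haveI : Nontrivial (Fin m) := Fin.nontrivial_iff_two_le.2 D.hm
    exact exists_ne 0
  have hd : (SpecialLinearGroup.diag2n hi.symm l hl : SpecialLinearGroup (Fin m) F).1 0 0 = l := by
    rw [SpecialLinearGroup.diag2n_coe]; simp
  set T : SpecialLinearGroup (Fin m) F := SpecialLinearGroup.diag2n hi.symm l hl with hT
  have hA : D.A T ∈ D.P := D.K_le (D.toBase.A_mem T)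
  have htA : D.t * D.A T * D.t⁻¹ ∈ D.P := D.compat_P hA (by
    rw [D.πA]
    exact kf_conj_lM (levOK_sl T) 0 fun b hb => by
      show T.1 0 b = 0
      rw [hT, SpecialLinearGroup.diag2n_coe]; simp [Ne.symm hb])
  have hu' : π ((D.A T)⁻¹ * u * D.A T) = u0 c v h0 := by
    rw [map_mul, map_mul, map_inv, e, D.πA, mul_assoc, inv_mul_eq_iff_eq_mul]
    symm
    show lM (levOK_sl T) * _ = _ * lM (levOK_sl T)
    rw [u0, u0, lM_uM]
    congr 1
    obtain ⟨f, hf, hf0⟩ : ∃ f : Fin m → F, T.1 = Matrix.diagonal f ∧ f 0 = l :=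
      ⟨fun a => T.1 a a, by
        ext a b
        by_cases hab : a = b
        · subst hab; simp
        · rw [hT, SpecialLinearGroup.diag2n_coe]; simp [hab], hd⟩
    refine uM_congr _ _ ?_ ?_
    · show T.1 * Matrix.single (0 : Fin m) (0 : Fin m) c * st J.σ T.1 = _
      rw [hf, show st J.σ (Matrix.diagonal f) = Matrix.diagonal fun a => J.σ (f a) from by
        rw [st, Matrix.diagonal_map (map_zero _), Matrix.diagonal_transpose]]
      ext a b
      rw [Matrix.mul_diagonal, Matrix.diagonal_mul]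
      by_cases ha : a = 0 <;> by_cases hb : b = 0 <;> simp [Matrix.single_apply, ha, hb, hf0, Ne.symm]
      ring
    · show J.σ 1 • (T.1 * rowM (0 : Fin m) fun _ : Fin 1 => v) = _
      ext a e
      rw [hf, map_one, one_smul, Matrix.diagonal_mul]
      by_cases ha : a = 0 <;> simp [rowM, ha, hf0]
  obtain ⟨a, ha, b, hb, hc⟩ := hk h0 _ (mul_mem (mul_mem (inv_mem hA) hu) hA) hu'
  refine ⟨D.t * D.A T * D.t⁻¹ * a, mul_mem htA ha, b * (D.t * D.A T * D.t⁻¹)⁻¹, mul_mem hb (inv_mem htA), ?_⟩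
  calc D.t * u * D.t⁻¹ = D.t * D.A T * D.t⁻¹ * (D.t * ((D.A T)⁻¹ * u * D.A T) * D.t⁻¹) *
        (D.t * D.A T * D.t⁻¹)⁻¹ := by group
    _ = _ := by rw [hc]; group

/-- The torus part of a cell. -/
theorem levC {c : F} (hc : c ≠ 0) : LevOK J 1 (g0 (m := m) (-J.η / J.σ c)
    (div_ne_zero (neg_ne_zero.2 J.η_ne) (by simpa using hc))) (-J.σ c / c) := by
  have hne := J.η_ne
  have hsc : J.σ c ≠ 0 := by simpa using hc
  refine ⟨?_, ?_⟩
  · rw [map_div₀, map_neg, J.inv2]; field_simp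
  · rw [g0_coe, g0_inv_coe, d0_det, d0_det, pow_one, map_inv₀, map_div₀, map_neg, J.η_skew, J.inv2]
    field_simp

theorem cell_u0 {c v : F} (h : c + J.σ c + v * J.σ v = 0) (hc : c ≠ 0) :
    ∃ ha hb, tM J 1 0 * u0 c v h * (tM J 1 0)⁻¹ =
      u0 (-J.η ^ 2 / c) (J.η * v / J.σ c) ha * lM (levC (m := m) hc) * tM J 1 0 *
        u0 (-J.η ^ 2 / c) (J.η * v / c) hb := by
  have hne := J.η_ne
  have hsc : J.σ c ≠ 0 := by simpa using hc
  have hab : ∀ d : F, d * J.σ d = c * J.σ c →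
      -J.η ^ 2 / c + J.σ (-J.η ^ 2 / c) + J.η * v / d * J.σ (J.η * v / d) = 0 := by
    intro d hd
    have hd0 : d ≠ 0 := fun e => by rw [e, zero_mul] at hd; exact mul_ne_zero hc hsc hd.symm
    have hd1 : J.σ d ≠ 0 := by simpa using hd0
    rw [map_div₀, map_div₀, map_mul, map_neg, map_pow, J.η_skew]
    field_simp
    linear_combination (J.η ^ 2 * v * J.σ v) * hd - (J.η ^ 2 * d * J.σ d) * h
  have ha := hab (J.σ c) (by rw [J.inv2, mul_comm])
  have hb := hab c rfl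
  exact ⟨ha, hb, cell_eq hc (rel1 h) (fun _ => rfl) (levC hc) le_rfl (rel1 ha) (rel1 hb)⟩

/-- The product rule. -/
theorem Known.mul {c v β : F} (h : c + J.σ c + v * J.σ v = 0) (hc : c ≠ 0) (hβ : β ≠ 0) (hβs : J.σ β = -β)
    (k1 : D.Known c v) (k2 : D.Known β 0) (k3 : D.Known (-J.η ^ 2 / c + -J.η ^ 2 / β) (J.η * v / c)) :
    D.Known (c + β) v := by
  intro h12 u hu e
  obtain ⟨ha₁, hb₁, e1⟩ := cell_u0 (m := m) h hc
  have h2 : β + J.σ β + (0 : F) * J.σ 0 = 0 := by rw [hβs]; simp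
  obtain ⟨ha₂, hb₂, e2⟩ := cell_u0 (m := m) h2 hβ
  obtain ⟨u1, hu1, hπ1⟩ := D.surj_P _ (kf_u0 (m := m) h)
  obtain ⟨u2, hu2, hπ2⟩ := D.surj_P _ (kf_u0 (m := m) h2)
  obtain ⟨x1, hx1, hπx1⟩ := D.surj_P _ (kf_u0 (m := m) ha₁)
  obtain ⟨y1, hy1, hπy1⟩ := D.surj_P _ (kf_u0 (m := m) hb₁)
  obtain ⟨x2, hx2, hπx2⟩ := D.surj_P _ (kf_u0 (m := m) ha₂)
  obtain ⟨y2, hy2, hπy2⟩ := D.surj_P _ (kf_u0 (m := m) hb₂)
  obtain ⟨l1, hl1, hπl1⟩ := D.surj_P _ (kf_lM (levC (J := J) (m := m) hc))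
  obtain ⟨l2, hl2, hπl2⟩ := D.surj_P _ (kf_lM (levC (J := J) (m := m) hβ))
  have c1 := (k1 h u1 hu1 hπ1).exact D (mul_mem hx1 hl1) hy1 (by
    simp only [map_mul, map_inv, D.πt, hπ1, hπx1, hπy1, hπl1, e1])
  have c2 := (k2 h2 u2 hu2 hπ2).exact D (mul_mem hx2 hl2) hy2 (by
    simp only [map_mul, map_inv, D.πt, hπ2, hπx2, hπy2, hπl2, e2])
  obtain ⟨h12', e12⟩ := u0_mul (m := m) h h2
  have hu12 : u = u1 * u2 := D.eq_P hu (mul_mem hu1 hu2) (by
    rw [map_mul, hπ1, hπ2, e12, e]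
    exact u0_congr _ _ (by simp) (by simp))
  obtain ⟨h3, e3⟩ := u0_mul (m := m) hb₁ ha₂
  obtain ⟨a, ha, b, hb, c3⟩ := k3 (by simpa using h3) (y1 * x2) (mul_mem hy1 hx2) (by
    rw [map_mul, hπy1, hπx2, e3]
    exact u0_congr _ _ (by simp) (by simp))
  have ht2 : D.t * l2 * D.t⁻¹ ∈ D.P := D.compat_P hl2 (by
    rw [hπl2]; exact kf_conj_lM _ 0 fun b hb => by simp [d0, Ne.symm hb])
  refine ⟨x1 * l1 * a, mul_mem (mul_mem hx1 hl1) ha, b * (D.t * l2 * D.t⁻¹) * (D.t * D.t) * y2,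
    mul_mem (mul_mem (mul_mem hb ht2) D.sq) hy2, ?_⟩
  calc D.t * u * D.t⁻¹ = (D.t * u1 * D.t⁻¹) * (D.t * u2 * D.t⁻¹) := by rw [hu12]; group
    _ = x1 * l1 * (D.t * (y1 * x2) * D.t⁻¹) * (D.t * l2 * D.t⁻¹) * (D.t * D.t) * y2 := by rw [c1, c2]; group
    _ = _ := by rw [c3]; group

/-- All cells from one of each kind. -/
theorem all_cells {ζ : F} (hgen : ∀ a : F, a ≠ 0 → ∃ i : ℕ, ζ ^ i = a)
    (hN : ∀ a : F, J.σ a = a → ∃ b, J.σ b * b = a) {c₁ v₁ : F} (h₁ : c₁ + J.σ c₁ + v₁ * J.σ v₁ = 0) (hv₁ : v₁ ≠ 0)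
    (hρ₁ : -J.σ c₁ / c₁ = J.σ ζ / ζ) (k₁ : D.Known c₁ v₁) (kη : D.Known J.η 0) :
    ∀ u ∈ D.P, IsU 0 (π u) → π u ≠ 1 → ∃ a ∈ D.P, ∃ b ∈ D.P, IsU 0 (π b) ∧ D.t * u * D.t⁻¹ = a * D.t * b := by
  have hne := J.η_ne
  have hz : ∀ β, β ≠ 0 → J.σ β = -β → D.Known β 0 := by
    intro β hβ hs
    obtain ⟨l, hl⟩ := hN (β / J.η) (by rw [map_div₀, hs, J.η_skew]; field_simp)
    have hl0 : l ≠ 0 := fun e => by rw [e, mul_zero] at hl; exact div_ne_zero hβ hne hl.symm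
    have := kη.torus D (by rw [J.η_skew]; simp) hl0
    rwa [mul_comm l, hl, div_mul_cancel₀ _ hne, mul_zero] at this
  let Kr : F → Prop := fun ρ => ∀ c v, c + J.σ c + v * J.σ v = 0 → v ≠ 0 → -J.σ c / c = ρ → D.Known c v
  have hc0 : ∀ {c v : F}, c + J.σ c + v * J.σ v = 0 → v ≠ 0 → c ≠ 0 := by
    intro c v h hv e
    subst e
    simp at h
    exact hv h
  have hscale : ∀ {c v c' v' : F}, c + J.σ c + v * J.σ v = 0 → v ≠ 0 → c' + J.σ c' + v' * J.σ v' = 0 → v' ≠ 0 →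
      -J.σ c / c = -J.σ c' / c' → D.Known c v → D.Known c' v' := by
    intro c v c' v' h hv h' hv' e hk
    have hc := hc0 h hv
    have hc' := hc0 h' hv'
    have hsv : J.σ v ≠ 0 := by simpa using hv
    have := hk.torus D h (div_ne_zero hv' hv)
    rw [div_mul_cancel₀ _ hv] at this
    convert this using 1
    rw [map_div₀]
    field_simp at e ⊢
    first
      | linear_combination c * h' - c' * h - e
      | linear_combination c' * h - c * h' + e
  have hbase : Kr (J.σ ζ / ζ) := fun c v h hv e => hscale h₁ hv₁ h hv (hρ₁.trans e.symm) k₁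
  have hstep : ∀ ρ σ', Kr ρ → Kr σ' → ρ * σ' ≠ 1 → σ' ≠ 1 → (∃ c v, c + J.σ c + v * J.σ v = 0 ∧ v ≠ 0 ∧ -J.σ c / c = ρ) →
      Kr (ρ * σ') := by
    intro ρ σ' kρ kσ hne1 hσ1 ⟨c, v, h, hv, hρ⟩ c' v' h' hv' e'
    have hc := hc0 h hv
    have hc' := hc0 h' hv'
    have hsv : J.σ v ≠ 0 := by simpa using hv
    have hsv' : J.σ v' ≠ 0 := by simpa using hv'
    have hsc : J.σ c ≠ 0 := by simpa using hc
    -- rescale
    obtain ⟨d, hd⟩ : ∃ d, d = (v / v') * J.σ (v / v') * c' := ⟨_, rfl⟩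
    have hvv : v / v' ≠ 0 := div_ne_zero hv hv'
    have hd0 : d ≠ 0 := by rw [hd]; exact mul_ne_zero (mul_ne_zero hvv (by simpa using hvv)) hc'
    have hdrel : d + J.σ d + v * J.σ v = 0 := by
      rw [hd, map_mul, map_mul, J.inv2, map_div₀]
      field_simp
      linear_combination (v * J.σ v) * h'
    have hdρ : -J.σ d / d = ρ * σ' := by
      rw [← e', hd, map_mul, map_mul, J.inv2, map_div₀]
      field_simp
    refine hscale hdrel hv h' hv' (hdρ.trans e'.symm) ?_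
    set β := d - c with hβdef
    have hβ : β ≠ 0 := fun e => by
      rw [sub_eq_zero] at e
      rw [e, hρ] at hdρ
      have hρ0 : ρ ≠ 0 := by rw [← hρ]; exact div_ne_zero (neg_ne_zero.2 hsc) hc
      exact hσ1 (mul_left_cancel₀ hρ0 (hdρ.symm.trans (mul_one _).symm))
    have hβs : J.σ β = -β := by rw [hβdef, map_sub]; linear_combination hdrel - h
    clear_value β
    obtain ⟨ha₁, hb₁, -⟩ := cell_u0 (m := m) h hc
    have h3rel : -J.η ^ 2 / c + -J.η ^ 2 / β + J.σ (-J.η ^ 2 / c + -J.η ^ 2 / β) +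
        J.η * v / c * J.σ (J.η * v / c) = 0 := by
      rw [map_add, map_div₀ J.σ (-J.η ^ 2) β, hβs, map_neg, map_pow, J.η_skew] at *
      linear_combination hb₁
    have hcd : c + β = d := by rw [hβdef]; ring
    have k3 := kσ _ _ h3rel (div_ne_zero (mul_ne_zero hne hv) hc) (by
      have hρ0 : ρ ≠ 0 := by rw [← hρ]; exact div_ne_zero (neg_ne_zero.2 hsc) hc
      refine mul_left_cancel₀ hρ0 ?_
      rw [← hdρ, ← hρ, map_add, map_div₀, map_div₀, map_neg, map_pow, J.η_skew, hβs,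
        show J.σ d = J.σ c + -β by rw [← hcd, map_add, hβs], ← hcd]
      have : c + β ≠ 0 := by rw [hcd]; exact hd0
      have h4 : β + c ≠ 0 := by rwa [add_comm]
      have h5 : -β - c ≠ 0 := fun e => this (by linear_combination -e)
      have eden : -J.η ^ 2 / c + -J.η ^ 2 / β = -J.η ^ 2 * (c + β) / (c * β) := by field_simp; ring
      have enum : -(-J.η) ^ 2 / J.σ c + -(-J.η) ^ 2 / -β = -J.η ^ 2 * (J.σ c - β) / (J.σ c * -β) := by
        field_simp; ring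
      rw [eden, enum]
      field_simp
      ring)
    have := Known.mul D h hc hβ hβs (kρ c v h hv hρ) (hz β hβ hβs) k3
    rwa [hcd] at this
  set ρ₁ := J.σ ζ / ζ with hρ₁def
  have hpow : ∀ i : ℕ, ρ₁ ^ i = 1 ∨ (Kr (ρ₁ ^ i)) := by
    intro i
    induction i with
    | zero => exact Or.inl (pow_zero _)
    | succ i ih =>
      by_cases h1 : ρ₁ ^ (i + 1) = 1
      · exact Or.inl h1
      refine Or.inr ?_
      rcases ih with e | hk
      · rw [pow_succ, e, one_mul]; exact hbase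
      · by_cases hr : ρ₁ = 1
        · exact absurd (by rw [hr, one_pow]) h1
        rw [pow_succ']
        by_cases hi1 : ρ₁ ^ i = 1
        · rw [hi1, mul_one]; exact hbase
        exact hstep ρ₁ _ hbase hk (by rwa [← pow_succ']) hi1
          ⟨c₁, v₁, h₁, hv₁, hρ₁⟩
  intro u hu ⟨c, xv, hrel, eu⟩ hu1
  obtain ⟨v, rfl⟩ : ∃ v, xv = fun _ => v := ⟨xv 0, funext fun e => by rw [Subsingleton.elim e 0]⟩
  have hr : c + J.σ c + v * J.σ v = 0 := by
    have h := congrFun (congrFun hrel 0) 0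
    rw [rowM_mul, st_single, Fin.sum_univ_one] at h
    simpa using h
  have hknown : D.Known c v := by
    rcases eq_or_ne v 0 with rfl | hv
    · refine hz c (fun e => hu1 ?_) (by simp at hr; linear_combination hr)
      subst e
      rw [eu]
      exact mat_inj (by
        rw [mat_uM, mat_one, show rowM (0 : Fin m) (fun _ : Fin 1 => (0 : F)) = 0 from by ext; simp [rowM],
          Matrix.single_zero, uMat_zero])
    have hc := hc0 hr hv
    obtain ⟨i, hi⟩ := hgen (J.η * c) (mul_ne_zero hne hc)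
    have e : -J.σ c / c = ρ₁ ^ i := by
      rw [hρ₁def, div_pow, ← map_pow, hi, map_mul, J.η_skew]; field_simp
    rcases hpow i with h1 | hk
    · exfalso
      rw [h1, div_eq_one_iff_eq hc] at e
      have hsv : J.σ v ≠ 0 := by simpa using hv
      exact mul_ne_zero hv hsv (by linear_combination hr + e)
    · exact hk c v hr hv e
  obtain ⟨a, ha, b, hb, hc⟩ := hknown hr u hu (by rw [eu]; exact uM_congr _ _ rfl rfl)
  have hc' : c ≠ 0 := fun e => by
    subst e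
    simp at hr
    subst hr
    exact hu1 (by rw [eu]; exact mat_inj (by
        rw [mat_uM, mat_one, show rowM (0 : Fin m) (fun _ : Fin 1 => (0 : F)) = 0 from by ext; simp [rowM],
          Matrix.single_zero, uMat_zero]))
  obtain ⟨hA, hB, ecell⟩ := cell_u0 (m := m) hr hc'
  obtain ⟨x, hx, hπx⟩ := D.surj_P _ (kf_u0 (m := m) hA)
  obtain ⟨y, hy, hπy⟩ := D.surj_P _ (kf_u0 (m := m) hB)
  obtain ⟨l, hl, hπl⟩ := D.surj_P _ (kf_lM (levC (J := J) (m := m) hc'))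
  refine ⟨x * l, mul_mem hx hl, y, hy, ⟨_, _, _, hπy⟩, Cell.exact D ⟨a, ha, b, hb, hc⟩ (mul_mem hx hl) hy ?_⟩
  simp only [map_mul, map_inv, D.πt, eu, hπx, hπy, hπl]
  exact ecell

end ParData

end Cfsg.Lib.Linear.ShortPres.SUN
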