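import Cfsg.Agent.Lib.Linear.ShortPres.SUN.ModelFacts

/-!
# A covering of the model group that is faithful on a parabolic subgroup is faithful
-/

set_option autoImplicit false
set_option linter.unusedSectionVars false

namespace Cfsg.Lib.Linear.ShortPres.SUN

open Matrix Cfsg.Lib.Linear.SUDegree Cfsg.Lib.Linear.Herm

variable {F : Type*} [Field F] {J : Conj F} {m ε : ℕ}

section Model

/-- The signed exchange of two indices. -/
def wj {a b : Fin m} (h : a ≠ b) : SpecialLinearGroup (Fin m) F := tv h 1 * tv h.symm (-1) * tv h 1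

theorem wj_coe {a b : Fin m} (h : a ≠ b) :
    (wj (F := F) h).1 = 1 - eu a - eu b + Matrix.single a b 1 - Matrix.single b a 1 := by
  rw [wj, Matrix.SpecialLinearGroup.coe_mul, Matrix.SpecialLinearGroup.coe_mul, tv_coe, tv_coe]
  simp [Matrix.add_mul, Matrix.mul_add, Matrix.single_mul_single_same, Matrix.single_mul_single_of_ne _ _ _ _ h,
    Matrix.single_mul_single_of_ne _ _ _ _ h.symm, Matrix.smul_single]
  ext i j
  simp only [Matrix.add_apply, Matrix.sub_apply, Matrix.single_apply, Matrix.one_apply]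
  split_ifs <;> ring

theorem wj_eu {a b : Fin m} (h : a ≠ b) (i : Fin m) :
    (wj (F := F) h).1 * eu i = eu (Equiv.swap a b i) * (wj (F := F) h).1 := by
  rw [wj_coe]
  rcases eq_or_ne i a with rfl | ha
  · rw [Equiv.swap_apply_left]
    simp [Matrix.add_mul, Matrix.mul_add, Matrix.sub_mul, Matrix.mul_sub, Matrix.single_mul_single_same,
      Matrix.single_mul_single_of_ne _ _ _ _ h, Matrix.single_mul_single_of_ne _ _ _ _ h.symm]
  rcases eq_or_ne i b with rfl | hb
  · rw [Equiv.swap_apply_right]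
    simp [Matrix.add_mul, Matrix.mul_add, Matrix.sub_mul, Matrix.mul_sub, Matrix.single_mul_single_same,
      Matrix.single_mul_single_of_ne _ _ _ _ h, Matrix.single_mul_single_of_ne _ _ _ _ h.symm]
  rw [Equiv.swap_apply_of_ne_of_ne ha hb]
  simp [Matrix.add_mul, Matrix.mul_add, Matrix.sub_mul, Matrix.mul_sub,
    Matrix.single_mul_single_of_ne _ _ _ _ ha, Matrix.single_mul_single_of_ne _ _ _ _ hb,
    Matrix.single_mul_single_of_ne _ _ _ _ (Ne.symm ha), Matrix.single_mul_single_of_ne _ _ _ _ (Ne.symm hb)]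

theorem wj_st_inv (J : Conj F) {a b : Fin m} (h : a ≠ b) :
    st J.σ ((wj (F := F) h)⁻¹).1 = (wj (F := F) h).1 := by
  have hinv : ((wj (F := F) h)⁻¹).1 = (wj (F := F) h).1ᵀ := by
    have h1 : (wj (F := F) h).1 * (wj (F := F) h).1ᵀ = 1 := by
      rw [wj_coe]
      simp [Matrix.add_mul, Matrix.mul_add, Matrix.sub_mul, Matrix.mul_sub, Matrix.single_mul_single_same,
        Matrix.single_mul_single_of_ne _ _ _ _ h, Matrix.single_mul_single_of_ne _ _ _ _ h.symm,
        Matrix.transpose_single]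
      abel
    calc ((wj (F := F) h)⁻¹).1 = ((wj (F := F) h)⁻¹).1 * ((wj (F := F) h).1 * (wj (F := F) h).1ᵀ) := by
          rw [h1, Matrix.mul_one]
      _ = _ := by rw [← Matrix.mul_assoc, ← Matrix.SpecialLinearGroup.coe_mul, inv_mul_cancel]; simp
  rw [hinv, wj_coe]
  ext i j
  simp [st, Matrix.one_apply, Matrix.single_apply, apply_ite J.σ]
  by_cases h1 : i = j <;> by_cases h2 : a = i <;> by_cases h3 : b = i <;> by_cases h4 : a = j <;> by_cases h5 : b = j <;> simp_all [eq_comm]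

theorem wj_tM {a b : Fin m} (h : a ≠ b) (i : Fin m) :
    slM J m ε (wj h) * tM J ε i = tM J ε (Equiv.swap a b i) * slM J m ε (wj h) :=
  lM_tM (levOK_sl _) i _ (wj_eu h i) (by rw [sl_inv_gl, wj_st_inv]; exact wj_eu h i)
    (by rw [sl_inv_gl, wj_st_inv]; exact wj_eu h i)

/-- Elements with trivial lower block form a submonoid. -/
theorem kf_mul (hε : ε ≤ 1) {g h : Mg J m ε} (hg : kf g = 0) (hh : kf h = 0) : kf (g * h) = 0 := by
  obtain ⟨C, μ, hC, H, X, hu, rfl⟩ := exists_par hε hg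
  rw [mul_assoc, kf_uM_mul, kf_lM_mul, hh, Matrix.mul_zero]

theorem kf_one : kf (1 : Mg J m ε) = 0 := by
  ext i j; simp [kf]

theorem kf_inv (hε : ε ≤ 1) {g : Mg J m ε} (hg : kf g = 0) : kf g⁻¹ = 0 := by
  obtain ⟨C, μ, hC, H, X, hu, rfl⟩ := exists_par hε hg
  obtain ⟨h', e'⟩ := lM_inv hC
  obtain ⟨hu', e''⟩ := uM_inv hu
  rw [_root_.mul_inv_rev, e', e'', kf_lM_mul, kf_uM, Matrix.mul_zero]

end Model

/-- The hypotheses on a covering. -/
structure Core [NeZero m] (J : Conj F) (G : Type*) [Group G] (π : G →* Mg J m ε) where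
  hε : ε ≤ 1
  hm : 2 ≤ m
  P : Subgroup G
  kfP : ∀ p ∈ P, kf (π p) = 0
  inj : ∀ p ∈ P, π p = 1 → p = 1
  surj : ∀ M : Mg J m ε, kf M = 0 → ∃ p ∈ P, π p = M
  t : G
  πt : π t = tM J ε 0
  sq : t * t ∈ P
  compat : ∀ p ∈ P, kf (tM J ε 0 * π p * (tM J ε 0)⁻¹) = 0 → t * p * t⁻¹ ∈ P
  cell : ∀ u ∈ P, IsU 0 (π u) → π u ≠ 1 → ∃ a ∈ P, ∃ b ∈ P, IsU 0 (π b) ∧ t * u * t⁻¹ = a * t * b
  comm : ∀ (j : Fin m) (hj : (0 : Fin m) ≠ j), ∀ w ∈ P, π w = slM J m ε (wj hj) → Commute t (w * t * w⁻¹)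
  gen : Subgroup.closure ((P : Set G) ∪ {t}) = ⊤

namespace Core

variable [NeZero m] {G : Type*} [Group G] {π : G →* Mg J m ε} (D : Core J G π)

theorem eq_of_image {p p' : G} (hp : p ∈ D.P) (hp' : p' ∈ D.P) (h : π p = π p') : p = p' := by
  have := D.inj (p * p'⁻¹) (mul_mem hp (inv_mem hp')) (by rw [map_mul, map_inv, h, mul_inv_cancel])
  exact mul_inv_eq_one.1 this

/-- The element of the parabolic subgroup over an image. -/
noncomputable def lift (M : Mg J m ε) : G := open Classical in if h : kf M = 0 then (D.surj M h).choose else 1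

theorem lift_mem (M : Mg J m ε) : D.lift M ∈ D.P := by
  unfold lift
  split_ifs with h
  · exact (D.surj M h).choose_spec.1
  · exact one_mem _

theorem π_lift {M : Mg J m ε} (h : kf M = 0) : π (D.lift M) = M := by
  rw [lift, dif_pos h]
  exact (D.surj M h).choose_spec.2

/-- The reflections. -/
noncomputable def tj (i : Fin m) : G :=
  if h : (0 : Fin m) = i then D.t
  else D.lift (slM J m ε (wj h)) * D.t * (D.lift (slM J m ε (wj h)))⁻¹

theorem tj_zero : D.tj 0 = D.t := by simp [tj]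

theorem kf_slM (C : SpecialLinearGroup (Fin m) F) : kf (slM J m ε C) = 0 := kf_lM (levOK_sl C)

theorem π_tj (i : Fin m) : π (D.tj i) = tM J ε i := by
  rcases eq_or_ne (0 : Fin m) i with rfl | h
  · rw [tj_zero, D.πt]
  · rw [tj, dif_neg h, map_mul, map_mul, map_inv, D.π_lift (kf_slM _), D.πt, wj_tM h 0, Equiv.swap_apply_left,
      mul_inv_cancel_right]

theorem compat' {p : G} (hp : p ∈ D.P) {i : Fin m}
    (h : kf (tM J ε i * π p * (tM J ε i)⁻¹) = 0) : D.tj i * p * (D.tj i)⁻¹ ∈ D.P := by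
  rcases eq_or_ne (0 : Fin m) i with rfl | hi
  · rw [tj_zero]; exact D.compat p hp h
  · rw [tj, dif_neg hi]
    set w := D.lift (slM J m ε (wj hi)) with hw
    have hwP : w ∈ D.P := D.lift_mem _
    have hπw : π w = slM J m ε (wj hi) := D.π_lift (kf_slM _)
    have h2 : kf (tM J ε 0 * π (w⁻¹ * p * w) * (tM J ε 0)⁻¹) = 0 := by
      have e : tM J ε 0 * π (w⁻¹ * p * w) * (tM J ε 0)⁻¹ =
          (slM J m ε (wj hi))⁻¹ * (tM J ε i * π p * (tM J ε i)⁻¹) * slM J m ε (wj hi) := by
        have e0 := wj_tM (J := J) (ε := ε) hi 0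
        rw [Equiv.swap_apply_left] at e0
        rw [show tM J ε i = slM J m ε (wj hi) * tM J ε 0 * (slM J m ε (wj hi))⁻¹ by rw [e0, mul_inv_cancel_right],
          map_mul, map_mul, map_inv, hπw]
        group
      rw [e]
      exact kf_mul D.hε (kf_mul D.hε (kf_inv D.hε (kf_slM _)) h) (kf_slM _)
    have h3 := D.compat _ (mul_mem (mul_mem (inv_mem hwP) hp) hwP) h2
    have := mul_mem (mul_mem hwP h3) (inv_mem hwP)
    convert this using 1
    group

theorem commute_tj {p : G} (hp : p ∈ D.P) {i : Fin m} (h : Commute (tM J ε i) (π p)) : Commute (D.tj i) p := by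
  have e : tM J ε i * π p * (tM J ε i)⁻¹ = π p := h.mul_inv_cancel
  have h1 := D.compat' hp (i := i) (by rw [e]; exact D.kfP p hp)
  have h2 := D.eq_of_image h1 hp (by rw [map_mul, map_mul, map_inv, π_tj, e])
  exact mul_inv_eq_iff_eq_mul.1 h2

theorem compat_inv {p : G} (hp : p ∈ D.P) {i : Fin m}
    (h : kf (tM J ε i * π p * (tM J ε i)⁻¹) = 0) : (D.tj i)⁻¹ * p * D.tj i ∈ D.P := by
  have hsq : D.tj i * D.tj i ∈ D.P := by
    rcases eq_or_ne (0 : Fin m) i with rfl | hi
    · rw [tj_zero]; exact D.sq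
    · rw [tj, dif_neg hi]
      have := mul_mem (mul_mem (D.lift_mem (slM J m ε (wj hi))) D.sq) (inv_mem (D.lift_mem (slM J m ε (wj hi))))
      convert this using 1
      group
  have := mul_mem (mul_mem (inv_mem hsq) (D.compat' hp h)) hsq
  convert this using 1
  group

/-- Conjugation by the exchanges permutes the reflections. -/
theorem wj_tj {j : Fin m} (hj : (0 : Fin m) ≠ j) (i : Fin m) :
    D.lift (slM J m ε (wj hj)) * D.tj i * (D.lift (slM J m ε (wj hj)))⁻¹ = D.tj (Equiv.swap 0 j i) := by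
  set w := D.lift (slM J m ε (wj hj)) with hw
  have hπ : π w = slM J m ε (wj hj) := D.π_lift (kf_slM _)
  rcases eq_or_ne i 0 with rfl | hi0
  · rw [Equiv.swap_apply_left, tj_zero, tj, dif_neg hj]
  rcases eq_or_ne i j with rfl | hij
  · rw [Equiv.swap_apply_right, tj_zero]
    conv_lhs => rw [tj, dif_neg hj, ← hw]
    have hc : Commute D.t (w * w) := by
      have h := D.commute_tj (p := w * w) (mul_mem (D.lift_mem _) (D.lift_mem _)) (i := 0) (by
        rw [map_mul, hπ]
        have e0 := wj_tM (J := J) (ε := ε) hj 0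
        have e1 := wj_tM (J := J) (ε := ε) hj i
        rw [Equiv.swap_apply_left] at e0
        rw [Equiv.swap_apply_right] at e1
        show tM J ε 0 * (slM J m ε (wj hj) * slM J m ε (wj hj)) = _
        rw [mul_assoc (slM J m ε (wj hj)), e0, ← mul_assoc, ← mul_assoc, e1])
      rwa [tj_zero] at h
    calc w * (w * D.t * w⁻¹) * w⁻¹ = w * w * D.t * (w * w)⁻¹ := by group
      _ = D.t := by rw [← hc.eq, mul_inv_cancel_right]
  · rw [Equiv.swap_apply_of_ne_of_ne hi0 hij]
    have h := D.commute_tj (p := w) (D.lift_mem _) (i := i) (by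
      rw [hπ]
      have e := wj_tM (J := J) (ε := ε) hj i
      rw [Equiv.swap_apply_of_ne_of_ne hi0 hij] at e
      exact e.symm)
    rw [h.symm.eq, mul_inv_cancel_right]

theorem tj_comm (i j : Fin m) : Commute (D.tj i) (D.tj j) := by
  have base : ∀ j : Fin m, Commute D.t (D.tj j) := by
    intro j
    rcases eq_or_ne (0 : Fin m) j with rfl | hj
    · rw [tj_zero]
    · rw [tj, dif_neg hj]
      exact D.comm j hj _ (D.lift_mem _) (D.π_lift (kf_slM _))
  rcases eq_or_ne i j with rfl | hij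
  · exact Commute.refl _
  rcases eq_or_ne i 0 with rfl | hi
  · rw [tj_zero]; exact base j
  have h := (base (Equiv.swap 0 i j)).map (MulAut.conj (D.lift (slM J m ε (wj (Ne.symm hi))))).toMonoidHom
  simp only [MulEquiv.coe_toMonoidHom, MulAut.conj_apply] at h
  rwa [D.wj_tj, Equiv.swap_apply_self, ← tj_zero D, D.wj_tj, Equiv.swap_apply_left] at h

/-- A product of reflections. -/
noncomputable def wS (S : Finset (Fin m)) : G := S.noncommProd D.tj fun i _ j _ _ => D.tj_comm i j

theorem wS_insert {S : Finset (Fin m)} {a : Fin m} (h : a ∉ S) : D.wS (insert a S) = D.tj a * D.wS S :=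
  Finset.noncommProd_insert_of_notMem _ _ _ _ h

theorem wS_empty : D.wS ∅ = 1 := Finset.noncommProd_empty _ _

theorem wS_commute {S : Finset (Fin m)} {x : G} (h : ∀ i ∈ S, Commute x (D.tj i)) : Commute x (D.wS S) :=
  Finset.noncommProd_commute _ _ _ _ h

theorem wS_block (S : Finset (Fin m)) :
    (∀ a b, mat (π (D.wS S)) (Sum.inl (Sum.inr a)) (Sum.inl (Sum.inl b)) =
        if a = b ∧ a ∈ S then -J.η⁻¹ else 0) ∧
      ∀ a b, mat (π (D.wS S)) (Sum.inl (Sum.inl a)) (Sum.inl (Sum.inl b)) =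
        if a = b ∧ a ∉ S then 1 else 0 := by
  induction S using Finset.induction with
  | empty =>
    rw [D.wS_empty, map_one, mat_one]
    constructor <;> intro a b <;> simp [Matrix.one_apply]
  | insert s S hs ih =>
    obtain ⟨ih1, ih2⟩ := ih
    rw [D.wS_insert hs, map_mul, π_tj]
    constructor <;> intro a b
    · rw [tM_col]
      rcases eq_or_ne a s with rfl | ha
      · rw [if_pos rfl, ih2]
        simp [hs]
      · rw [if_neg ha, ih1]
        simp [ha]
    · rw [mat_mul, mat_tM]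
      rcases eq_or_ne a s with rfl | ha
      · simp [Matrix.mul_apply, Fintype.sum_sum_type, Matrix.one_apply, Matrix.single_apply, ih1, ih2, hs, ite_and]
        intro hb hab
        exact absurd (hab ▸ hb) hs
      · simp [Matrix.mul_apply, Fintype.sum_sum_type, Matrix.one_apply, Matrix.single_apply, ih1, ih2, ha, Ne.symm ha, ite_and]
        by_cases hab : a = b <;> simp_all

theorem kf_wS {S : Finset (Fin m)} (h : kf (π (D.wS S)) = 0) : S = ∅ := by
  refine Finset.eq_empty_of_forall_notMem fun a ha => ?_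
  have := congrFun (congrFun h a) a
  change mat _ _ _ = _ at this
  rw [(D.wS_block S).1, if_pos ⟨rfl, ha⟩, Matrix.zero_apply, neg_eq_zero, inv_eq_zero] at this
  exact J.η_ne this

/-- Elements conjugated into the parabolic subgroup by a product of reflections. -/
noncomputable def R (S : Finset (Fin m)) : Subgroup G := D.P ⊓ D.P.comap (MulAut.conj (D.wS S)⁻¹).toMonoidHom

theorem mem_R {S : Finset (Fin m)} {p : G} : p ∈ D.R S ↔ p ∈ D.P ∧ (D.wS S)⁻¹ * p * D.wS S ∈ D.P := by
  simp [R]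

theorem kf_conj_tv {a b : Fin m} (hab : a ≠ b) (c : F) :
    kf (tM J ε b * slM J m ε (tv hab c) * (tM J ε b)⁻¹) = 0 :=
  kf_conj_lM (levOK_sl _) b fun x hx => by
    show (tv hab c).1 b x = 0
    simp [tv_coe, Matrix.one_apply, Matrix.single_apply, Ne.symm hx, hab]

theorem commute_tv {a b i : Fin m} (hab : a ≠ b) (hia : i ≠ a) (hib : i ≠ b) (c : F) :
    Commute (D.lift (slM J m ε (tv hab c))) (D.tj i) :=
  (D.commute_tj (D.lift_mem _) (by
    rw [D.π_lift (kf_slM _)]
    exact (slM_tM_comm _ i (fun x => by simp [tv_coe, Matrix.one_apply, Matrix.single_apply, Ne.symm hia])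
      (fun x => by simp [tv_coe, Matrix.one_apply, Matrix.single_apply, Ne.symm hib])).symm)).symm

theorem tv_mem_R {S : Finset (Fin m)} {a b : Fin m} (hab : a ≠ b) (c : F) (h : a ∈ S → b ∈ S) :
    D.lift (slM J m ε (tv hab c)) ∈ D.R S := by
  classical
  set p := D.lift (slM J m ε (tv hab c)) with hp
  have hpP : p ∈ D.P := D.lift_mem _
  have hπp : π p = slM J m ε (tv hab c) := D.π_lift (kf_slM _)
  refine D.mem_R.2 ⟨hpP, ?_⟩
  by_cases hb : b ∈ S
  · set p₁ := (D.tj b)⁻¹ * p * D.tj b with hp₁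
    have hp₁P : p₁ ∈ D.P := D.compat_inv hpP (by rw [hπp]; exact kf_conj_tv hab c)
    obtain ⟨hu, e⟩ := tv_tM (J := J) (ε := ε) hab c
    have hπ₁ : π p₁ = uM hu := by
      rw [hp₁, map_mul, map_mul, map_inv, π_tj, hπp, mul_assoc, e, inv_mul_cancel_left]
    by_cases ha : a ∈ S
    · have hp₂ : (D.tj a)⁻¹ * p₁ * D.tj a ∈ D.P := D.compat_inv hp₁P (by
        rw [hπ₁]
        exact kf_conj_uM a hu (by simp [Matrix.single_apply, hab, hab.symm]))
      have hS : D.wS S = D.tj b * D.tj a * D.wS ((S.erase b).erase a) := by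
        conv_lhs => rw [← Finset.insert_erase hb]
        rw [D.wS_insert (Finset.notMem_erase _ _)]
        conv_lhs => rw [← Finset.insert_erase (Finset.mem_erase.2 ⟨hab, ha⟩ : a ∈ S.erase b)]
        rw [D.wS_insert (Finset.notMem_erase _ _), mul_assoc]
      have hc : Commute ((D.tj a)⁻¹ * p₁ * D.tj a) (D.wS ((S.erase b).erase a)) := by
        refine D.wS_commute fun i hi => ?_
        simp only [Finset.mem_erase] at hi
        exact ((((D.tj_comm i a).symm.inv_left).mul_left (((D.tj_comm i b).symm.inv_left).mul_left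
          (D.commute_tv hab hi.1 hi.2.1 c) |>.mul_left (D.tj_comm i b).symm)).mul_left (D.tj_comm i a).symm)
      rw [hS]
      convert hp₂ using 1
      calc (D.tj b * D.tj a * D.wS ((S.erase b).erase a))⁻¹ * p * (D.tj b * D.tj a * D.wS ((S.erase b).erase a))
          = (D.wS ((S.erase b).erase a))⁻¹ * ((D.tj a)⁻¹ * p₁ * D.tj a * D.wS ((S.erase b).erase a)) := by
            rw [hp₁]; group
        _ = _ := by rw [hc.eq, inv_mul_cancel_left]
    · have hS : D.wS S = D.tj b * D.wS (S.erase b) := by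
        conv_lhs => rw [← Finset.insert_erase hb]
        rw [D.wS_insert (Finset.notMem_erase _ _)]
      have hc : Commute p₁ (D.wS (S.erase b)) := by
        refine D.wS_commute fun i hi => ?_
        simp only [Finset.mem_erase] at hi
        exact (((D.tj_comm i b).symm.inv_left).mul_left
          (D.commute_tv hab (fun e => ha (e ▸ hi.2)) hi.1 c)).mul_left (D.tj_comm i b).symm
      rw [hS]
      convert hp₁P using 1
      calc (D.tj b * D.wS (S.erase b))⁻¹ * p * (D.tj b * D.wS (S.erase b))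
          = (D.wS (S.erase b))⁻¹ * (p₁ * D.wS (S.erase b)) := by rw [hp₁]; group
        _ = _ := by rw [hc.eq, inv_mul_cancel_left]
  · have ha : a ∉ S := fun ha => hb (h ha)
    have hc : Commute p (D.wS S) := D.wS_commute fun i hi =>
      D.commute_tv hab (fun e => ha (e ▸ hi)) (fun e => hb (e ▸ hi)) c
    convert hpP using 1
    rw [mul_assoc, hc.eq, inv_mul_cancel_left]

/-- A row operation in `R S`. -/
theorem exists_row {S : Finset (Fin m)} (j : Fin m) (ρ : Fin m → F) (hρ : ρ j = 1)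
    (hsupp : j ∈ S → ∀ b, b ∉ S → ρ b = 0) :
    ∃ r ∈ D.R S, ∃ C : SpecialLinearGroup (Fin m) F, π r = slM J m ε C ∧ C.1 j = ρ ∧
      ∀ a, a ≠ j → C.1 a = (1 : Matrix (Fin m) (Fin m) F) a := by
  classical
  suffices key : ∀ s : Finset (Fin m), j ∉ s → ∃ r ∈ D.R S, ∃ C : SpecialLinearGroup (Fin m) F,
      π r = slM J m ε C ∧ (∀ b, C.1 j b = if b ∈ s then ρ b else if j = b then 1 else 0) ∧
      ∀ a, a ≠ j → C.1 a = (1 : Matrix (Fin m) (Fin m) F) a by
    obtain ⟨r, hr, C, e, h1, h2⟩ := key (Finset.univ.erase j) (Finset.notMem_erase _ _)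
    refine ⟨r, hr, C, e, funext fun b => ?_, h2⟩
    rcases eq_or_ne j b with rfl | hb
    · rw [h1]; simp [hρ]
    · rw [h1]; simp [Ne.symm hb]
  intro s
  induction s using Finset.induction with
  | empty =>
    intro _
    exact ⟨1, one_mem _, 1, by rw [map_one, map_one], fun b => by simp [Matrix.one_apply], fun a _ => by simp⟩
  | insert b s hb ih =>
    intro hj
    rw [Finset.mem_insert, not_or] at hj
    obtain ⟨r, hr, C, e, h1, h2⟩ := ih hj.2
    by_cases hρb : ρ b = 0
    · refine ⟨r, hr, C, e, fun x => ?_, h2⟩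
      rw [h1]
      rcases eq_or_ne x b with rfl | hx
      · simp [hb, hρb, hj.1]
      · simp [hx]
    refine ⟨D.lift (slM J m ε (tv hj.1 (ρ b))) * r, mul_mem (D.tv_mem_R hj.1 _ fun hjS => ?_) hr,
      tv hj.1 (ρ b) * C, by rw [map_mul, D.π_lift (kf_slM _), e, map_mul], fun x => ?_, fun a ha => ?_⟩
    · by_contra hbS
      exact hρb (hsupp hjS b hbS)
    · have hCb : C.1 b x = if b = x then 1 else 0 := by rw [h2 b (Ne.symm hj.1), Matrix.one_apply]
      rw [Matrix.SpecialLinearGroup.coe_mul, tv_coe, Matrix.add_mul, Matrix.add_apply, Matrix.one_mul,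
        Matrix.single_mul_apply_same, h1, hCb]
      rcases eq_or_ne x b with rfl | hx
      · simp [hb, hj.1]
      · simp [hx, Ne.symm hx]
    · funext x
      rw [Matrix.SpecialLinearGroup.coe_mul, tv_coe, Matrix.add_mul, Matrix.add_apply, Matrix.one_mul,
        Matrix.single_mul_apply_of_ne _ _ _ _ _ ha, add_zero, h2 a ha]

/-- The double cosets. -/
def Cov (g : G) : Prop := ∃ S : Finset (Fin m), ∃ p ∈ D.P, ∃ p' ∈ D.P, g = p * D.wS S * p'

theorem Cov.left {p g : G} (hp : p ∈ D.P) (h : D.Cov g) : D.Cov (p * g) := by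
  obtain ⟨S, a, ha, b, hb, rfl⟩ := h
  exact ⟨S, p * a, mul_mem hp ha, b, hb, by simp [mul_assoc]⟩

theorem Cov.right {p g : G} (hp : p ∈ D.P) (h : D.Cov g) : D.Cov (g * p) := by
  obtain ⟨S, a, ha, b, hb, rfl⟩ := h
  exact ⟨S, a, ha, b * p, mul_mem hb hp, by simp [mul_assoc]⟩

theorem cov_wS (S : Finset (Fin m)) : D.Cov (D.wS S) := ⟨S, 1, one_mem _, 1, one_mem _, by simp⟩

theorem cov_radical (S : Finset (Fin m)) {n : G} (hn : n ∈ D.P) {H : Matrix (Fin m) (Fin m) F}
    {X : Matrix (Fin m) (Fin ε) F} (hu : H + st J.σ H + X * st J.σ X = 0) (hπ : π n = uM hu) :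
    D.Cov (D.t * n * D.wS S) := by
  classical
  obtain ⟨g₀, H', X', hu', hg₀, hH', e⟩ := split_at 0 hu
  obtain ⟨n', hn', hπ'⟩ := D.surj (uM hu') (kf_uM hu')
  obtain ⟨u, hu0, hπu⟩ := D.surj g₀ hg₀.kf_eq
  have hsplit : n = n' * u := D.eq_of_image hn (mul_mem hn' hu0) (by rw [map_mul, hπ', hπu, hπ, e])
  have hleft : D.t * n' * D.t⁻¹ ∈ D.P := D.compat n' hn' (by rw [hπ']; exact kf_conj_uM 0 hu' hH')
  suffices key : D.Cov (D.t * u * D.wS S) by
    have := Cov.left D hleft key
    convert this using 1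
    rw [hsplit]; group
  by_cases h0 : (0 : Fin m) ∈ S
  · have hS : D.wS S = D.t * D.wS (S.erase 0) := by
      conv_lhs => rw [← Finset.insert_erase h0]
      rw [D.wS_insert (Finset.notMem_erase _ _), tj_zero]
    by_cases hu1 : π u = 1
    · rw [D.inj u hu0 hu1, mul_one, hS, ← mul_assoc]
      exact Cov.left D D.sq (D.cov_wS _)
    obtain ⟨a, ha, b, hb, hbU, hcell⟩ := D.cell u hu0 (hπu ▸ hg₀) hu1
    have hc : Commute b (D.wS (S.erase 0)) := D.wS_commute fun i hi =>
      (D.commute_tj hb (hbU.tM_comm (Finset.mem_erase.1 hi).1)).symm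
    have htu : D.t * u = a * D.t * b * D.t := by rw [← hcell, inv_mul_cancel_right]
    have : D.Cov (a * (D.t * D.t) * (D.t * D.t)⁻¹ * (D.t * b * D.t * D.t * D.wS (S.erase 0))) := by
      have h2 : D.Cov (D.t * (D.wS (S.erase 0)) ) := by rw [← hS]; exact D.cov_wS S
      have h4 : b * (D.t * D.t) ∈ D.P := mul_mem hb D.sq
      have h5 : Commute (b * (D.t * D.t)) (D.wS (S.erase 0)) :=
        hc.mul_left (D.wS_commute fun i _ => by
          rw [← tj_zero D]; exact (D.tj_comm 0 i).mul_left (D.tj_comm 0 i))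
      have h6 := Cov.left D ha (Cov.right D h4 h2)
      convert h6 using 1
      rw [mul_inv_cancel_right, mul_assoc (D.t) (D.wS _) (b * (D.t * D.t)), ← h5.eq]
      simp only [mul_assoc]
    convert this using 1
    rw [mul_inv_cancel_right, hS, ← mul_assoc, htu]
    simp only [mul_assoc]
  · have hc : Commute u (D.wS S) := D.wS_commute fun i hi =>
      (D.commute_tj hu0 (hπu ▸ hg₀.tM_comm (fun e => h0 (e ▸ hi)))).symm
    have h2 : D.Cov (D.t * D.wS S) := by
      rw [← tj_zero D, ← D.wS_insert h0]; exact D.cov_wS _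
    rw [mul_assoc, hc.eq, ← mul_assoc]
    exact Cov.right D hu0 h2

theorem cov_t_mul (p : G) (hp : p ∈ D.P) (S : Finset (Fin m)) : D.Cov (D.t * p * D.wS S) := by
  classical
  obtain ⟨C, μ, hC, H, X, hu, e⟩ := exists_par' D.hε (g := π p) (kf_inv D.hε (D.kfP p hp))
  obtain ⟨l, hl, hπl⟩ := D.surj (lM hC) (kf_lM hC)
  obtain ⟨n, hn, hπn⟩ := D.surj (uM hu) (kf_uM hu)
  have hpl : p = l * n := D.eq_of_image hp (mul_mem hl hn) (by rw [map_mul, hπl, hπn, e])
  -- the pivot
  obtain ⟨j, hj, hjS⟩ : ∃ j, C.1 0 j ≠ 0 ∧ (j ∈ S → ∀ b, b ∉ S → C.1 0 b = 0) := by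
    by_cases h : ∃ j, j ∉ S ∧ C.1 0 j ≠ 0
    · obtain ⟨j, hjS, hj⟩ := h
      exact ⟨j, hj, fun h' => absurd h' hjS⟩
    · push Not at h
      obtain ⟨j, hj⟩ : ∃ j, C.1 0 j ≠ 0 := by
        by_contra hz
        push Not at hz
        have hCC : C.1 * (C⁻¹).1 = 1 := by rw [← Units.val_mul, mul_inv_cancel, Units.val_one]
        have := congrFun (congrFun hCC 0) 0
        rw [Matrix.mul_apply, Finset.sum_eq_zero (fun b _ => by rw [hz b, zero_mul]), Matrix.one_apply_eq] at this
        exact zero_ne_one this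
      exact ⟨j, hj, fun _ b hb => h b hb⟩
  obtain ⟨r, hr, A, hπr, hAj, hA⟩ := D.exists_row j (fun b => C.1 0 b / C.1 0 j) (div_self hj)
    (fun h b hb => by rw [hjS h b hb, zero_div])
  obtain ⟨W, hW, hWt⟩ : ∃ W : SpecialLinearGroup (Fin m) F,
      (∀ b, (W⁻¹).1 j b = if b = 0 then 1 else 0) ∧
        ∀ i, D.lift (slM J m ε W) * D.tj i * (D.lift (slM J m ε W))⁻¹ = D.tj (Equiv.swap 0 j i) := by
    rcases eq_or_ne (0 : Fin m) j with rfl | h0j
    · refine ⟨1, fun b => by simp [Matrix.one_apply, eq_comm], fun i => ?_⟩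
      rw [map_one, D.eq_of_image (D.lift_mem _) (one_mem _) (by rw [D.π_lift kf_one, map_one]), Equiv.swap_self,
        one_mul, inv_one, mul_one]
      rfl
    · refine ⟨wj h0j, fun b => ?_, D.wj_tj h0j⟩
      have h := congrArg (st J.σ) (wj_st_inv (F := F) J h0j)
      rw [st_st J.inv2] at h
      rw [h, wj_coe]
      rcases eq_or_ne b 0 with rfl | hb
      · simp [st, Matrix.one_apply, Matrix.single_apply, h0j, h0j.symm]
      · rcases eq_or_ne b j with rfl | hbj
        · simp [st, Matrix.one_apply, Matrix.single_apply, hb, Ne.symm hb]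
        · simp [st, Matrix.one_apply, Matrix.single_apply, hb, hbj, Ne.symm hb, Ne.symm hbj, h0j, h0j.symm]
  set w := D.lift (slM J m ε W) with hw
  have hwP : w ∈ D.P := D.lift_mem _
  have hπw : π w = slM J m ε W := D.π_lift (kf_slM _)
  obtain ⟨hrP, hrR⟩ := D.mem_R.1 hr
  -- the part fixing the hyperplane
  have hq : D.t * (l * r⁻¹ * w⁻¹) * D.t⁻¹ ∈ D.P := by
    refine D.compat _ (mul_mem (mul_mem hl (inv_mem hrP)) (inv_mem hwP)) ?_
    rw [map_mul, map_mul, map_inv, map_inv, hπl, hπr, hπw, ← map_inv, ← map_inv]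
    obtain ⟨h1, e1⟩ := lM_mul hC (levOK_sl (J := J) (ε := ε) A⁻¹)
    obtain ⟨h2, e2⟩ := lM_mul h1 (levOK_sl (J := J) (ε := ε) W⁻¹)
    show kf (tM J ε 0 * (lM hC * lM (levOK_sl A⁻¹) * lM (levOK_sl W⁻¹)) * (tM J ε 0)⁻¹) = 0
    rw [e1, e2]
    refine kf_conj_lM h2 0 fun b hb => ?_
    have hrow : ∀ x, (C.1 * (A⁻¹).1) 0 x = C.1 0 j * (1 : Matrix (Fin m) (Fin m) F) j x := fun x => by
      have e : C.1 0 = C.1 0 j • A.1 j := by
        funext y
        rw [hAj, Pi.smul_apply, smul_eq_mul, mul_div_cancel₀ _ hj]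
      have h3 : (A.1 * (A⁻¹).1) j x = (1 : Matrix (Fin m) (Fin m) F) j x := by
        rw [← Matrix.SpecialLinearGroup.coe_mul, mul_inv_cancel]; simp
      rw [Matrix.mul_apply] at h3
      rw [← h3, Matrix.mul_apply, Finset.mul_sum]
      refine Finset.sum_congr rfl fun y _ => ?_
      rw [show C.1 0 y = C.1 0 j * A.1 j y from congrFun e y, mul_assoc]
    show (C.1 * (A⁻¹).1 * (W⁻¹).1) 0 b = 0
    rw [Matrix.mul_apply, Finset.sum_eq_single j]
    · rw [hW, if_neg hb, mul_zero]
    · intro x _ hx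
      rw [hrow, Matrix.one_apply_ne (Ne.symm hx), mul_zero, zero_mul]
    · intro h; exact absurd (Finset.mem_univ _) h
  -- the radical part
  obtain ⟨n₂, hn₂, H₂, X₂, hu₂, hπ₂, e₂⟩ : ∃ n₂ ∈ D.P, ∃ (H₂ : Matrix (Fin m) (Fin m) F)
      (X₂ : Matrix (Fin m) (Fin ε) F) (hu₂ : H₂ + st J.σ H₂ + X₂ * st J.σ X₂ = 0),
      π n₂ = uM hu₂ ∧ w * r * n = n₂ * w * r := by
    refine ⟨w * r * n * (w * r)⁻¹, mul_mem (mul_mem (mul_mem hwP hrP) hn) (inv_mem (mul_mem hwP hrP)), _, _,
      Cfsg.Lib.UnitMult.Rel.conj J.inv2 hu (SpecialLinearGroup.toGL (W * A)).1 (levOK_sl (J := J) (ε := ε) (W * A)).norm,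
      ?_, by group⟩
    rw [map_mul, map_mul, map_inv, map_mul, hπw, hπr, hπn, ← map_mul]
    show lM (levOK_sl (W * A)) * uM hu * (lM (levOK_sl (W * A)))⁻¹ = _
    rw [lM_uM, mul_inv_cancel_right]
  have hperm : w * D.wS S * w⁻¹ = D.wS (S.image (Equiv.swap 0 j)) := by
    clear hjS hr hrP hrR hn₂ e₂ hq
    induction S using Finset.induction with
    | empty => rw [Finset.image_empty, D.wS_empty, mul_one, mul_inv_cancel]
    | insert a S ha ih =>
      rw [D.wS_insert ha, Finset.image_insert, D.wS_insert (fun h => by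
        obtain ⟨x, hx, he⟩ := Finset.mem_image.1 h
        exact ha ((Equiv.swap 0 j).injective he ▸ hx)), ← ih, ← hWt]
      group
  have key := Cov.left D hq (Cov.right D hrR (Cov.right D hwP (D.cov_radical (S.image (Equiv.swap 0 j)) hn₂ hu₂ hπ₂)))
  convert key using 1
  rw [← hperm, hpl]
  calc D.t * (l * n) * D.wS S = D.t * (l * r⁻¹ * w⁻¹) * (w * r * n) * D.wS S := by group
    _ = D.t * (l * r⁻¹ * w⁻¹) * (n₂ * w * r) * D.wS S := by rw [e₂]
    _ = _ := by group

include D in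
/-- The covering is faithful. -/
theorem injective (g : G) (hg : π g = 1) : g = 1 := by
  classical
  have htP : ∀ x, D.Cov x → D.Cov (D.t * x) := by
    rintro x ⟨S, a, ha, b, hb, rfl⟩
    have := Cov.right D hb (D.cov_t_mul a ha S)
    simpa [mul_assoc] using this
  have hinv : ∀ x, D.Cov x → D.Cov (D.t⁻¹ * x) := fun x hx => by
    have h := Cov.left D (inv_mem D.sq) (htP x hx)
    convert h using 1
    group
  have hall : ∀ x, D.Cov x := fun x => by
    have h1 : D.Cov 1 := D.wS_empty ▸ D.cov_wS ∅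
    have hmem : x ∈ Subgroup.closure ((D.P : Set G) ∪ {D.t}) := by rw [D.gen]; trivial
    induction hmem using Subgroup.closure_induction_left with
    | one => exact h1
    | mul_left a ha y _ ih =>
      rcases ha with ha | rfl
      · exact Cov.left D ha ih
      · exact htP y ih
    | inv_mul_cancel a ha y _ ih =>
      rcases ha with ha | rfl
      · exact Cov.left D (inv_mem ha) ih
      · exact hinv y ih
  obtain ⟨S, p, hp, p', hp', rfl⟩ := hall g
  have hS : S = ∅ := D.kf_wS (by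
    have e : π (D.wS S) = (π p)⁻¹ * (π p')⁻¹ := by
      rw [map_mul, map_mul] at hg
      rw [eq_inv_mul_iff_mul_eq, eq_inv_iff_mul_eq_one, hg]
    rw [e]
    exact kf_mul D.hε (kf_inv D.hε (D.kfP p hp)) (kf_inv D.hε (D.kfP p' hp')))
  subst hS
  have e : D.wS ∅ = 1 := D.wS_empty
  rw [e, mul_one] at hg ⊢
  exact D.inj _ (mul_mem hp hp') hg

end Core

end Cfsg.Lib.Linear.ShortPres.SUN
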