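import Cfsg.Agent.Lib.Linear.ShortPres.SUN.Par

/-!
# Model identities: cells of rank one, torus elements, embeddings
-/

set_option autoImplicit false
set_option linter.unusedSectionVars false

namespace Cfsg.Lib.Linear.ShortPres.SUN

open Matrix Cfsg.Lib.Linear.SUDegree Cfsg.Lib.Linear.Herm

variable {F : Type*} [Field F] {J : Conj F} {m ε : ℕ} [NeZero m]

/-- The relation of an element at the first index. -/
theorem rel0 {c : F} {v : Fin ε → F} (h : c + J.σ c + ∑ e, v e * J.σ (v e) = 0) :
    Matrix.single (0 : Fin m) 0 c + st J.σ (Matrix.single (0 : Fin m) 0 c) +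
      rowM (0 : Fin m) v * st J.σ (rowM (0 : Fin m) v) = 0 := by
  rw [st_single, rowM_mul, ← Matrix.single_add, ← Matrix.single_add, h, Matrix.single_zero]

/-- The torus element at the first index as a general linear matrix. -/
def g0 (c : F) (hc : c ≠ 0) : GL (Fin m) F :=
  ⟨d0 c, d0 c⁻¹, by rw [d0_mul, mul_inv_cancel₀ hc, d0]; simp,
    by rw [d0_mul, inv_mul_cancel₀ hc, d0]; simp⟩

@[simp] theorem g0_coe (c : F) (hc : c ≠ 0) : (g0 (m := m) c hc).1 = d0 c := rfl

theorem g0_inv_coe (c : F) (hc : c ≠ 0) : ((g0 (m := m) c hc)⁻¹).1 = d0 c⁻¹ := rfl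

/-- The rank one cell. -/
theorem cell_eq {c : F} {v : Fin ε → F} (hc : c ≠ 0) (h : c + J.σ c + ∑ e, v e * J.σ (v e) = 0) {μ : F}
    (hμ : ε = 1 → μ = -J.σ c / c) (hL : LevOK J ε (g0 (m := m) (-J.η / J.σ c)
      (div_ne_zero (neg_ne_zero.2 J.η_ne) (by simpa using hc))) μ) (hε : ε ≤ 1)
    (ha : -J.η ^ 2 / c + J.σ (-J.η ^ 2 / c) + ∑ e, J.η * v e / J.σ c * J.σ (J.η * v e / J.σ c) = 0)
    (hb : -J.η ^ 2 / c + J.σ (-J.η ^ 2 / c) + ∑ e, J.η * v e / c * J.σ (J.η * v e / c) = 0) :
    tM J ε 0 * uM (rel0 (m := m) h) * (tM J ε 0)⁻¹ =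
      uM (rel0 ha) * lM hL * tM J ε 0 * uM (rel0 hb) := by
  have hne := J.η_ne
  have hsc : J.σ c ≠ 0 := by simpa using hc
  rw [mul_inv_eq_iff_eq_mul]
  refine mat_inj ?_
  have hd : ∀ x : F, d0 (m := m) x = 1 + Matrix.single 0 0 (x - 1) := fun x => by
    ext i j
    rw [d0, Matrix.add_apply, Matrix.diagonal_apply, Matrix.one_apply, Matrix.single_apply]
    by_cases hij : i = j
    · subst hij
      by_cases hi : i = 0 <;> simp [hi, Ne.symm]
    · rw [if_neg hij, if_neg hij, if_neg (by rintro ⟨rfl, rfl⟩; exact hij rfl), add_zero]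
  have hr : ∀ (x : F) (w : Fin ε → F), Matrix.single (0 : Fin m) (0 : Fin m) x * rowM (0 : Fin m) w = rowM 0 (fun e => x * w e) := by
    intro x w; ext i e
    by_cases hi : i = 0 <;> simp [rowM, Matrix.mul_apply, Matrix.single_apply, hi, Ne.symm, ite_and]
  have hr' : ∀ (x : F) (w : Fin ε → F), st J.σ (rowM (0 : Fin m) w) * Matrix.single (0 : Fin m) (0 : Fin m) x =
      st J.σ (rowM (0 : Fin m) fun e => J.σ x * w e) := by
    intro x w
    rw [← hr, Cfsg.Lib.Linear.SUDegree.st_mul, st_single, J.inv2]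
  have hrr : ∀ (w w' : Fin ε → F), st J.σ (rowM (0 : Fin m) w) * rowM (0 : Fin m) w' = Matrix.of fun e e' => J.σ (w e) * w' e' := by
    intro w w'; ext e e'
    simp [rowM, st, Matrix.mul_apply]
  simp only [mat_mul, mat_tM, mat_uM, mat_lM, g0_inv_coe, g0_coe, uMat, lMat, hd, fromBlocks_multiply,
    fromRows_mul_fromCols, fromBlocks_mul_fromRows, fromCols_mul_fromBlocks, fromCols_mul_fromRows, fromBlocks_add,
    Cfsg.Lib.Linear.SUDegree.st_add, Cfsg.Lib.Linear.SUDegree.st_one, st_single, Matrix.mul_zero, Matrix.zero_mul,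
    add_zero, zero_add, Matrix.one_mul, Matrix.mul_one, Matrix.add_mul, Matrix.mul_add, Matrix.sub_mul, Matrix.mul_sub,
    Matrix.smul_single, Matrix.single_mul_single_same, Matrix.smul_mul, Matrix.mul_smul, rowM_mul, hr, hr', hrr,
    Matrix.neg_mul, Matrix.mul_neg, smul_eq_mul, mul_one, one_mul]
  rcases Nat.le_one_iff_eq_zero_or_eq_one.1 hε with rfl | rfl
  all_goals ext (a | a) (b | b)
  all_goals first
    | (rcases a with a | a <;> rcases b with b | b)
    | (rcases a with a | a)
    | (rcases b with b | b)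
    | skip
  all_goals first
    | exact a.elim0
    | exact b.elim0
    | (obtain rfl := Subsingleton.elim a (0 : Fin 1); obtain rfl := Subsingleton.elim b (0 : Fin 1))
    | (obtain rfl := Subsingleton.elim a (0 : Fin 1))
    | (obtain rfl := Subsingleton.elim b (0 : Fin 1))
    | skip
  all_goals simp [rowM, st, Matrix.one_apply, Matrix.single_apply, ite_and]
  all_goals (try simp only [J.inv2, J.η_skew, neg_neg])
  all_goals (try split_ifs)
  all_goals (try simp [hμ, J.inv2, J.η_skew])
  all_goals (try field_simp)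
  all_goals (try ring_nf)
  all_goals first
    | (exfalso; omega)
    | (simp only [Fin.sum_univ_one] at h; linear_combination (-J.η * c) * h)
    | (simp only [Fin.sum_univ_one] at h; linear_combination c * h)
    | (simp only [Fin.sum_univ_one] at h; linear_combination (-c) * h)
    | (simp only [Fin.sum_univ_one] at h; linear_combination (J.η * c) * h)
    | (simp only [Fin.sum_univ_one] at h; linear_combination h)
    | (simp only [Fin.sum_univ_one] at h; linear_combination -h)
    | (simp only [Fin.sum_univ_one] at h; linear_combination J.η * h)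
    | (simp only [Fin.sum_univ_one] at h; linear_combination -J.η * h)
    | (rw [Finset.univ_eq_empty, Finset.sum_empty, add_zero] at h; linear_combination (J.η * c) * h)

end Cfsg.Lib.Linear.ShortPres.SUN
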