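import Cfsg.Agent.Lib.Linear.ShortPres.SUN.Closure

/-!
# Assembling the parabolic subgroup of a covering
-/

set_option autoImplicit false
set_option linter.unusedSectionVars false

namespace Cfsg.Lib.Linear.ShortPres.SUN

open Matrix Cfsg.Lib.Linear.SUDegree Cfsg.Lib.Linear.Herm

variable {F : Type*} [Field F] {J : Conj F} {m ε : ℕ}

/-- The torus matrix at the first index. -/
def d0 [NeZero m] (c : F) : Matrix (Fin m) (Fin m) F := Matrix.diagonal fun i => if i = 0 then c else 1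

theorem d0_mul [NeZero m] (a b : F) : d0 (m := m) a * d0 b = d0 (a * b) := by
  rw [d0, d0, d0, Matrix.diagonal_mul_diagonal]
  congr 1; funext i; split_ifs <;> simp

theorem d0_det [NeZero m] (a : F) : (d0 (m := m) a).det = a := by
  rw [d0, Matrix.det_diagonal, Finset.prod_ite_eq']; simp

theorem LevOK.det_ne {C : GL (Fin m) F} {μ : F} (_h : LevOK J ε C μ) : C.1.det ≠ 0 :=
  ((Matrix.isUnit_iff_isUnit_det _).1 C.isUnit).ne_zero

/-- A Levi element depends on its matrix only. -/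
theorem lM_congr (hε : ε ≤ 1) {C C' : GL (Fin m) F} {μ μ' : F} (h : LevOK J ε C μ) (h' : LevOK J ε C' μ')
    (e : C.1 = C'.1) : (lM h : Mg J m ε) = lM h' := by
  obtain rfl : C = C' := Units.ext e
  refine mat_inj ?_
  rcases Nat.le_one_iff_eq_zero_or_eq_one.1 hε with rfl | rfl
  · rw [mat_lM, mat_lM, lMat, lMat]
    congr 1
    ext i; exact i.elim0
  · have h1 := h.det
    have h2 := h'.det
    rw [pow_one] at h1 h2
    rw [← h1] at h2
    rw [mat_lM, mat_lM, mul_left_cancel₀ (left_ne_zero_of_mul_eq_one h1) h2]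

theorem lM_pow {C : GL (Fin m) F} {μ : F} (h : LevOK J ε C μ) (i : ℕ) :
    ∃ h' : LevOK J ε (C ^ i) (μ ^ i), (lM h : Mg J m ε) ^ i = lM h' := by
  induction i with
  | zero =>
    have h' : LevOK J ε (C ^ 0) (μ ^ 0) := ⟨by simp, by simp⟩
    exact ⟨h', mat_inj (by rw [pow_zero, mat_one, mat_lM]; simp [lMat, Cfsg.Lib.Linear.SUDegree.st_one, fromBlocks_one])⟩
  | succ i ih =>
    obtain ⟨h₁, e₁⟩ := ih
    obtain ⟨h₂, e₂⟩ := lM_mul h₁ h
    exact ⟨by rw [pow_succ, pow_succ]; exact h₂, by rw [pow_succ, e₁, e₂]; exact mat_inj (by simp [mat_lM, pow_succ])⟩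

/-- The necessary condition for a conjugate by the reflection to stay parabolic. -/
theorem conj_cond [NeZero m] {H : Matrix (Fin m) (Fin m) F} {X : Matrix (Fin m) (Fin ε) F}
    (hu : H + st J.σ H + X * st J.σ X = 0) {C : GL (Fin m) F} {μ : F} (hC : LevOK J ε C μ)
    (h : kf (tM J ε 0 * (uM hu * lM hC) * (tM J ε 0)⁻¹) = 0) :
    (∀ b, b ≠ 0 → C.1 0 b = 0) ∧ H 0 0 = 0 := by
  have hne : J.η⁻¹ ≠ 0 := inv_ne_zero J.η_ne
  obtain ⟨g, hg⟩ : ∃ g : Mg J m ε, g = uM hu * lM hC := ⟨_, rfl⟩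
  rw [← hg] at h
  obtain ⟨k, hk⟩ : ∃ k, k = tM J ε 0 * g * (tM J ε 0)⁻¹ := ⟨_, rfl⟩
  rw [← hk] at h
  have e : mat (tM J ε 0) * mat g = mat k * mat (tM J ε 0) := by
    rw [← mat_mul, ← mat_mul, hk, inv_mul_cancel_right]
  have hz : ∀ a b, mat k (Sum.inl (Sum.inr a)) (Sum.inl (Sum.inl b)) = 0 := fun a b => congrFun (congrFun h a) b
  have hgz : ∀ a b, mat g (Sum.inl (Sum.inr a)) (Sum.inl (Sum.inl b)) = 0 := fun a b => by
    simp [hg, mat_mul, uMat, lMat, Matrix.mul_apply, Fintype.sum_sum_type]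
  have hA : ∀ b, mat g (Sum.inl (Sum.inl 0)) (Sum.inl (Sum.inl b)) = C.1 0 b := fun b => by
    simp [hg, mat_mul, uMat, lMat, Matrix.mul_apply, Fintype.sum_sum_type, Matrix.one_apply]
  have hrow : ∀ b, b ≠ 0 → C.1 0 b = 0 := by
    intro b hb
    have e' := congrFun (congrFun e (Sum.inl (Sum.inr 0))) (Sum.inl (Sum.inl b))
    simp [Matrix.mul_apply, Fintype.sum_sum_type, mat_tM, Matrix.one_apply, Matrix.single_apply, hgz, hz, hA,
      Ne.symm hb] at e'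
    exact e'.resolve_left J.η_ne
  refine ⟨hrow, ?_⟩
  have hCC : C.1 * (C⁻¹).1 = 1 := by rw [← Units.val_mul, mul_inv_cancel, Units.val_one]
  have hc : C.1 0 0 ≠ 0 := fun e0 => by
    have := congrFun (congrFun hCC 0) 0
    rw [Matrix.mul_apply, Finset.sum_eq_single 0 (fun b _ hb => by rw [hrow b hb, zero_mul]) (by simp), e0, zero_mul,
      Matrix.one_apply_eq] at this
    exact zero_ne_one this
  have hcol : ∀ x, x ≠ 0 → (C⁻¹).1 0 x = 0 := fun x hx => by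
    have := congrFun (congrFun hCC 0) x
    rw [Matrix.mul_apply, Finset.sum_eq_single 0 (fun b _ hb => by rw [hrow b hb, zero_mul]) (by simp),
      Matrix.one_apply_ne (Ne.symm hx)] at this
    exact (mul_eq_zero.1 this).resolve_left hc
  have hd : (C⁻¹).1 0 0 ≠ 0 := fun e0 => by
    have := congrFun (congrFun hCC 0) 0
    rw [Matrix.mul_apply, Finset.sum_eq_single 0 (fun b _ hb => by rw [hrow b hb, zero_mul]) (by simp), e0, mul_zero,
      Matrix.one_apply_eq] at this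
    exact zero_ne_one this
  have hB : mat g (Sum.inl (Sum.inl 0)) (Sum.inl (Sum.inr 0)) = H 0 0 * J.σ ((C⁻¹).1 0 0) := by
    simp [hg, mat_mul, uMat, lMat, Matrix.mul_apply, Fintype.sum_sum_type, Matrix.one_apply, st, -Matrix.coe_units_inv]
    exact Finset.sum_eq_single 0 (fun x _ hx => by rw [hcol x hx, map_zero, mul_zero]) (by simp)
  have e' := congrFun (congrFun e (Sum.inl (Sum.inr 0))) (Sum.inl (Sum.inr 0))
  simp [Matrix.mul_apply, Fintype.sum_sum_type, mat_tM, Matrix.one_apply, Matrix.single_apply, hz, hB,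
    -Matrix.coe_units_inv] at e'
  rw [Finset.sum_eq_zero (fun x _ => by simp only [eq_comm (a := x)]; rw [sub_self, mul_zero]), neg_eq_zero, mul_eq_zero,
    mul_eq_zero] at e'
  exact (e'.resolve_left hne).resolve_right (fun h0 => hd ((map_eq_zero J.σ).1 h0))
/-- A radical normalised by the special linear group. -/
structure Base (J : Conj F) (m ε : ℕ) {G : Type*} [Group G] (π : G →* Mg J m ε) where
  hε : ε ≤ 1
  A : SpecialLinearGroup (Fin m) F →* G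
  πA : ∀ C, π (A C) = slM J m ε C
  N : Subgroup G
  norm : ∀ C, ∀ n ∈ N, A C * n * (A C)⁻¹ ∈ N
  inj : ∀ n ∈ N, π n = 1 → n = 1
  img : ∀ n ∈ N, ∃ (H : Matrix (Fin m) (Fin m) F) (X : Matrix (Fin m) (Fin ε) F)
    (h : H + st J.σ H + X * st J.σ X = 0), π n = uM h
  surj : ∀ (H : Matrix (Fin m) (Fin m) F) (X : Matrix (Fin m) (Fin ε) F)
    (h : H + st J.σ H + X * st J.σ X = 0), ∃ n ∈ N, π n = uM h

namespace Base

variable {G : Type*} [Group G] {π : G →* Mg J m ε} (B : Base J m ε π)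

/-- The radical times the special linear group. -/
def K : Subgroup G := B.N ⊔ B.A.range

theorem mem_K {k : G} : k ∈ B.K ↔ ∃ n ∈ B.N, ∃ C, k = n * B.A C := by
  constructor
  · intro hk
    rw [K] at hk
    have hn : B.A.range ≤ Subgroup.normalizer (B.N : Set G) := by
      rintro _ ⟨C, rfl⟩
      refine Subgroup.mem_normalizer_iff.2 fun x => ⟨B.norm C x, fun hx => ?_⟩
      have := B.norm C⁻¹ _ hx
      simpa [map_inv, mul_assoc] using this
    rw [← SetLike.mem_coe, Subgroup.coe_mul_of_right_le_normalizer_left _ _ hn, Set.mem_mul] at hk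
    obtain ⟨n, hn', _, ⟨C, rfl⟩, e⟩ := hk
    exact ⟨n, hn', C, e.symm⟩
  · rintro ⟨n, hn, C, rfl⟩
    exact mul_mem (Subgroup.mem_sup_left hn) (Subgroup.mem_sup_right ⟨C, rfl⟩)

theorem N_le : B.N ≤ B.K := le_sup_left

theorem A_mem (C : SpecialLinearGroup (Fin m) F) : B.A C ∈ B.K := Subgroup.mem_sup_right ⟨C, rfl⟩

theorem img_K {k : G} (hk : k ∈ B.K) : ∃ (H : Matrix (Fin m) (Fin m) F) (X : Matrix (Fin m) (Fin ε) F)
    (h : H + st J.σ H + X * st J.σ X = 0) (C : SpecialLinearGroup (Fin m) F), π k = uM h * slM J m ε C := by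
  obtain ⟨n, hn, C, rfl⟩ := B.mem_K.1 hk
  obtain ⟨H, X, h, e⟩ := B.img n hn
  exact ⟨H, X, h, C, by rw [map_mul, e, B.πA]⟩

theorem inj_K {k : G} (hk : k ∈ B.K) (h : π k = 1) : k = 1 := by
  obtain ⟨n, hn, C, rfl⟩ := B.mem_K.1 hk
  obtain ⟨H, X, hu, e⟩ := B.img n hn
  rw [map_mul, e, B.πA] at h
  have hC : C = 1 := by
    refine Subtype.ext (Matrix.ext fun i j => ?_)
    have := congrFun (congrFun (congrArg mat h) (Sum.inl (Sum.inl i))) (Sum.inl (Sum.inl j))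
    simpa [mat_mul, slM_apply, uMat, lMat, Matrix.mul_apply, Fintype.sum_sum_type, Matrix.one_apply] using this
  subst hC
  rw [map_one, mul_one] at h ⊢
  exact B.inj n hn (e.trans h)

theorem eq_K {k k' : G} (hk : k ∈ B.K) (hk' : k' ∈ B.K) (h : π k = π k') : k = k' :=
  mul_inv_eq_one.1 (B.inj_K (mul_mem hk (inv_mem hk')) (by rw [map_mul, map_inv, h, mul_inv_cancel]))

theorem surj_K {H : Matrix (Fin m) (Fin m) F} {X : Matrix (Fin m) (Fin ε) F}
    (h : H + st J.σ H + X * st J.σ X = 0) (C : SpecialLinearGroup (Fin m) F) :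
    ∃ k ∈ B.K, π k = uM h * slM J m ε C := by
  obtain ⟨n, hn, e⟩ := B.surj H X h
  exact ⟨n * B.A C, mul_mem (B.N_le hn) (B.A_mem C), by rw [map_mul, e, B.πA]⟩

end Base

theorem slM_det {C : SpecialLinearGroup (Fin m) F} : (SpecialLinearGroup.toGL C).1.det = 1 := C.2

/-- The hypotheses giving a parabolic subgroup. -/
structure ParData (J : Conj F) (m ε : ℕ) [NeZero m] {G : Type*} [Group G] (π : G →* Mg J m ε)
    extends Base J m ε π where
  hm : 2 ≤ m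
  t : G
  πt : π t = tM J ε 0
  h : G
  ζ : F
  πh : ∃ (C : GL (Fin m) F) (μ : F) (hC : LevOK J ε C μ), C.1 = d0 ζ ∧ π h = lM hC
  det_pow : ∀ (C : GL (Fin m) F) (μ : F), LevOK J ε C μ → ∃ i : ℕ, C.1.det = ζ ^ i
  h_norm : ∀ k ∈ toBase.K, h * k * h⁻¹ ∈ toBase.K
  h_norm' : ∀ k ∈ toBase.K, h⁻¹ * k * h ∈ toBase.K
  h_ord : ∀ i : ℕ, ζ ^ i = 1 → h ^ i = 1
  sq : t * t ∈ toBase.K ⊔ Subgroup.zpowers h
  t_h1 : ∀ h01 : (0 : Fin m) ≠ ⟨1, hm⟩, Commute t (A (wj h01) * h * (A (wj h01))⁻¹)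
  compat0 : ∀ k ∈ toBase.K, ∀ (H : Matrix (Fin m) (Fin m) F) (X : Matrix (Fin m) (Fin ε) F)
    (hu : H + st J.σ H + X * st J.σ X = 0) (C : SpecialLinearGroup (Fin m) F),
    π k = uM hu * slM J m ε C → H 0 0 = 0 → C.1 0 0 = 1 → (∀ b, b ≠ 0 → C.1 0 b = 0) →
    t * k * t⁻¹ ∈ toBase.K ⊔ Subgroup.zpowers h
  corner : ∀ (C : GL (Fin m) F) (μ : F) (hC : LevOK J ε C μ), C.1 0 0 ≠ 0 → (∀ b, b ≠ 0 → C.1 0 b = 0) →
    ∃ p ∈ toBase.K ⊔ Subgroup.zpowers h, t * p * t⁻¹ ∈ toBase.K ⊔ Subgroup.zpowers h ∧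
      ∃ (C' : GL (Fin m) F) (μ' : F) (hC' : LevOK J ε C' μ'), π p = lM hC' ∧ C'.1 0 0 = C.1 0 0 ∧
        ∀ b, b ≠ 0 → C'.1 0 b = 0

namespace ParData

variable [NeZero m] {G : Type*} [Group G] {π : G →* Mg J m ε} (D : ParData J m ε π)

/-- The parabolic subgroup. -/
def P : Subgroup G := D.toBase.K ⊔ Subgroup.zpowers D.h

theorem h_mem : D.h ∈ D.P := Subgroup.mem_sup_right (Subgroup.mem_zpowers _)

theorem K_le : D.toBase.K ≤ D.P := le_sup_left

theorem ζ_ne : D.ζ ≠ 0 := fun e => by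
  obtain ⟨C, μ, hC, eC, -⟩ := D.πh
  exact hC.det_ne (by rw [eC, e, d0_det])

theorem fin_order : IsOfFinOrder D.h ∨ ∀ i : ℕ, D.ζ ^ i = 1 → i = 0 := by
  by_cases h : ∃ i : ℕ, D.ζ ^ i = 1 ∧ i ≠ 0
  · obtain ⟨i, hi, h0⟩ := h
    exact Or.inl (isOfFinOrder_iff_pow_eq_one.2 ⟨i, Nat.pos_of_ne_zero h0, D.h_ord i hi⟩)
  · exact Or.inr fun i hi => by_contra fun h0 => h ⟨i, hi, h0⟩

theorem π_h_pow (i : ℕ) : ∃ (C : GL (Fin m) F) (μ : F) (hC : LevOK J ε C μ),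
    C.1 = d0 (D.ζ ^ i) ∧ π (D.h ^ i) = lM hC := by
  obtain ⟨C, μ, hC, eC, e⟩ := D.πh
  obtain ⟨h', e'⟩ := lM_pow hC i
  refine ⟨_, _, h', ?_, by rw [map_pow, e, e']⟩
  rw [Units.val_pow_eq_pow_val, eC, d0, Matrix.diagonal_pow, d0]
  congr 1
  funext a
  simp only [Pi.pow_apply]
  split_ifs <;> simp

variable [Finite F]

theorem mem_P {p : G} : p ∈ D.P ↔ ∃ k ∈ D.toBase.K, ∃ i : ℕ, p = k * D.h ^ i := by
  haveI := Fintype.ofFinite F
  have hord : IsOfFinOrder D.h := isOfFinOrder_iff_pow_eq_one.2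
    ⟨Fintype.card F - 1, by have := Fintype.one_lt_card (α := F); omega,
      D.h_ord _ (FiniteField.pow_card_sub_one_eq_one _ D.ζ_ne)⟩
  constructor
  · intro hp
    have hn : Subgroup.zpowers D.h ≤ Subgroup.normalizer (D.toBase.K : Set G) := by
      rw [Subgroup.zpowers_le]
      refine Subgroup.mem_normalizer_iff.2 fun x => ⟨D.h_norm x, fun hx => ?_⟩
      have := D.h_norm' _ hx
      simpa [mul_assoc] using this
    rw [P, ← SetLike.mem_coe, Subgroup.coe_mul_of_right_le_normalizer_left _ _ hn, Set.mem_mul] at hp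
    obtain ⟨k, hk, y, hy, e⟩ := hp
    rw [SetLike.mem_coe, ← hord.mem_powers_iff_mem_zpowers] at hy
    obtain ⟨i, rfl⟩ := hy
    exact ⟨k, hk, i, e.symm⟩
  · rintro ⟨k, hk, i, rfl⟩
    exact mul_mem (D.K_le hk) (pow_mem D.h_mem i)

theorem img_P {p : G} (hp : p ∈ D.P) : ∃ (H : Matrix (Fin m) (Fin m) F) (X : Matrix (Fin m) (Fin ε) F)
    (hu : H + st J.σ H + X * st J.σ X = 0) (C : GL (Fin m) F) (μ : F) (hC : LevOK J ε C μ),
    π p = uM hu * lM hC := by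
  obtain ⟨k, hk, i, rfl⟩ := D.mem_P.1 hp
  obtain ⟨H, X, hu, C, e⟩ := D.toBase.img_K hk
  obtain ⟨C', μ', hC', -, e'⟩ := D.π_h_pow i
  obtain ⟨h'', e''⟩ := lM_mul (levOK_sl (J := J) (ε := ε) C) hC'
  refine ⟨H, X, hu, _, _, h'', ?_⟩
  rw [map_mul, e, e', mul_assoc, ← e'']
  rfl

theorem inj_P {p : G} (hp : p ∈ D.P) (hp1 : π p = 1) : p = 1 := by
  obtain ⟨k, hk, i, rfl⟩ := D.mem_P.1 hp
  obtain ⟨H, X, hu, C, e⟩ := D.toBase.img_K hk
  obtain ⟨C', μ', hC', eC', e'⟩ := D.π_h_pow i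
  have hζ : D.ζ ^ i = 1 := by
    rw [map_mul, e, e'] at hp1
    have key : C.1 * C'.1 = 1 := Matrix.ext fun a b => by
      have := congrFun (congrFun (congrArg mat hp1) (Sum.inl (Sum.inl a))) (Sum.inl (Sum.inl b))
      simpa [mat_mul, slM_apply, uMat, lMat, Matrix.mul_apply, Fintype.sum_sum_type, Matrix.one_apply] using this
    have h2 := congrArg Matrix.det key
    rwa [det_mul, C.2, one_mul, eC', d0_det, det_one] at h2
  rw [D.h_ord i hζ, mul_one] at hp1 ⊢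
  exact D.toBase.inj_K hk hp1

theorem eq_P {p p' : G} (hp : p ∈ D.P) (hp' : p' ∈ D.P) (h : π p = π p') : p = p' :=
  mul_inv_eq_one.1 (D.inj_P (mul_mem hp (inv_mem hp')) (by rw [map_mul, map_inv, h, mul_inv_cancel]))

theorem surj_P (M : Mg J m ε) (hM : kf M = 0) : ∃ p ∈ D.P, π p = M := by
  obtain ⟨C, μ, hC, H, X, hu, rfl⟩ := exists_par D.hε hM
  obtain ⟨i, hi⟩ := D.det_pow C μ hC
  obtain ⟨C', μ', hC', eC', e'⟩ := D.π_h_pow i
  obtain ⟨hI, eI⟩ := lM_inv hC'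
  obtain ⟨h'', e''⟩ := lM_mul hC hI
  let S : SpecialLinearGroup (Fin m) F := ⟨(C * C'⁻¹).1, by
    have h1 := congrArg Matrix.det (show (C'⁻¹).1 * C'.1 = 1 by rw [← Units.val_mul, inv_mul_cancel, Units.val_one])
    rw [det_mul, eC', d0_det, det_one] at h1
    rw [Units.val_mul, det_mul, hi, mul_comm, h1]⟩
  obtain ⟨k, hk, ek⟩ := D.toBase.surj_K hu S
  refine ⟨k * D.h ^ i, mul_mem (D.K_le hk) (pow_mem D.h_mem i), ?_⟩
  rw [map_mul, ek, e', mul_assoc, show slM J m ε S = lM hC * (lM hC')⁻¹ by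
    rw [eI, e'']; exact lM_congr D.hε (levOK_sl S) h'' rfl, inv_mul_cancel_right]

theorem compat_P {p : G} (hp : p ∈ D.P) (hc : kf (tM J ε 0 * π p * (tM J ε 0)⁻¹) = 0) :
    D.t * p * D.t⁻¹ ∈ D.P := by
  obtain ⟨H, X, hu, C, μ, hC, e⟩ := D.img_P hp
  rw [e] at hc
  obtain ⟨hrow, hH⟩ := conj_cond hu hC hc
  have hCC : C.1 * (C⁻¹).1 = 1 := by rw [← Units.val_mul, mul_inv_cancel, Units.val_one]
  have hc0 : C.1 0 0 ≠ 0 := fun e0 => by
    have := congrFun (congrFun hCC 0) 0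
    rw [Matrix.mul_apply, Finset.sum_eq_single 0 (fun b _ hb => by rw [hrow b hb, zero_mul]) (by simp), e0, zero_mul,
      Matrix.one_apply_eq] at this
    exact zero_ne_one this
  obtain ⟨pc, hpc, hpct, C', μ', hC', eC', e00, hrow'⟩ := D.corner C μ hC hc0 hrow
  obtain ⟨hI, eI⟩ := lM_inv hC'
  obtain ⟨h₁, e₁⟩ := lM_mul hC hI
  have hC'C : C'.1 * (C'⁻¹).1 = 1 := by rw [← Units.val_mul, mul_inv_cancel, Units.val_one]
  have hrow1 : ∀ b, (C * C'⁻¹).1 0 b = (1 : Matrix (Fin m) (Fin m) F) 0 b := fun b => by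
    rw [← hC'C, Units.val_mul, Matrix.mul_apply, Matrix.mul_apply,
      Finset.sum_eq_single 0 (fun x _ hx => by rw [hrow x hx, zero_mul]) (by simp),
      Finset.sum_eq_single 0 (fun x _ hx => by rw [hrow' x hx, zero_mul]) (by simp), e00]
  obtain ⟨i, hi⟩ := D.det_pow _ _ h₁
  let i01 : (0 : Fin m) ≠ ⟨1, D.hm⟩ := fun e0 => by
    have := congrArg Fin.val e0
    simp at this
  set h1 := D.A (wj i01) * D.h * (D.A (wj i01))⁻¹ with hh1
  have h1P : h1 ∈ D.P := mul_mem (mul_mem (D.K_le (D.toBase.A_mem _)) D.h_mem) (inv_mem (D.K_le (D.toBase.A_mem _)))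
  obtain ⟨Ci, μi, hCi, eCi, ei⟩ := D.π_h_pow i
  obtain ⟨h₂, e₂⟩ := lM_mul (levOK_sl (J := J) (ε := ε) (wj i01)) hCi
  obtain ⟨hw, ew⟩ := lM_inv (levOK_sl (J := J) (ε := ε) (wj i01))
  obtain ⟨h₃, e₃⟩ := lM_mul h₂ hw
  have e1i : π (h1 ^ i) = lM h₃ := by
    rw [hh1, conj_pow, map_mul, map_mul, map_inv, D.πA, ei, ← e₃, ← e₂, ← ew]
    rfl
  obtain ⟨hI', eI'⟩ := lM_inv h₃
  obtain ⟨h₄, e₄⟩ := lM_mul h₁ hI'
  set Cw := SpecialLinearGroup.toGL (wj (F := F) i01)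
  have hw0 : ∀ x, (Cw.1) 0 x = if x = ⟨1, D.hm⟩ then 1 else 0 := fun x => by
    show (wj (F := F) i01).1 0 x = _
    rw [wj_coe]
    rcases eq_or_ne x 0 with rfl | h0
    · simp [Matrix.one_apply, Matrix.single_apply, i01, i01.symm]
    · rcases eq_or_ne x ⟨1, D.hm⟩ with rfl | h1
      · simp [Matrix.one_apply, Matrix.single_apply, i01, i01.symm]
      · simp [Matrix.one_apply, Matrix.single_apply, i01, i01.symm, Ne.symm h0, Ne.symm h1, h1]
  have hrow3 : ∀ b, (Cw * Ci * Cw⁻¹).1 0 b = (1 : Matrix (Fin m) (Fin m) F) 0 b := fun b => by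
    have e5 : ∀ x, (Cw * Ci).1 0 x = Cw.1 0 x := fun x => by
      rw [Units.val_mul, eCi, d0, Matrix.mul_diagonal]
      rcases eq_or_ne x 0 with rfl | h0
      · rw [hw0, if_neg i01, zero_mul]
      · rw [if_neg h0, mul_one]
    calc (Cw * Ci * Cw⁻¹).1 0 b = (Cw.1 * (Cw⁻¹).1) 0 b := by
          simp only [Units.val_mul, Matrix.mul_apply] at e5 ⊢
          simp only [e5]
      _ = _ := by rw [← Units.val_mul, mul_inv_cancel, Units.val_one]
  set C4 := C * C'⁻¹ * (Cw * Ci * Cw⁻¹)⁻¹ with hC4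
  have hrow4 : ∀ b, C4.1 0 b = (1 : Matrix (Fin m) (Fin m) F) 0 b := fun b => by
    have hrow5 : ∀ M : GL (Fin m) F, (∀ x, M.1 0 x = (1 : Matrix (Fin m) (Fin m) F) 0 x) →
        ∀ x, (M⁻¹).1 0 x = (1 : Matrix (Fin m) (Fin m) F) 0 x := fun M hM x => by
      have h : (M.1 * (M⁻¹).1) 0 x = (1 : Matrix (Fin m) (Fin m) F) 0 x := by
        rw [← Units.val_mul, mul_inv_cancel, Units.val_one]
      rw [← h, Matrix.mul_apply, Finset.sum_congr rfl (fun y _ => by rw [hM y]), ← Matrix.mul_apply, Matrix.one_mul]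
    rw [hC4, Units.val_mul, Matrix.mul_apply, Finset.sum_congr rfl (fun y _ => by rw [hrow1 y]), ← Matrix.mul_apply,
      Matrix.one_mul]
    exact hrow5 _ hrow3 b
  have hdet4 : C4.1.det = 1 := by
    have hd : (Cw * Ci * Cw⁻¹).1.det = D.ζ ^ i := by
      rw [Units.val_mul, Units.val_mul, det_mul_right_comm, ← Units.val_mul Cw, mul_inv_cancel, Units.val_one,
        one_mul, eCi, d0_det]
    have h2 := congrArg Matrix.det (show ((Cw * Ci * Cw⁻¹)⁻¹).1 * (Cw * Ci * Cw⁻¹).1 = 1 by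
      rw [← Units.val_mul, inv_mul_cancel, Units.val_one])
    rw [det_mul, hd, det_one] at h2
    rw [hC4, Units.val_mul, det_mul, hi, mul_comm, h2]
  let S : SpecialLinearGroup (Fin m) F := ⟨C4.1, hdet4⟩
  obtain ⟨k, hk, ek⟩ := D.toBase.surj_K hu S
  have hp' : p = k * h1 ^ i * pc := by
    refine D.eq_P hp (mul_mem (mul_mem (D.K_le hk) (pow_mem h1P i)) hpc) ?_
    rw [map_mul, map_mul, ek, e1i, eC', e, show slM J m ε S = lM hC * (lM hC')⁻¹ * (lM h₃)⁻¹ by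
      rw [eI, e₁, eI', e₄]; exact lM_congr D.hε (levOK_sl S) h₄ rfl]
    group
  have hkt := D.compat0 k hk H X hu S ek hH (by
    show C4.1 0 0 = 1
    rw [hrow4, Matrix.one_apply_eq]) (fun b hb => by
    show C4.1 0 b = 0
    rw [hrow4, Matrix.one_apply_ne (Ne.symm hb)])
  have hcm : D.t * h1 ^ i * D.t⁻¹ = h1 ^ i := by
    rw [((D.t_h1 i01).pow_right i).eq, mul_inv_cancel_right]
  rw [hp', show D.t * (k * h1 ^ i * pc) * D.t⁻¹ = D.t * k * D.t⁻¹ * (D.t * h1 ^ i * D.t⁻¹) * (D.t * pc * D.t⁻¹) by group,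
    hcm]
  exact mul_mem (mul_mem hkt (pow_mem h1P i)) hpct

theorem kf_P {p : G} (hp : p ∈ D.P) : kf (π p) = 0 := by
  obtain ⟨H, X, hu, C, μ, hC, e⟩ := D.img_P hp
  rw [e]
  exact kf_mul D.hε (kf_uM hu) (kf_lM hC)

theorem comm_P (h01 : (0 : Fin m) ≠ ⟨1, D.hm⟩)
    (ht : Commute D.t (D.A (wj h01) * D.t * (D.A (wj h01))⁻¹))
    (hS : ∀ S : SpecialLinearGroup (Fin m) F, (∀ b, S.1 0 b = if 0 = b then 1 else 0) →
      (∀ a, S.1 a 0 = if a = 0 then 1 else 0) → Commute (D.A S) D.t)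
    (j : Fin m) (hj : (0 : Fin m) ≠ j) {w : G} (hw : w ∈ D.P) (e : π w = slM J m ε (wj hj)) :
    Commute D.t (w * D.t * w⁻¹) := by
  obtain rfl : w = D.A (wj hj) := D.eq_P hw (D.K_le (D.toBase.A_mem _)) (by rw [e, D.πA])
  rcases eq_or_ne j ⟨1, D.hm⟩ with rfl | hj1
  · exact ht
  set g := wj (F := F) hj1
  have hg : wj hj = g * wj h01 * g⁻¹ := by
    rw [eq_mul_inv_iff_mul_eq]
    refine Subtype.ext ?_
    rw [Matrix.SpecialLinearGroup.coe_mul, Matrix.SpecialLinearGroup.coe_mul, wj_coe, wj_coe, wj_coe]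
    simp [Matrix.add_mul, Matrix.mul_add, Matrix.sub_mul, Matrix.mul_sub, Matrix.single_mul_single_same,
      Matrix.single_mul_single_of_ne _ _ _ _ hj, Matrix.single_mul_single_of_ne _ _ _ _ hj.symm,
      Matrix.single_mul_single_of_ne _ _ _ _ hj1, Matrix.single_mul_single_of_ne _ _ _ _ hj1.symm,
      Matrix.single_mul_single_of_ne _ _ _ _ h01, Matrix.single_mul_single_of_ne _ _ _ _ h01.symm]
    abel
  have hgc : Commute (D.A g) D.t := hS g
    (fun b => by simp [g, wj_coe, Matrix.one_apply, Matrix.single_apply, hj.symm, h01.symm])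
    (fun a => by simp [g, wj_coe, Matrix.one_apply, Matrix.single_apply, hj.symm, h01.symm])
  have h2 := ht.map (MulAut.conj (D.A g)).toMonoidHom
  simp only [MulEquiv.coe_toMonoidHom, MulAut.conj_apply] at h2
  rw [hgc.eq, mul_inv_cancel_right] at h2
  convert h2 using 1
  rw [hg, map_mul, map_mul, map_inv]
  calc D.A g * D.A (wj h01) * (D.A g)⁻¹ * D.t * (D.A g * D.A (wj h01) * (D.A g)⁻¹)⁻¹
      = D.A g * D.A (wj h01) * ((D.A g)⁻¹ * D.t) * (D.A g * (D.A (wj h01))⁻¹ * (D.A g)⁻¹) := by group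
    _ = _ := by rw [hgc.inv_left.eq]; group

end ParData

end Cfsg.Lib.Linear.ShortPres.SUN
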