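import Cfsg.Agent.Lib.Linear.ShortPres.SUN.NormA
import Cfsg.Agent.Lib.Linear.ShortPres.SUN.Par
import Cfsg.Agent.Lib.Linear.ShortPres.SUN.Mdl

/-!
# Words and model values for the even dimensional unitary groups
-/

set_option autoImplicit false
set_option linter.unusedSectionVars false

namespace Cfsg.Lib.Linear.ShortPres.SUN

open Matrix Cfsg.Lib.Linear.SUDegree Cfsg.Lib.Linear.Herm

variable {F : Type*} [Field F] {J : Conj F}

theorem col_mul_st {m : ℕ} (v w : Fin m → F) (i j : Fin m) :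
    (col v * st J.σ (col w)) i j = v i * J.σ (w j) := by
  rw [col_mul, Matrix.of_apply]

theorem erel {m : ℕ} (v : Fin m → F) :
    J.η • (col v * st J.σ (col v)) + st J.σ (J.η • (col v * st J.σ (col v))) +
      (0 : Matrix (Fin m) (Fin 0) F) * st J.σ (0 : Matrix (Fin m) (Fin 0) F) = 0 := by
  rw [Matrix.zero_mul, add_zero, Cfsg.Lib.Linear.SUDegree.st_smul, Cfsg.Lib.Linear.SUDegree.st_mul, st_st J.inv2,
    J.η_skew, neg_smul, add_neg_cancel]

theorem srel {m : ℕ} (M : Matrix (Fin m) (Fin m) F) :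
    J.η • (M + st J.σ M) + st J.σ (J.η • (M + st J.σ M)) +
      (0 : Matrix (Fin m) (Fin 0) F) * st J.σ (0 : Matrix (Fin m) (Fin 0) F) = 0 := by
  rw [Matrix.zero_mul, add_zero, Cfsg.Lib.Linear.SUDegree.st_smul, Cfsg.Lib.Linear.SUDegree.st_add, st_st J.inv2,
    J.η_skew, neg_smul, add_comm (st J.σ M) M, add_neg_cancel]

theorem uM_mul0 {m : ℕ} {H H' : Matrix (Fin m) (Fin m) F} {X X' : Matrix (Fin m) (Fin 0) F}
    (h : H + st J.σ H + X * st J.σ X = 0) (h' : H' + st J.σ H' + X' * st J.σ X' = 0) :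
    ∃ h'' : H + H' + st J.σ (H + H') + (0 : Matrix (Fin m) (Fin 0) F) * st J.σ (0 : Matrix (Fin m) (Fin 0) F) = 0,
      (uM h * uM h' : Mg J m 0) = uM h'' := by
  have hX : X = 0 := Subsingleton.elim _ _
  have hX' : X' = 0 := Subsingleton.elim _ _
  subst hX hX'
  refine ⟨?_, ?_⟩
  · simp only [Matrix.zero_mul, add_zero] at h h' ⊢
    rw [Cfsg.Lib.Linear.SUDegree.st_add, show H + H' + (st J.σ H + st J.σ H') = (H + st J.σ H) + (H' + st J.σ H') by abel,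
      h, h', add_zero]
  · rw [uM_mul]
    exact uM_congr _ _ (by simp) (Subsingleton.elim _ _)

theorem uM0_eq_one {m : ℕ} {H : Matrix (Fin m) (Fin m) F} {X : Matrix (Fin m) (Fin 0) F}
    (h : H + st J.σ H + X * st J.σ X = 0) (hH : H = 0) : (uM h : Mg J m 0) = 1 := by
  subst hH
  refine mat_inj ?_
  rw [mat_uM, mat_one, show X = 0 from Subsingleton.elim _ _, uMat_zero]

theorem slM_uM_e {m : ℕ} (C : SpecialLinearGroup (Fin m) F) (v : Fin m → F) :
    slM J m 0 C * uM (erel v) * (slM J m 0 C)⁻¹ = uM (erel (C.1 *ᵥ v)) := by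
  rw [mul_inv_eq_iff_eq_mul]
  have e := lM_uM (levOK_sl (J := J) (ε := 0) C) (erel v)
  have hcol : C.1 * col v = col (C.1 *ᵥ v) := by ext i j; simp [Matrix.mul_apply, Matrix.mulVec, dotProduct]
  refine e.trans (congrArg (fun u => u * lM (levOK_sl C)) (uM_congr _ _ ?_ (Subsingleton.elim _ _)))
  show C.1 * (J.η • (col v * st J.σ (col v))) * st J.σ C.1 = J.η • (col (C.1 *ᵥ v) * st J.σ (col (C.1 *ᵥ v)))
  rw [← hcol, Cfsg.Lib.Linear.SUDegree.st_mul, Matrix.mul_smul, Matrix.smul_mul]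
  simp only [Matrix.mul_assoc]

namespace Pm

variable (Q : Pm J) {k : ℕ} [NeZero k] {G : Type*} [Group G] (A : SpecialLinearGroup (Fin (k + 1)) F → G) (x t : G)

/-- The norm of the field generator. -/
def n0 : F := Q.ζ * J.σ Q.ζ

/-- A generator of the elements of norm one. -/
def nu : F := Q.ζ / J.σ Q.ζ

/-- An element of norm minus one. -/
noncomputable def io : F := (Q.norm (-1) (by simp)).choose

theorem io_norm : J.σ Q.io * Q.io = -1 := (Q.norm (-1) (by simp)).choose_spec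

theorem n0_ne : Q.n0 ≠ 0 := mul_ne_zero Q.ζ_ne (by simpa using Q.ζ_ne)

theorem n0_fix : J.σ Q.n0 = Q.n0 := by rw [n0, map_mul, J.inv2, mul_comm]

theorem n0_gen {a : F} (ha : a ≠ 0) (hs : J.σ a = a) : ∃ i : ℕ, Q.n0 ^ i = a := by
  obtain ⟨b, rfl⟩ := Q.norm a hs
  obtain ⟨i, hi⟩ := Q.gen b (right_ne_zero_of_mul ha)
  exact ⟨i, by rw [n0, mul_pow, ← map_pow, hi, mul_comm]⟩

theorem nu_gen {l : F} (hl : l * J.σ l = 1) : ∃ i : ℕ, Q.nu ^ i = l := by
  have hne := J.η_ne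
  have key : ∀ b : F, b ≠ 0 → b / J.σ b = l → ∃ i : ℕ, Q.nu ^ i = l := fun b hb e => by
    obtain ⟨i, hi⟩ := Q.gen b hb
    exact ⟨i, by rw [nu, div_pow, ← map_pow, hi, e]⟩
  rcases eq_or_ne (1 + l) 0 with h | h
  · refine key J.η hne ?_
    rw [J.η_skew, div_neg, div_self hne]
    linear_combination -h
  · refine key (1 + l) h ?_
    have hs : J.σ (1 + l) ≠ 0 := (map_ne_zero J.σ).2 h
    rw [div_eq_iff hs, map_add, map_one]
    linear_combination -hl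

/-- The torus element in even dimension. -/
noncomputable def he : G :=
  (xa A x (Q.io * Q.ζ))⁻¹ * (t * xa A x Q.ζ⁻¹ * t⁻¹) * (xa A x (Q.io * Q.ζ))⁻¹ * t⁻¹

/-- The mixed element. -/
def ph : G := x⁻¹ * (xs A x w10)⁻¹ * xs A x (tv (h01 (k := k)).symm 1)

end Pm

variable {k : ℕ} [NeZero k] (Q : Pm J)

/-- The root element of the even model. -/
def xE (J : Conj F) (k : ℕ) [NeZero k] : Mg J (k + 1) 0 := uM (erel (Pi.single (0 : Fin (k + 1)) (1 : F)))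

theorem exa (c : F) : Pm.xa (slM J (k + 1) 0) (xE J k) c = uM (erel (Pi.single (0 : Fin (k + 1)) c)) := by
  rw [Pm.xa]
  split_ifs with h
  · subst h
    exact (uM0_eq_one _ (by rw [Pi.single_zero, show col (0 : Fin (k + 1) → F) = 0 from rfl, Matrix.zero_mul, smul_zero])).symm
  · rw [Pm.xs, xE, slM_uM_e]; exact uM_congr _ _ (by rw [Pm.dl_mulVec h]) rfl

theorem e_single (c : F) : J.η • (col (Pi.single (0 : Fin (k + 1)) c) * st J.σ (col (Pi.single (0 : Fin (k + 1)) c))) =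
    Matrix.single 0 0 (J.η * (c * J.σ c)) := by
  ext i j
  rw [Matrix.smul_apply, col_mul_st, Matrix.single_apply, smul_eq_mul]
  by_cases hi : i = 0 <;> by_cases hj : j = 0 <;> simp [hi, hj, Ne.symm]

theorem mhe : ∃ (C : GL (Fin (k + 1)) F) (μ : F) (hC : LevOK J 0 C μ),
    C.1 = d0 Q.n0 ∧ Q.he (slM J (k + 1) 0) (xE J k) (tM J 0 0) = lM hC := by
  have hne := J.η_ne
  have hζ := Q.ζ_ne
  have hsζ : J.σ Q.ζ ≠ 0 := by simpa using Q.ζ_ne
  obtain ⟨c, hc⟩ : ∃ c : F, c = J.η * (Q.ζ⁻¹ * J.σ Q.ζ⁻¹) := ⟨_, rfl⟩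
  have hc0 : c ≠ 0 := by rw [hc, map_inv₀]; simp [hne, hζ]
  have hsc : J.σ c = -c := by rw [hc, map_mul, map_mul, J.η_skew, J.inv2]; ring
  have h : c + J.σ c + ∑ e : Fin 0, (Fin.elim0 e : F) * J.σ (Fin.elim0 e : F) = 0 := by simp [hsc]
  have hlam : -J.η / J.σ c = Q.n0 := by rw [hsc, hc, Pm.n0, map_inv₀]; field_simp
  have hL : LevOK J 0 (g0 (m := k + 1) (-J.η / J.σ c)
      (div_ne_zero (neg_ne_zero.2 J.η_ne) (by simpa using hc0))) (1 : F) := by
    refine ⟨by simp, ?_⟩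
    rw [g0_coe, g0_inv_coe, d0_det, d0_det, pow_zero, mul_one, map_inv₀, hlam, Q.n0_fix, mul_inv_cancel₀ Q.n0_ne]
  have hc' : -J.η ^ 2 / c = J.η * (Q.io * Q.ζ * J.σ (Q.io * Q.ζ)) := by
    rw [map_mul, show Q.io * Q.ζ * (J.σ Q.io * J.σ Q.ζ) = J.σ Q.io * Q.io * (Q.ζ * J.σ Q.ζ) by ring, Q.io_norm, hc,
      map_inv₀]
    field_simp
  have ha : -J.η ^ 2 / c + J.σ (-J.η ^ 2 / c) + ∑ e : Fin 0, J.η * (Fin.elim0 e : F) / J.σ c * J.σ (J.η * (Fin.elim0 e : F) / J.σ c) = 0 := by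
    rw [map_div₀, hsc, map_neg, map_pow, J.η_skew]; simp [div_neg, neg_sq]
  have hb : -J.η ^ 2 / c + J.σ (-J.η ^ 2 / c) + ∑ e : Fin 0, J.η * (Fin.elim0 e : F) / c * J.σ (J.η * (Fin.elim0 e : F) / c) = 0 := by
    simpa using ha
  refine ⟨_, _, hL, by rw [g0_coe, hlam], ?_⟩
  have e := cell_eq (J := J) (m := k + 1) (v := (Fin.elim0 : Fin 0 → F)) hc0 h (by simp) hL zero_le_one ha hb
  have key : ∀ (b d : F) (v : Fin 0 → F) (hd : d + J.σ d + ∑ i, v i * J.σ (v i) = 0), d = J.η * (b * J.σ b) →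
      Pm.xa (slM J (k + 1) 0) (xE J k) b = uM (rel0 (m := k + 1) hd) := fun b d v hd e' => by
    rw [exa]
    exact uM_congr _ _ ((e_single b).trans (by rw [e'])) (Subsingleton.elim _ _)
  have k2 := key (Q.io * Q.ζ) _ _ ha hc'
  have k3 := key (Q.io * Q.ζ) _ _ hb hc'
  rw [Pm.he, key Q.ζ⁻¹ c _ h hc, e]
  nth_rw 1 [k2]
  rw [k3]
  group

end Cfsg.Lib.Linear.ShortPres.SUN
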