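import Cfsg.Agent.Lib.Linear.ShortPres.SUN.OddWords
import Cfsg.Agent.Lib.Linear.SLBasic

/-!
# An element normalising the special linear group
-/

set_option autoImplicit false
set_option linter.unusedSectionVars false

namespace Cfsg.Lib.Linear.ShortPres.SUN

open Matrix Cfsg.Lib.Linear.SUDegree Cfsg.Lib.Linear.Herm

variable {F : Type*} [Field F]

namespace Odd

variable {k : ℕ} [NeZero k]

theorem ext0_e (S : SpecialLinearGroup (Fin k) F) (c : F) :
    (ext0 S).1 *ᵥ Pi.single 0 c = Pi.single (0 : Fin (k + 1)) c := by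
  funext a
  rw [Matrix.mulVec_single, Pi.smul_apply, Matrix.col_apply, (ext0_apply S).2.1]
  by_cases h : a = 0
  · subst h; simp
  · simp [h]

theorem w01_e0 (c : F) : (Pm.w01 (F := F) (k := k)).1 *ᵥ Pi.single 0 c = Pi.single 1 (-c) := by
  funext a
  rw [Matrix.mulVec_single, Pi.smul_apply, Matrix.col_apply, Pm.w01, wj_coe]
  rcases eq_or_ne a 0 with rfl | ha
  · simp [Matrix.single_apply, Pm.h01, Pm.h01.symm]
  · rcases eq_or_ne a 1 with rfl | ha1
    · simp [Matrix.single_apply, Pm.h01, Pm.h01.symm]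
    · simp [Matrix.single_apply, Matrix.one_apply, ha, Ne.symm ha, Ne.symm ha1, ha1]

theorem w01_e1 (c : F) : (Pm.w01 (F := F) (k := k)).1 *ᵥ Pi.single 1 c = Pi.single 0 c := by
  funext a
  rw [Matrix.mulVec_single, Pi.smul_apply, Matrix.col_apply, Pm.w01, wj_coe]
  rcases eq_or_ne a 0 with rfl | ha
  · simp [Matrix.single_apply, Pm.h01, Pm.h01.symm]
  · rcases eq_or_ne a 1 with rfl | ha1
    · simp [Matrix.single_apply, Pm.h01, Pm.h01.symm]
    · simp [Matrix.single_apply, Matrix.one_apply, ha, Ne.symm ha, Ne.symm ha1, ha1]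

end Odd

open Odd in
/-- A torus element normalises the special linear group. -/
theorem mem_normalizer_range [Finite F] {k : ℕ} [NeZero k] {G : Type*} [Group G]
    (A : SpecialLinearGroup (Fin (k + 1)) F →* G) (hk : 2 ≤ k) {h : G} {c0 : F} (hc : c0 ≠ 0)
    (hcomm : ∀ S, Commute (A (ext0 S)) h) (hσ : A Pm.w01 * h * (A Pm.w01)⁻¹ = h * A (Pm.dl c0⁻¹)) :
    h ∈ Subgroup.normalizer (A.range : Set G) := by
  let Hn : Subgroup (SpecialLinearGroup (Fin (k + 1)) F) := (A.range.comap (MulAut.conj h).toMonoidHom).comap A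
  have hn : ∀ C, C ∈ Hn ↔ ∃ C', A C' = h * A C * h⁻¹ := fun C => Iff.rfl
  have h0 : ∀ S, ext0 S ∈ Hn := fun S => (hn _).2 ⟨ext0 S, by rw [← (hcomm S).eq, mul_inv_cancel_right]⟩
  have hd : ∀ S : SpecialLinearGroup (Fin k) F, Pm.w01 * ext0 S * Pm.w01⁻¹ ∈ Hn := by
    intro S
    set w : SpecialLinearGroup (Fin (k + 1)) F := Pm.w01
    set d : SpecialLinearGroup (Fin (k + 1)) F := Pm.dl c0⁻¹
    have hinv : (c0⁻¹ : F) ≠ 0 := inv_ne_zero hc
    set C' := w⁻¹ * (d⁻¹ * (w * ext0 S * w⁻¹) * d) * w with hC'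
    obtain ⟨S', hS'⟩ : ∃ S', ext0 S' = C' := by
      set e := w⁻¹ * d * w with he
      have hdiag : ∀ c, e.1 *ᵥ Pi.single 0 c = Pi.single 0 (c0 * c) := by
        intro c
        rw [he, Matrix.SpecialLinearGroup.coe_mul, Matrix.SpecialLinearGroup.coe_mul, ← Matrix.mulVec_mulVec,
          ← Matrix.mulVec_mulVec, w01_e0,
          show d.1 *ᵥ Pi.single 1 (-c) = Pi.single 1 (-(c0 * c)) by
            funext a
            rw [Pm.dl_coe hinv, Matrix.mulVec_diagonal]
            rcases eq_or_ne a 1 with rfl | ha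
            · simp [Pm.h01.symm]
            · simp [ha],
          ← w01_e0 (c0 * c), Matrix.mulVec_mulVec, ← Matrix.SpecialLinearGroup.coe_mul, inv_mul_cancel,
          Matrix.SpecialLinearGroup.coe_one, Matrix.one_mulVec]
      have hrow : ∀ b, e.1 0 b = if 0 = b then c0 else 0 := by
        intro b
        have hw0 : ∀ M : Matrix (Fin (k + 1)) (Fin (k + 1)) F, ∀ b, (w.1 * M) 1 b = -M 0 b := fun M b => by
          rw [show w = Pm.w01 from rfl, Pm.w01, wj_coe]
          simp [Matrix.add_mul, Matrix.sub_mul, Pm.h01, Pm.h01.symm]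
        have h1 : e.1 0 b = -(d.1 * w.1) 1 b := by
          rw [← neg_neg (e.1 0 b), ← hw0, he, Matrix.SpecialLinearGroup.coe_mul, Matrix.SpecialLinearGroup.coe_mul,
            ← Matrix.mul_assoc, ← Matrix.mul_assoc, ← Matrix.SpecialLinearGroup.coe_mul, mul_inv_cancel]
          simp
        rw [h1, Pm.dl_coe hinv, Matrix.diagonal_mul, show w = Pm.w01 from rfl, Pm.w01, wj_coe]
        rcases eq_or_ne b 0 with rfl | hb
        · simp [Pm.h01, Pm.h01.symm]
        · rcases eq_or_ne b 1 with rfl | hb1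
          · simp [Pm.h01, Pm.h01.symm]
          · simp [Matrix.single_apply, Matrix.one_apply, Pm.h01, Pm.h01.symm, hb, hb1, Ne.symm hb, Ne.symm hb1]
      have heq : C' = e⁻¹ * ext0 S * e := by rw [hC', he]; group
      have heC : e * C' = ext0 S * e := by rw [heq]; group
      refine exists_ext0 C' (fun b => ?_) fun a => ?_
      · have h := congrFun (congrFun (congrArg Subtype.val heC) 0) b
        simp only [Matrix.SpecialLinearGroup.coe_mul, Matrix.mul_apply, hrow, (ext0_apply S).1] at h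
        simp [hrow] at h
        by_cases hb : 0 = b
        · rw [if_pos hb] at h ⊢
          exact mul_left_cancel₀ hc (h.trans (mul_one _).symm)
        · rw [if_neg hb] at h ⊢
          exact (mul_eq_zero.1 h).resolve_left hc
      · have h : C'.1 *ᵥ Pi.single 0 1 = Pi.single 0 1 := by
          have h2 : (e.1 * C'.1) *ᵥ Pi.single 0 1 = e.1 *ᵥ Pi.single 0 1 := by
            rw [← Matrix.SpecialLinearGroup.coe_mul, heC, Matrix.SpecialLinearGroup.coe_mul, ← Matrix.mulVec_mulVec,
              hdiag, ext0_e]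
          have h3 := congrArg (fun v => (e⁻¹).1 *ᵥ v) h2
          simp only [Matrix.mulVec_mulVec, ← Matrix.mul_assoc, ← Matrix.SpecialLinearGroup.coe_mul, inv_mul_cancel,
            one_mul, Matrix.SpecialLinearGroup.coe_one, Matrix.one_mulVec, inv_mul_cancel_left] at h3
          exact h3
        have := congrFun h a
        simpa [Pi.single_apply] using this
    refine (hn _).2 ⟨w * C' * w⁻¹, ?_⟩
    have e1 : h = (A Pm.w01 * h * (A Pm.w01)⁻¹) * (A d)⁻¹ := eq_mul_inv_iff_mul_eq.2 hσ.symm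
    have e2 := (hcomm S').eq
    rw [← hS']
    calc A (w * ext0 S' * w⁻¹) = A w * (h * A (ext0 S') * h⁻¹) * (A w)⁻¹ := by
          rw [← e2, mul_inv_cancel_right, map_mul, map_mul, map_inv]
      _ = (A Pm.w01 * h * (A Pm.w01)⁻¹) * (A d)⁻¹ * (A d * A (w * ext0 S' * w⁻¹) * (A d)⁻¹) * ((A Pm.w01 * h * (A Pm.w01)⁻¹) * (A d)⁻¹)⁻¹ := by
          simp only [map_mul, map_inv, show (Pm.w01 : SpecialLinearGroup (Fin (k + 1)) F) = w from rfl]; group
      _ = h * A (w * ext0 S * w⁻¹) * h⁻¹ := by
          rw [← e1, hS', hC', ← map_inv A d, ← map_mul, ← map_mul]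
          congr 2
          group
  have htv : ∀ (i j : Fin (k + 1)) (hij : i ≠ j) (c : F), tv hij c ∈ Hn := by
    have h1 : ∀ (i j : Fin (k + 1)) (hij : i ≠ j) (c : F), i ≠ 0 → j ≠ 0 → tv hij c ∈ Hn := by
      intro i j hij c hi hj
      obtain ⟨S, hS⟩ := exists_ext0 (tv hij c) (fun b => by simp [tv_coe, Matrix.one_apply, Matrix.single_apply, hi])
        (fun a => by simp [tv_coe, Matrix.one_apply, Matrix.single_apply, hj])
      exact hS ▸ h0 S
    have h2 : ∀ (i j : Fin (k + 1)) (hij : i ≠ j) (c : F), i ≠ 1 → j ≠ 1 → tv hij c ∈ Hn := by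
      intro i j hij c hi hj
      set w : SpecialLinearGroup (Fin (k + 1)) F := Pm.w01
      have hrow : ∀ b, w.1 1 b = if 0 = b then -1 else 0 := fun b => by
        rw [show w = Pm.w01 from rfl, Pm.w01, wj_coe]
        rcases eq_or_ne b 0 with rfl | hb
        · simp [Pm.h01, Pm.h01.symm]
        · rcases eq_or_ne b 1 with rfl | hb1
          · simp [Pm.h01, Pm.h01.symm]
          · simp [Matrix.single_apply, Matrix.one_apply, hb, hb1, Ne.symm hb, Ne.symm hb1, Pm.h01]
      set C' := w⁻¹ * tv hij c * w with hC'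
      have hwC : w * C' = tv hij c * w := by rw [hC']; group
      obtain ⟨S, hS⟩ : ∃ S, ext0 S = C' := by
        refine exists_ext0 C' (fun b => ?_) fun a => ?_
        · have h := congrFun (congrFun (congrArg Subtype.val hwC) 1) b
          simp only [Matrix.SpecialLinearGroup.coe_mul, Matrix.mul_apply, hrow] at h
          simp [tv_coe, Matrix.one_apply, Matrix.single_apply, hi, hrow] at h
          by_cases hb : 0 = b <;> simp [hb] at h ⊢ <;> exact h
        · have h : C'.1 *ᵥ Pi.single 0 1 = Pi.single 0 1 := by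
            have e : (tv hij c).1 *ᵥ Pi.single 1 (-1 : F) = Pi.single 1 (-1) := funext fun a => by
              rw [tv_mul_apply, Pi.single_eq_of_ne hj]; simp
            rw [hC', Matrix.SpecialLinearGroup.coe_mul, Matrix.SpecialLinearGroup.coe_mul, ← Matrix.mulVec_mulVec,
              ← Matrix.mulVec_mulVec, w01_e0, e, ← w01_e0, Matrix.mulVec_mulVec,
              ← Matrix.SpecialLinearGroup.coe_mul, inv_mul_cancel, Matrix.SpecialLinearGroup.coe_one, Matrix.one_mulVec]
          have := congrFun h a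
          simpa [Pi.single_apply] using this
      have : tv hij c = w * ext0 S * w⁻¹ := by rw [hS, hC']; group
      exact this ▸ hd S
    intro i j hij c
    by_cases hc : (i ≠ 0 ∧ j ≠ 0) ∨ (i ≠ 1 ∧ j ≠ 1)
    · rcases hc with h | h
      · exact h1 i j hij c h.1 h.2
      · exact h2 i j hij c h.1 h.2
    obtain ⟨l, hl0, hl1⟩ : ∃ l : Fin (k + 1), l ≠ 0 ∧ l ≠ 1 := ⟨⟨2, by have := hk; omega⟩, by simp [Fin.ext_iff], by
      have := hk
      simp [Fin.ext_iff, Fin.val_one', Nat.mod_eq_of_lt (by omega : 1 < k + 1)]⟩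
    have hil : i ≠ l := fun e => by subst e; simp [hl0, hl1] at hc; exact Pm.h01 (hc.1.symm.trans hc.2)
    have hjl : l ≠ j := fun e => by subst e; simp [hl0, hl1] at hc; exact Pm.h01 (hc.1.symm.trans hc.2)
    have hcase : ∀ a b : Fin (k + 1), ∀ hab : a ≠ b, ∀ x, (a = l ∨ b = l) → tv hab x ∈ Hn := by
      intro a b hab x hl
      by_cases ha : a = 0 ∨ b = 0
      · refine h2 a b hab x ?_ ?_ <;> rintro rfl <;> rcases ha with ha | ha <;> rcases hl with hl | hl <;>
          simp_all [Pm.h01, Pm.h01.symm, eq_comm]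
      · push Not at ha; exact h1 a b hab x ha.1 ha.2
    show Matrix.SpecialLinearGroup.transvection hij c ∈ Hn
    rw [Cfsg.Lib.Linear.transvection_eq_commutator hij hil hjl c, commutatorElement_def]
    exact mul_mem (mul_mem (mul_mem (hcase _ _ hil c (Or.inr rfl)) (hcase _ _ hjl 1 (Or.inl rfl)))
      (inv_mem (hcase _ _ hil c (Or.inr rfl)))) (inv_mem (hcase _ _ hjl 1 (Or.inl rfl)))
  have htop : ∀ C, C ∈ Hn := fun C => by
    have : Subgroup.closure {T : SpecialLinearGroup (Fin (k + 1)) F |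
        ∃ (i j : Fin (k + 1)) (h : i ≠ j) (c : F), T = SpecialLinearGroup.transvection h c} ≤ Hn := by
      rw [Subgroup.closure_le]; rintro _ ⟨i, j, hij, c, rfl⟩; exact htv i j hij c
    rw [Cfsg.Lib.Linear.closure_transvection_eq_top] at this
    exact this trivial
  haveI : Finite (SpecialLinearGroup (Fin (k + 1)) F) := Subtype.finite
  haveI : Finite A.range := Finite.of_surjective A.rangeRestrict A.rangeRestrict_surjective
  refine Subgroup.mem_normalizer_iff.2 fun y => ?_
  let f : A.range → A.range := fun y => ⟨h * y.1 * h⁻¹, by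
    obtain ⟨C, hC⟩ := y.2
    rw [← hC]; exact htop C⟩
  refine ⟨fun hy => (f ⟨y, hy⟩).2, fun hy => ?_⟩
  have hf : Function.Injective f := fun a b e => Subtype.ext (by simpa [f] using congrArg Subtype.val e)
  obtain ⟨z, hz⟩ := (Finite.injective_iff_surjective.1 hf) ⟨_, hy⟩
  have : z.1 = y := by simpa [f] using congrArg Subtype.val hz
  exact this ▸ z.2

end Cfsg.Lib.Linear.ShortPres.SUN
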