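import Cfsg.Agent.Lib.Linear.ShortPres.SUN.OddWords
import Cfsg.Agent.Lib.Linear.ShortPres.SUN.NormA
import Cfsg.Agent.Lib.Linear.ShortPres.SUN.EvenWords

/-!
# Odd dimension: the radical of a covering given by few relations
-/

set_option autoImplicit false
set_option linter.unusedSectionVars false

namespace Cfsg.Lib.Linear.ShortPres.SUN

open Matrix Cfsg.Lib.Linear.SUDegree Cfsg.Lib.Linear.Herm
open scoped commutatorElement

variable {F : Type*} [Field F] {J : Conj F}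

theorem π_comm_x {m : ℕ} {κ : F} (hκ : κ + J.σ κ + 1 = 0) (v w : Fin m → F) :
    ⁅(uM (xrel hκ v) : Mg J m 1), uM (xrel hκ w)⁆ = uM (mrel (col v * st J.σ (col w))) := by
  rw [commutatorElement_def, mul_inv_eq_iff_eq_mul, mul_inv_eq_iff_eq_mul, uM_mul]
  erw [uM_mul, uM_mul]
  refine uM_congr _ _ ?_ (by rw [zero_add, add_comm])
  rw [Cfsg.Lib.Linear.SUDegree.st_mul, st_st J.inv2]
  simp only [sub_zero, Matrix.add_mul, Matrix.zero_mul, zero_add]
  abel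

theorem slM_uM_x {m : ℕ} {κ : F} (hκ : κ + J.σ κ + 1 = 0) (C : SpecialLinearGroup (Fin m) F) (v : Fin m → F) :
    slM J m 1 C * uM (xrel hκ v) * (slM J m 1 C)⁻¹ = uM (xrel hκ (C.1 *ᵥ v)) := by
  rw [mul_inv_eq_iff_eq_mul]
  have e := lM_uM (levOK_sl (J := J) (ε := 1) C) (xrel hκ v)
  have hcol : C.1 * col v = col (C.1 *ᵥ v) := by ext i j; simp [Matrix.mul_apply, Matrix.mulVec, dotProduct]
  refine e.trans (congrArg (fun u => u * lM (levOK_sl C)) (uM_congr _ _ ?_ ?_))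
  · show C.1 * (κ • (col v * st J.σ (col v))) * st J.σ C.1 = κ • (col (C.1 *ᵥ v) * st J.σ (col (C.1 *ᵥ v)))
    rw [← hcol, Cfsg.Lib.Linear.SUDegree.st_mul, Matrix.mul_smul, Matrix.smul_mul]
    simp only [Matrix.mul_assoc]
  · show J.σ 1 • (C.1 * col v) = _
    rw [map_one, one_smul, hcol]

theorem slM_injective {m ε : ℕ} : Function.Injective (slM J m ε) := fun C C' h => by
  refine Subtype.ext (Matrix.ext fun i j => ?_)
  have := congrFun (congrFun (congrArg mat h) (Sum.inl (Sum.inl i))) (Sum.inl (Sum.inl j))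
  simpa [slM_apply, lMat] using this

theorem col_single {k : ℕ} (c : F) : col (Pi.single (0 : Fin (k + 1)) c) = rowM 0 (fun _ : Fin 1 => c) := by
  ext i j
  by_cases h : i = 0 <;> simp [rowM, h, Pi.single_apply]

/-- The special linear group is transitive on nonzero vectors. -/
theorem exists_Cv {k : ℕ} [NeZero k] {v : Fin (k + 1) → F} (hv : v ≠ 0) :
    ∃ C : SpecialLinearGroup (Fin (k + 1)) F, C.1 *ᵥ Pi.single 0 1 = v := by
  obtain ⟨C, hC⟩ := exists_move (by have := NeZero.ne k; omega : 2 ≤ k + 1) hv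
  exact ⟨C⁻¹, by rw [← hC, Matrix.mulVec_mulVec, ← Matrix.SpecialLinearGroup.coe_mul, inv_mul_cancel,
    Matrix.SpecialLinearGroup.coe_one, Matrix.one_mulVec]⟩

theorem eq_one_of_two {k : ℕ} [NeZero k] (hk : k = 1) {j : Fin (k + 1)} (hj : j ≠ 0) : j = 1 := by
  subst hk; fin_cases j
  · exact absurd rfl hj
  · rfl

theorem tail_two {k : ℕ} [NeZero k] (hk : k = 1) {v : Fin (k + 1) → F} (hv : v 0 = 0) : v = Pi.single 1 (v 1) :=
  funext fun a => by
    rcases eq_or_ne a 0 with rfl | ha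
    · rw [hv, Pi.single_eq_of_ne Pm.h01]
    · rw [eq_one_of_two hk ha, Pi.single_eq_same]

theorem w10_dl_mulVec {k : ℕ} [NeZero k] {c : F} (hc : c ≠ 0) :
    (Pm.w10 * Pm.dl c : SpecialLinearGroup (Fin (k + 1)) F).1 *ᵥ Pi.single 0 1 = Pi.single 1 c := by
  rw [Matrix.SpecialLinearGroup.coe_mul, ← Matrix.mulVec_mulVec, Pm.dl_mulVec hc,
    show (Pi.single 0 c : Fin (k + 1) → F) = c • Pi.single 0 1 by rw [← Pi.single_smul, smul_eq_mul, mul_one],
    Matrix.mulVec_smul, Pm.w10_mulVec, ← Pi.single_smul, smul_eq_mul, mul_one]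

theorem d0_single {k : ℕ} (c b : F) (a : Fin (k + 1)) :
    d0 (m := k + 1) c *ᵥ Pi.single a b = Pi.single a ((if a = 0 then c else 1) * b) :=
  funext fun i => by
    rw [d0, Matrix.mulVec_diagonal]
    rcases eq_or_ne i a with rfl | h
    · simp
    · simp [h]

theorem dl_single {k : ℕ} [NeZero k] {c : F} (hc : c ≠ 0) (b : F) :
    (Pm.dl (k := k) c).1 *ᵥ Pi.single 1 b = Pi.single 1 (c⁻¹ * b) :=
  funext fun i => by
    rw [Pm.dl_coe hc, Matrix.mulVec_diagonal]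
    rcases eq_or_ne i 1 with rfl | h
    · simp [Pm.h01.symm]
    · simp [h]

theorem dl_single0 {k : ℕ} [NeZero k] {c : F} (hc : c ≠ 0) (b : F) :
    (Pm.dl (k := k) c).1 *ᵥ Pi.single 0 b = Pi.single 0 (c * b) :=
  funext fun i => by
    rw [Pm.dl_coe hc, Matrix.mulVec_diagonal]
    rcases eq_or_ne i 0 with rfl | h
    · simp
    · simp [h]

theorem dl_pow {k : ℕ} [NeZero k] {c : F} (hc : c ≠ 0) (i : ℕ) : (Pm.dl (k := k) c) ^ i = Pm.dl (c ^ i) := by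
  refine Subtype.ext ?_
  rw [Matrix.SpecialLinearGroup.coe_pow, Pm.dl_coe hc, Pm.dl_coe (pow_ne_zero i hc), Matrix.diagonal_pow]
  congr 1
  funext a
  rw [Pi.pow_apply]
  split_ifs <;> simp [inv_pow]

/-- The scale of the torus on pairs. -/
noncomputable def Pm.scale (Q : Pm J) : F := Q.nu * Q.nu * Q.ζ

theorem exp_five (Q : Pm J) {b : F} (hb : b ≠ 0) : ∃ i j : ℕ, j < 5 ∧ Q.scale ^ i * Q.ζ ^ j = b := by
  obtain ⟨l, hl⟩ := Q.gen b hb
  have hζ := Q.ζ_ne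
  have hsζ : J.σ Q.ζ ≠ 0 := by simpa using hζ
  obtain ⟨n, hn⟩ := Q.gen (J.σ Q.ζ) hsζ
  have h5 : Q.scale ^ (3 + 2 * n) = Q.ζ ^ 5 := by
    have e1 : Q.scale ^ n = J.σ Q.scale := by
      have : ∀ m : ℕ, (Q.ζ ^ n) ^ m = J.σ (Q.ζ ^ m) := fun m => by rw [hn, map_pow]
      obtain ⟨m, hm⟩ := Q.gen Q.scale (mul_ne_zero (mul_ne_zero (div_ne_zero hζ hsζ) (div_ne_zero hζ hsζ)) hζ)
      rw [← hm, ← this, ← pow_mul, ← pow_mul, Nat.mul_comm]
    rw [pow_add, Nat.mul_comm 2 n, pow_mul, e1, Pm.scale, Pm.nu, map_mul, map_mul, map_div₀, J.inv2]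
    field_simp
  refine ⟨(3 + 2 * n) * (l / 5), l % 5, Nat.mod_lt _ (by norm_num), ?_⟩
  rw [pow_mul, h5, ← pow_mul, ← pow_add, Nat.div_add_mod, hl]

/-- The further relations for two indices. -/
structure OddTwo (Q : Pm J) {k : ℕ} [NeZero k] {G : Type*} [Group G] (A : SpecialLinearGroup (Fin (k + 1)) F →* G)
    (x t : G) : Prop where
  one : k = 1
  hNA : Q.hw A x t ∈ Subgroup.normalizer (A.range : Set G)
  hx : Q.hw A x t * x * (Q.hw A x t)⁻¹ = Pm.xa A x (Q.nu * Q.ζ)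
  tdl : ∃ e : ℕ, Q.ζ ^ e = (J.σ Q.ζ)⁻¹ ∧
    t * A (Pm.dl Q.ζ⁻¹) * t⁻¹ = (Q.hw A x t ^ e)⁻¹ * (A Pm.w01 * Q.hw A x t * (A Pm.w01)⁻¹)
  hadd5 : ∀ j < 5, x * Pm.xs A x (Pm.w10 * Pm.dl (Q.ζ ^ j)) =
    Pm.xs A x (tv (Pm.h01 (k := k)).symm (Q.ζ ^ j)) *
      ⁅Pm.xa A x (-J.σ Q.κ), Pm.xs A x (Pm.w10 * Pm.dl (Q.ζ ^ j))⁆
  hW5 : ∀ j < 5, t * ⁅x, Pm.xs A x (Pm.w10 * Pm.dl (Q.ζ ^ j))⁆ * t⁻¹ ∈ A.range

/-- A covering in odd dimension with the relations. -/
structure Odd (J : Conj F) (k : ℕ) [NeZero k] {G : Type*} [Group G] (π : G →* Mg J (k + 1) 1) (Q : Pm J) where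
  A : SpecialLinearGroup (Fin (k + 1)) F →* G
  πA : ∀ C, π (A C) = slM J (k + 1) 1 C
  x : G
  πx : π x = uM (xrel Q.hκ (Pi.single 0 1))
  t : G
  πt : π t = tM J 1 0
  gen : Subgroup.closure (Set.range A ∪ {x, t}) = ⊤
  kind : 2 ≤ k ∨ OddTwo Q A x t
  red : (commutator G = ⊤ ∧ ∀ g, π g = 1 → g ∈ Subgroup.center G → g = 1) ∨
    ∀ i : ℕ, Q.ζ ^ i = 1 → Q.hw A x t ^ i = 1
  fix : ∀ C : SpecialLinearGroup (Fin (k + 1)) F, C.1 *ᵥ Pi.single 0 1 = Pi.single 0 1 → Commute (A C) x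
  tS : ∀ S, Commute (A (ext0 S)) t
  hW : A (tv (Pm.h01 (k := k)).symm J.η⁻¹) * t = t * ⁅x, Pm.xs A x Pm.w10⁆
  hadd : x * Pm.xs A x Pm.w10 = Pm.xs A x (tv (Pm.h01 (k := k)).symm 1) *
    ⁅Pm.xa A x (-J.σ Q.κ), Pm.xs A x Pm.w10⁆
  sq : ∃ N : ℕ, t * t = Q.hw A x t ^ N
  zcell : t * Q.zw A x J.η * t⁻¹ = Q.zw A x (-J.η) * t * Q.zw A x (-J.η)
  hσ : A Pm.w01 * Q.hw A x t * (A Pm.w01)⁻¹ = Q.hw A x t * A (Pm.dl Q.ζ⁻¹)
  tht : ∃ e : ℕ, t * Q.hw A x t * t⁻¹ = Q.hw A x t ^ e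
  tt1 : Commute t (A Pm.w01 * t * (A Pm.w01)⁻¹)
  tX1 : Commute t (Pm.xs A x Pm.w10)

namespace Odd

variable {k : ℕ} [NeZero k] {G : Type*} [Group G] {π : G →* Mg J (k + 1) 1} {Q : Pm J} (D : Odd J k π Q)

theorem A_inj {C C' : SpecialLinearGroup (Fin (k + 1)) F} (h : π (D.A C) = π (D.A C')) : C = C' :=
  slM_injective (by rw [← D.πA, ← D.πA, h])

include D in
theorem hm2 : 2 ≤ k + 1 := by have := NeZero.ne k; omega

/-- The orbit of the root element. -/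
noncomputable def X (v : Fin (k + 1) → F) : G := open Classical in
  if h : v = 0 then 1 else Pm.xs D.A D.x (exists_Cv h).choose

theorem X_zero : D.X 0 = 1 := dif_pos rfl

theorem X_eq {v : Fin (k + 1) → F} (C : SpecialLinearGroup (Fin (k + 1)) F) (hC : C.1 *ᵥ Pi.single 0 1 = v) :
    D.X v = Pm.xs D.A D.x C := by
  have hv : v ≠ 0 := fun e => by
    have h2 : (C⁻¹).1 *ᵥ (C.1 *ᵥ Pi.single 0 1) = 0 := by rw [hC, e, Matrix.mulVec_zero]
    rw [Matrix.mulVec_mulVec, ← Matrix.SpecialLinearGroup.coe_mul, inv_mul_cancel] at h2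
    have := congrFun h2 0
    simp at this
  rw [X, dif_neg hv]
  set C₀ := (exists_Cv hv).choose with hC₀
  have h₀ : C₀.1 *ᵥ Pi.single 0 1 = v := (exists_Cv hv).choose_spec
  have hc := D.fix (C⁻¹ * C₀) (by
    rw [Matrix.SpecialLinearGroup.coe_mul, ← Matrix.mulVec_mulVec, h₀, ← hC, Matrix.mulVec_mulVec,
      ← Matrix.SpecialLinearGroup.coe_mul, inv_mul_cancel, Matrix.SpecialLinearGroup.coe_one, Matrix.one_mulVec])
  rw [Pm.xs, Pm.xs, show C₀ = C * (C⁻¹ * C₀) by simp, map_mul]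
  calc D.A C * D.A (C⁻¹ * C₀) * D.x * (D.A C * D.A (C⁻¹ * C₀))⁻¹
      = D.A C * (D.A (C⁻¹ * C₀) * D.x) * (D.A (C⁻¹ * C₀))⁻¹ * (D.A C)⁻¹ := by group
    _ = _ := by rw [hc.eq]; group

theorem X_e0 : D.X (Pi.single 0 1) = D.x := by
  rw [D.X_eq 1 (by rw [Matrix.SpecialLinearGroup.coe_one, Matrix.one_mulVec]), Pm.xs, map_one]; simp

theorem X_w10 : D.X (Pi.single 1 1) = Pm.xs D.A D.x Pm.w10 := D.X_eq _ Pm.w10_mulVec

theorem xa_eq (c : F) : Pm.xa D.A D.x c = D.X (Pi.single 0 c) := by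
  rw [Pm.xa]
  split_ifs with h
  · rw [h, Pi.single_zero, X_zero]
  · rw [D.X_eq (Pm.dl c) (Pm.dl_mulVec h)]

theorem X_conj (C : SpecialLinearGroup (Fin (k + 1)) F) (v : Fin (k + 1) → F) :
    D.A C * D.X v * (D.A C)⁻¹ = D.X (C.1 *ᵥ v) := by
  rcases eq_or_ne v 0 with rfl | hv
  · rw [Matrix.mulVec_zero, X_zero]; group
  obtain ⟨C₀, h₀⟩ := exists_Cv hv
  rw [D.X_eq C₀ h₀, D.X_eq (C * C₀) (by
    rw [Matrix.SpecialLinearGroup.coe_mul, ← Matrix.mulVec_mulVec, h₀]), Pm.xs, Pm.xs, map_mul]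
  group

theorem comm_conj (C : SpecialLinearGroup (Fin (k + 1)) F) (v w : Fin (k + 1) → F) :
    D.A C * ⁅D.X v, D.X w⁆ * (D.A C)⁻¹ = ⁅D.X (C.1 *ᵥ v), D.X (C.1 *ᵥ w)⁆ := by
  rw [← D.X_conj, ← D.X_conj, commutatorElement_def, commutatorElement_def]; group

theorem π_X (v : Fin (k + 1) → F) : π (D.X v) = uM (xrel Q.hκ v) := by
  rcases eq_or_ne v 0 with rfl | hv
  · rw [X_zero, map_one]
    refine mat_inj ?_
    rw [mat_one, mat_uM, show col (0 : Fin (k + 1) → F) = 0 from rfl]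
    simp [Cfsg.Lib.Linear.SUDegree.st_zero, uMat_zero]
  obtain ⟨C₀, h₀⟩ := exists_Cv hv
  rw [D.X_eq C₀ h₀, Pm.xs, map_mul, map_mul, map_inv, D.πA, D.πx, slM_uM_x Q.hκ]
  exact uM_congr _ _ (by rw [h₀]) (by rw [h₀])

theorem π_comm (v w : Fin (k + 1) → F) : π ⁅D.X v, D.X w⁆ = uM (mrel (col v * st J.σ (col w))) := by
  rw [map_commutatorElement, D.π_X, D.π_X, π_comm_x Q.hκ]

omit [NeZero k] in
theorem col_single_mul (a b : F) : col (Pi.single (0 : Fin (k + 1)) a) * st J.σ (col (Pi.single (0 : Fin (k + 1)) b)) =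
    Matrix.single 0 0 (a * J.σ b) := by
  rw [col_single, col_single, rowM_mul, Fin.sum_univ_one]

theorem π_zw {d : F} (hd : J.σ d = -d) :
    π (Q.zw D.A D.x d) = uM (rel0 (m := k + 1) (v := fun _ : Fin 1 => (0 : F)) (c := d) (by simp [hd])) := by
  rw [Pm.zw, xa_eq, ← X_e0, D.π_comm]
  refine uM_congr _ _ ?_ (by ext i j; simp [rowM])
  rw [col_single_mul, st_single, map_one, mul_one, map_mul, hd]
  ext i j
  simp only [Matrix.sub_apply, Matrix.single_apply]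
  split_ifs
  · linear_combination -d * Q.hκ
  · ring

theorem π_uw {c v : F} (h : c + J.σ c + ∑ _e : Fin 1, v * J.σ v = 0) :
    π (Q.uw D.A D.x c v) = uM (rel0 (m := k + 1) (v := fun _ : Fin 1 => v) (c := c) h) := by
  have h' : c + J.σ c + v * J.σ v = 0 := by simpa using h
  rw [Pm.uw, map_mul, xa_eq, D.π_X, D.π_zw (by
    rw [map_sub, map_mul, map_mul, J.inv2]
    linear_combination h' - (v * J.σ v) * Q.hκ), uM_mul]
  refine uM_congr _ _ ?_ (by rw [col_single]; ext i j; simp [rowM])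
  rw [col_single_mul, Matrix.smul_single, col_single, rowM_mul, Fin.sum_univ_one, map_zero, mul_zero, Matrix.single_zero,
    sub_zero, ← Matrix.single_add, smul_eq_mul, add_sub_cancel]

/-- The torus element. -/
noncomputable abbrev h : G := Q.hw D.A D.x D.t

theorem c0_ne : Q.c0 ≠ 0 := div_ne_zero J.η_ne (by simpa using Q.ζ_ne)

theorem sc0 : J.σ Q.c0 = -J.η / Q.ζ := by rw [Pm.c0, map_div₀, J.η_skew, J.inv2]

theorem exists_πh : ∃ (C : GL (Fin (k + 1)) F) (μ : F) (hC : LevOK J 1 C μ), C.1 = d0 Q.ζ ∧ π D.h = lM hC := by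
  have hc : Q.c0 ≠ 0 := c0_ne
  have hsc : J.σ Q.c0 ≠ 0 := by simpa using hc
  have hne := J.η_ne
  have hζ := Q.ζ_ne
  have h1 : Q.c0 + J.σ Q.c0 + Q.v0 * J.σ Q.v0 = 0 := by
    have e2 : J.σ Q.c0 = J.σ Q.κ * (Q.v0 * J.σ Q.v0) := by
      rw [Pm.c0, ← Q.hc0, map_mul, map_mul, J.inv2]; ring
    rw [e2, Pm.c0, ← Q.hc0]
    linear_combination (Q.v0 * J.σ Q.v0) * Q.hκ
  have hlam : -J.η / J.σ Q.c0 = Q.ζ := by rw [sc0]; field_simp
  have hL : LevOK J 1 (g0 (m := k + 1) (-J.η / J.σ Q.c0)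
      (div_ne_zero (neg_ne_zero.2 J.η_ne) (by simpa using hc))) (-J.σ Q.c0 / Q.c0) := by
    refine ⟨?_, ?_⟩
    · rw [map_div₀, map_neg, J.inv2]; field_simp
    · rw [g0_coe, g0_inv_coe, d0_det, d0_det, pow_one, map_inv₀, map_div₀, map_neg, J.η_skew, J.inv2]
      field_simp
  have hab : ∀ d : F, d * J.σ d = Q.c0 * J.σ Q.c0 →
      -J.η ^ 2 / Q.c0 + J.σ (-J.η ^ 2 / Q.c0) + ∑ _e : Fin 1, J.η * Q.v0 / d * J.σ (J.η * Q.v0 / d) = 0 := by
    intro d hd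
    have hd0 : d ≠ 0 := fun e => by rw [e, zero_mul] at hd; exact mul_ne_zero hc hsc hd.symm
    have hd1 : J.σ d ≠ 0 := by simpa using hd0
    rw [Fin.sum_univ_one, map_div₀, map_div₀, map_mul, map_neg, map_pow, J.η_skew]
    field_simp
    linear_combination (J.η ^ 2 * Q.v0 * J.σ Q.v0) * hd - (J.η ^ 2 * d * J.σ d) * h1
  have ha := hab (J.σ Q.c0) (by rw [J.inv2, mul_comm])
  have hb := hab Q.c0 rfl
  have hx : π (Pm.xa D.A D.x Q.v0) = uM (rel0 (m := k + 1) (v := fun _ : Fin 1 => Q.v0) (c := Q.c0) (by simpa using h1)) := by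
    rw [xa_eq, D.π_X]
    refine uM_congr _ _ ?_ (col_single _)
    rw [col_single_mul, Matrix.smul_single, smul_eq_mul, Q.hc0, Pm.c0]
  refine ⟨_, _, hL, by rw [g0_coe, hlam], ?_⟩
  have e := cell_eq (J := J) (m := k + 1) (v := fun _ : Fin 1 => Q.v0) hc (by simpa using h1) (fun _ => rfl) hL le_rfl ha hb
  rw [h, Pm.hw, map_mul, map_mul, map_mul, map_mul, map_mul, map_inv, map_inv, map_inv, D.πt, hx, e, D.π_uw ha,
    D.π_uw hb]
  group

theorem h_comm_ext0 (S : SpecialLinearGroup (Fin k) F) : Commute (D.A (ext0 S)) D.h := by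
  have hX : ∀ c, Commute (D.A (ext0 S)) (D.X (Pi.single 0 c)) := fun c => by
    have := D.X_conj (ext0 S) (Pi.single 0 c)
    rw [ext0_e] at this
    exact mul_inv_eq_iff_eq_mul.1 this
  have hu : ∀ c v, Commute (D.A (ext0 S)) (Q.uw D.A D.x c v) := fun c v => by
    rw [Pm.uw, Pm.zw, xa_eq, xa_eq, ← X_e0, commutatorElement_def]
    exact (hX _).mul_right ((((hX _).mul_right (hX _)).mul_right (hX _).inv_right).mul_right (hX _).inv_right)
  rw [h, Pm.hw, xa_eq]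
  exact (((hu _ _).inv_right.mul_right (((D.tS S).mul_right (hX _)).mul_right (D.tS S).inv_right)).mul_right
    (hu _ _).inv_right).mul_right (D.tS S).inv_right

variable [Finite F]

/-- The torus element normalises the special linear group. -/
theorem h_mem_NA : D.h ∈ Subgroup.normalizer (D.A.range : Set G) := by
  rcases D.kind with hk | E
  · exact mem_normalizer_range D.A hk Q.ζ_ne D.h_comm_ext0 D.hσ
  · exact E.hNA

/-- Conjugation by the torus element on the special linear group. -/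
theorem h_A_h (C : SpecialLinearGroup (Fin (k + 1)) F) : ∃ C' : SpecialLinearGroup (Fin (k + 1)) F,
    D.A C' = D.h * D.A C * D.h⁻¹ ∧ C'.1 * d0 Q.ζ = d0 Q.ζ * C.1 := by
  obtain ⟨C', hC'⟩ := (Subgroup.mem_normalizer_iff.1 D.h_mem_NA _).1 ⟨C, rfl⟩
  refine ⟨C', hC', ?_⟩
  obtain ⟨L, μ, hL, eL, e⟩ := D.exists_πh
  have h := congrArg π hC'
  rw [map_mul, map_mul, map_inv, D.πA, D.πA, e, eq_mul_inv_iff_mul_eq] at h
  obtain ⟨h1, e1⟩ := lM_mul (levOK_sl (J := J) (ε := 1) C') hL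
  obtain ⟨h2, e2⟩ := lM_mul hL (levOK_sl (J := J) (ε := 1) C)
  have h3 : lM h1 = lM h2 := e1.symm.trans (h.trans e2)
  ext a b
  have h4 := congrFun (congrFun (congrArg mat h3) (Sum.inl (Sum.inl a))) (Sum.inl (Sum.inl b))
  rw [mat_lM, mat_lM, Units.val_mul, Units.val_mul, eL] at h4
  simpa [lMat] using h4

/-- Conjugation by the torus element on the root elements. -/
theorem h_X (E : OddTwo Q D.A D.x D.t) (v : Fin (k + 1) → F) :
    D.h * D.X v * D.h⁻¹ = D.X (Q.nu • (d0 Q.ζ *ᵥ v)) := by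
  rcases eq_or_ne v 0 with rfl | hv
  · rw [Matrix.mulVec_zero, smul_zero, X_zero, mul_one, mul_inv_cancel]
  obtain ⟨C, hC⟩ := exists_Cv hv
  obtain ⟨C', hC', he⟩ := D.h_A_h C
  rw [D.X_eq C hC, Pm.xs, show D.h * (D.A C * D.x * (D.A C)⁻¹) * D.h⁻¹ =
    D.h * D.A C * D.h⁻¹ * (D.h * D.x * D.h⁻¹) * (D.h * D.A C * D.h⁻¹)⁻¹ by group, ← hC', E.hx, xa_eq, X_conj]
  congr 1
  rw [← hC, show (Pi.single 0 (Q.nu * Q.ζ) : Fin (k + 1) → F) = Q.nu • (d0 Q.ζ *ᵥ Pi.single 0 1) by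
    rw [d0_single, if_pos rfl, mul_one, ← Pi.single_smul, smul_eq_mul],
    Matrix.mulVec_smul, Matrix.mulVec_mulVec, Matrix.mulVec_mulVec, he]

theorem h_pow_X (E : OddTwo Q D.A D.x D.t) (i : ℕ) (a : Fin (k + 1)) (c : F) :
    D.h ^ i * D.X (Pi.single a c) * (D.h ^ i)⁻¹ =
      D.X (Pi.single a ((Q.nu * if a = 0 then Q.ζ else 1) ^ i * c)) := by
  induction i with
  | zero => simp
  | succ i ih =>
    rw [show D.h ^ (i + 1) * D.X (Pi.single a c) * (D.h ^ (i + 1))⁻¹ =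
      D.h * (D.h ^ i * D.X (Pi.single a c) * (D.h ^ i)⁻¹) * D.h⁻¹ by rw [pow_succ']; group, ih, D.h_X E, d0_single,
      ← Pi.single_smul, smul_eq_mul, pow_succ']
    ring_nf

theorem t_X_pow (E : OddTwo Q D.A D.x D.t) (i : ℕ) : Commute D.t (D.X (Pi.single 1 (Q.ζ ^ i))) := by
  induction i with
  | zero => rw [pow_zero, X_w10]; exact D.tX1
  | succ i ih =>
    obtain ⟨e, he, hdl⟩ := E.tdl
    have hζi : (Q.ζ⁻¹ : F) ≠ 0 := inv_ne_zero Q.ζ_ne
    have hν : Q.nu ^ e = Q.nu := by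
      rw [Pm.nu, div_pow, ← map_pow, he, map_inv₀, J.inv2]
      have := Q.ζ_ne
      have : J.σ Q.ζ ≠ 0 := by simpa using Q.ζ_ne
      field_simp
    set y := D.X (Pi.single 1 (Q.ζ ^ i))
    set h₁ := D.A Pm.w01 * D.h * (D.A Pm.w01)⁻¹ with hh1
    set z := D.X (Pi.single 1 (Q.ζ ^ (i + 1))) with hz
    have hP : D.A (Pm.dl Q.ζ⁻¹) * y * (D.A (Pm.dl Q.ζ⁻¹))⁻¹ = z := by
      rw [D.X_conj, dl_single hζi, inv_inv, ← pow_succ', hz]
    have hw : D.A Pm.w01 * D.X (Pi.single 0 (-Q.ζ ^ i)) * (D.A Pm.w01)⁻¹ = y := by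
      rw [D.X_conj, w01_e0, neg_neg]
    have hh : h₁ * y * h₁⁻¹ = D.h ^ e * z * (D.h ^ e)⁻¹ := by
      rw [hh1, ← hw, show D.A Pm.w01 * D.h * (D.A Pm.w01)⁻¹ *
          (D.A Pm.w01 * D.X (Pi.single 0 (-Q.ζ ^ i)) * (D.A Pm.w01)⁻¹) * (D.A Pm.w01 * D.h * (D.A Pm.w01)⁻¹)⁻¹ =
        D.A Pm.w01 * (D.h * D.X (Pi.single 0 (-Q.ζ ^ i)) * D.h⁻¹) * (D.A Pm.w01)⁻¹ by group, D.h_X E, d0_single,
        if_pos rfl, ← Pi.single_smul, X_conj, w01_e0, hz, D.h_pow_X E, if_neg Pm.h01.symm, mul_one, hν, smul_eq_mul,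
        pow_succ']
      ring_nf
    refine mul_inv_eq_iff_eq_mul.1 ?_
    calc D.t * z * D.t⁻¹ = (D.t * D.A (Pm.dl Q.ζ⁻¹) * D.t⁻¹) * (D.t * y * D.t⁻¹) *
          (D.t * D.A (Pm.dl Q.ζ⁻¹) * D.t⁻¹)⁻¹ := by rw [← hP]; group
      _ = (D.h ^ e)⁻¹ * (h₁ * y * h₁⁻¹) * D.h ^ e := by
        rw [hdl, ih.eq, mul_inv_cancel_right]
        show (D.h ^ e)⁻¹ * h₁ * y * ((D.h ^ e)⁻¹ * h₁)⁻¹ = _
        group
      _ = z := by rw [hh]; group

/-- The reflection fixes the root elements away from the first index. -/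
theorem t_X {v : Fin (k + 1) → F} (hv : v 0 = 0) : Commute D.t (D.X v) := by
  rcases eq_or_ne v 0 with rfl | hne
  · rw [X_zero]; exact Commute.one_right _
  rcases D.kind with hk | E
  swap
  · rw [tail_two E.one hv]
    rcases eq_or_ne (v 1) 0 with h0 | h0
    · rw [h0, Pi.single_zero, X_zero]; exact Commute.one_right _
    obtain ⟨i, hi⟩ := Q.gen (v 1) h0
    rw [← hi]
    exact D.t_X_pow E i
  obtain ⟨S, hS⟩ := exists_move_tail hk (v := Pi.single 1 (1 : F)) (w := v) (by simp) hne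
    (Pi.single_eq_of_ne Pm.h01 _) hv
  have e : D.X v = D.A (ext0 S) * D.X (Pi.single 1 1) * (D.A (ext0 S))⁻¹ := by rw [D.X_conj, hS]
  rw [e, X_w10]
  exact ((D.tS S).symm.mul_right D.tX1).mul_right (D.tS S).symm.inv_right

theorem t_comm_X {v w : Fin (k + 1) → F} (hv : v 0 = 0) (hw : w 0 = 0) : Commute D.t ⁅D.X v, D.X w⁆ := by
  rw [commutatorElement_def]
  exact (((D.t_X hv).mul_right (D.t_X hw)).mul_right (D.t_X hv).inv_right).mul_right (D.t_X hw).inv_right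

/-- The conjugate torus element. -/
noncomputable abbrev h1 : G := D.A Pm.w01 * D.h * (D.A Pm.w01)⁻¹

theorem t_h1 : Commute D.t D.h1 := by
  let φ : G →* G := (MulAut.conj (D.A Pm.w01)).toMonoidHom
  have hX : ∀ c, Commute D.t (φ (D.X (Pi.single 0 c))) := fun c => by
    show Commute D.t (D.A Pm.w01 * D.X _ * (D.A Pm.w01)⁻¹)
    rw [X_conj, w01_e0]
    exact D.t_X (Pi.single_eq_of_ne Pm.h01 _)
  have hu : ∀ c v, Commute D.t (φ (Q.uw D.A D.x c v)) := fun c v => by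
    rw [Pm.uw, Pm.zw, xa_eq, xa_eq, ← X_e0, commutatorElement_def]
    simp only [map_mul, map_inv]
    exact (hX _).mul_right ((((hX _).mul_right (hX _)).mul_right (hX _).inv_right).mul_right (hX _).inv_right)
  have ht : Commute D.t (φ D.t) := D.tt1
  show Commute D.t (φ D.h)
  rw [h, Pm.hw, xa_eq]
  simp only [map_mul, map_inv]
  exact (((hu _ _).inv_right.mul_right ((ht.mul_right (hX _)).mul_right ht.inv_right)).mul_right
    (hu _ _).inv_right).mul_right ht.inv_right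


/-- The elements carried into the special linear group by the reflection. -/
def InW (y : G) : Prop := D.t * y * D.t⁻¹ ∈ D.A.range

theorem sq_NA : D.t * D.t ∈ Subgroup.normalizer (D.A.range : Set G) := by
  obtain ⟨N, hN⟩ := D.sq
  rw [hN]; exact pow_mem D.h_mem_NA N

theorem A_NA (C : SpecialLinearGroup (Fin (k + 1)) F) : D.A C ∈ Subgroup.normalizer (D.A.range : Set G) :=
  Subgroup.le_normalizer ⟨C, rfl⟩

theorem t_dl_NA {c : F} (hc : c ≠ 0) : D.t * D.A (Pm.dl c) * D.t⁻¹ ∈ Subgroup.normalizer (D.A.range : Set G) := by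
  obtain ⟨e, he⟩ := D.tht
  obtain ⟨i, hi⟩ := Q.gen c⁻¹ (inv_ne_zero hc)
  have e1 : D.A (Pm.dl Q.ζ⁻¹) = D.h⁻¹ * D.h1 := eq_inv_mul_iff_mul_eq.2 D.hσ.symm
  have hbase : D.t * D.A (Pm.dl Q.ζ⁻¹) * D.t⁻¹ ∈ Subgroup.normalizer (D.A.range : Set G) := by
    rw [e1, show D.t * (D.h⁻¹ * D.h1) * D.t⁻¹ = (D.t * D.h * D.t⁻¹)⁻¹ * (D.t * D.h1 * D.t⁻¹) by group, he,
      D.t_h1.eq, mul_inv_cancel_right]
    exact mul_mem (inv_mem (pow_mem D.h_mem_NA e)) (mul_mem (mul_mem (D.A_NA _) D.h_mem_NA) (inv_mem (D.A_NA _)))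
  have hdl : Pm.dl (k := k) c = Pm.dl Q.ζ⁻¹ ^ i := by
    refine Subtype.ext ?_
    rw [Matrix.SpecialLinearGroup.coe_pow, Pm.dl_coe hc, Pm.dl_coe (inv_ne_zero Q.ζ_ne), Matrix.diagonal_pow]
    congr 1
    funext a
    rw [Pi.pow_apply]
    split_ifs <;> simp [inv_pow, hi]
  rw [hdl, map_pow, ← conj_pow]
  exact pow_mem hbase i

theorem InW.conj_ext0 {y : G} (hy : D.InW y) (S : SpecialLinearGroup (Fin k) F) :
    D.InW (D.A (ext0 S) * y * (D.A (ext0 S))⁻¹) := by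
  have h1 := (Subgroup.mem_normalizer_iff.1 (D.A_NA (ext0 S)) _).1 hy
  have : D.t * (D.A (ext0 S) * y * (D.A (ext0 S))⁻¹) * D.t⁻¹ =
      D.A (ext0 S) * (D.t * y * D.t⁻¹) * (D.A (ext0 S))⁻¹ := by
    calc D.t * (D.A (ext0 S) * y * (D.A (ext0 S))⁻¹) * D.t⁻¹
        = D.t * D.A (ext0 S) * y * (D.t * D.A (ext0 S))⁻¹ := by group
      _ = _ := by rw [← (D.tS S).eq]; group
  show D.t * _ * D.t⁻¹ ∈ D.A.range
  rw [this]; exact h1

theorem InW.conj_dl {y : G} (hy : D.InW y) {c : F} (hc : c ≠ 0) :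
    D.InW (D.A (Pm.dl c) * y * (D.A (Pm.dl c))⁻¹) := by
  have h1 := (Subgroup.mem_normalizer_iff.1 (D.t_dl_NA hc) _).1 hy
  show D.t * _ * D.t⁻¹ ∈ D.A.range
  convert h1 using 1
  group

theorem InW.eq {y y' : G} (hy : D.InW y) (hy' : D.InW y') (h : π y = π y') : y = y' := by
  obtain ⟨C, hC⟩ := hy
  obtain ⟨C', hC'⟩ := hy'
  obtain rfl : C = C' := D.A_inj (by rw [hC, hC', map_mul, map_mul, map_mul, map_mul, h])
  exact mul_left_cancel (mul_right_cancel (hC.symm.trans hC'))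

theorem InW.conj_h {y : G} (hy : D.InW y) : D.InW (D.h * y * D.h⁻¹) := by
  obtain ⟨e, he⟩ := D.tht
  have h1 := (Subgroup.mem_normalizer_iff.1 (pow_mem D.h_mem_NA e) _).1 hy
  show D.t * _ * D.t⁻¹ ∈ D.A.range
  convert h1 using 1
  rw [← he]; group

theorem InW.conj_h_pow {y : G} (hy : D.InW y) (i : ℕ) : D.InW (D.h ^ i * y * (D.h ^ i)⁻¹) := by
  induction i with
  | zero => simpa using hy
  | succ i ih =>
    have := InW.conj_h D ih
    convert this using 1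
    rw [pow_succ']; group

theorem inW_two (E : OddTwo Q D.A D.x D.t) {α β : F} (hα : α ≠ 0) (hβ : β ≠ 0) :
    D.InW ⁅D.X (Pi.single 0 α), D.X (Pi.single 1 β)⁆ := by
  obtain ⟨i, j, hj, hij⟩ := exp_five Q (mul_ne_zero hα hβ)
  have hne : Q.ζ ^ j ≠ 0 := pow_ne_zero j Q.ζ_ne
  have h0 : D.InW ⁅D.X (Pi.single 0 1), D.X (Pi.single 1 (Q.ζ ^ j))⁆ := by
    rw [X_e0, D.X_eq _ (w10_dl_mulVec hne)]; exact E.hW5 j hj
  have hd : (Q.nu * Q.ζ) ^ i ≠ 0 :=
    pow_ne_zero _ (mul_ne_zero (div_ne_zero Q.ζ_ne (by simpa using Q.ζ_ne)) Q.ζ_ne)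
  set c := α / (Q.nu * Q.ζ) ^ i with hc
  have hc0 : c ≠ 0 := div_ne_zero hα hd
  have h1 := InW.conj_dl D h0 hc0
  rw [D.comm_conj, dl_single0 hc0, dl_single hc0, mul_one] at h1
  have h2 := InW.conj_h_pow D h1 i
  rw [show ∀ g a b : G, g * ⁅a, b⁆ * g⁻¹ = ⁅g * a * g⁻¹, g * b * g⁻¹⁆ from fun g a b => by
      rw [commutatorElement_def, commutatorElement_def]; group,
    D.h_pow_X E, D.h_pow_X E, if_pos rfl, if_neg Pm.h01.symm, mul_one] at h2
  have eA : (Q.nu * Q.ζ) ^ i * c = α := by rw [hc, mul_div_cancel₀ α hd]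
  have eB : Q.nu ^ i * (c⁻¹ * Q.ζ ^ j) = β := by
    rw [Pm.scale, mul_assoc Q.nu, mul_pow] at hij
    rw [hc, inv_div, div_mul_eq_mul_div, mul_div_assoc', div_eq_iff hα]
    linear_combination hij
  rwa [eA, eB] at h2

theorem inW_W (α β : F) : D.InW ⁅D.X (Pi.single 0 α), D.X (Pi.single 1 β)⁆ := by
  have htriv : D.InW 1 := by show D.t * 1 * D.t⁻¹ ∈ D.A.range; rw [mul_one, mul_inv_cancel]; exact one_mem _
  rcases eq_or_ne α 0 with rfl | hα
  · rw [Pi.single_zero, X_zero, commutatorElement_one_left]; exact htriv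
  rcases eq_or_ne β 0 with rfl | hβ
  · rw [Pi.single_zero, X_zero, commutatorElement_one_right]; exact htriv
  have h0 : D.InW ⁅D.X (Pi.single 0 1), D.X (Pi.single 1 1)⁆ := by
    rw [X_e0, X_w10]
    show D.t * _ * D.t⁻¹ ∈ D.A.range
    rw [← D.hW, mul_inv_cancel_right]
    exact ⟨_, rfl⟩
  rcases D.kind with hk | E
  swap
  · exact D.inW_two E hα hβ
  haveI : NeZero (k - 1) := ⟨by omega⟩
  obtain ⟨S, hS⟩ := exists_move_tail hk (v := Pi.single 1 (1 : F)) (w := Pi.single 1 (α * β)) (by simp)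
    (by simpa using mul_ne_zero hα hβ) (Pi.single_eq_of_ne Pm.h01 _) (Pi.single_eq_of_ne Pm.h01 _)
  have h1 := InW.conj_dl D (InW.conj_ext0 D h0 S) hα
  rw [D.comm_conj, hS, ext0_e, D.comm_conj, Pm.dl_mulVec hα] at h1
  convert h1 using 4
  funext a
  rw [Pm.dl_coe hα, Matrix.mulVec_diagonal]
  rcases eq_or_ne a 1 with rfl | ha
  · simp [Pm.h01.symm, hα]
  · simp [ha]

theorem inW_tail (α : F) {v : Fin (k + 1) → F} (hv : v 0 = 0) : D.InW ⁅D.X (Pi.single 0 α), D.X v⁆ := by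
  rcases eq_or_ne v 0 with rfl | hne
  · rw [X_zero, commutatorElement_one_right]
    show D.t * 1 * D.t⁻¹ ∈ D.A.range
    rw [mul_one, mul_inv_cancel]; exact one_mem _
  rcases D.kind with hk | E
  swap
  · rw [tail_two E.one hv]; exact D.inW_W _ _
  obtain ⟨S, hS⟩ := exists_move_tail hk (v := Pi.single 1 (1 : F)) (w := v) (by simp) hne
    (Pi.single_eq_of_ne Pm.h01 _) hv
  have h1 := InW.conj_ext0 D (D.inW_W α 1) S
  rwa [D.comm_conj, hS, ext0_e] at h1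

theorem t_W_t (α β : F) : D.t * ⁅D.X (Pi.single 0 α), D.X (Pi.single 1 β)⁆ * D.t⁻¹ =
    D.A (tv (Pm.h01 (k := k)).symm (β * J.σ α * J.η⁻¹)) := by
  obtain ⟨C, hC⟩ := D.inW_W α β
  obtain ⟨hu, e⟩ := tv_tM (J := J) (ε := 1) (Pm.h01 (k := k)).symm (β * J.σ α * J.η⁻¹)
  have hπ : π ⁅D.X (Pi.single 0 α), D.X (Pi.single 1 β)⁆ = uM hu := by
    rw [D.π_comm]
    refine uM_congr _ _ ?_ rfl
    have hcol : col (Pi.single (0 : Fin (k + 1)) α) * st J.σ (col (Pi.single (1 : Fin (k + 1)) β)) = Matrix.single 0 1 (α * J.σ β) := by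
      ext i j
      rw [col_mul, Matrix.of_apply, Matrix.single_apply]
      by_cases hi : i = 0 <;> by_cases hj : j = 1 <;> simp [hi, hj, Ne.symm]
    have hne := J.η_ne
    rw [hcol, st_single, map_mul, J.inv2, map_mul, map_mul, map_inv₀, J.η_skew, J.inv2]
    ext i j
    simp only [Matrix.sub_apply, Matrix.add_apply, Matrix.single_apply]
    split_ifs <;> field_simp <;> ring
  rw [← hC, D.A_inj (C := C) (C' := tv (Pm.h01 (k := k)).symm (β * J.σ α * J.η⁻¹)) ?_]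
  rw [hC, map_mul, map_mul, map_inv, hπ, D.πt, D.πA, ← e, mul_inv_cancel_right]

theorem W_comm {α β : F} {u : Fin (k + 1) → F} (hu : u 0 = 0) :
    Commute ⁅D.X (Pi.single 0 α), D.X (Pi.single 1 β)⁆ (D.X u) := by
  have h1 : Commute (D.A (tv (Pm.h01 (k := k)).symm (β * J.σ α * J.η⁻¹))) (D.X u) := by
    have := D.X_conj (tv (Pm.h01 (k := k)).symm (β * J.σ α * J.η⁻¹)) u
    rw [show (tv (Pm.h01 (k := k)).symm (β * J.σ α * J.η⁻¹)).1 *ᵥ u = u from funext fun a => by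
      rw [tv_mul_apply, hu]; simp] at this
    exact mul_inv_eq_iff_eq_mul.1 this
  rw [← D.t_W_t] at h1
  have h2 := h1.map (MulAut.conj D.t⁻¹).toMonoidHom
  simp only [MulEquiv.coe_toMonoidHom, MulAut.conj_apply, inv_inv] at h2
  convert h2 using 1
  · group
  · rw [(D.t_X hu).inv_left.eq, inv_mul_cancel_right]

include D in
/-- Independent pairs come from a pair on the first two indices. -/
theorem exists_pair {v w : Fin (k + 1) → F} (h : Ind v w) :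
    ∃ (C : SpecialLinearGroup (Fin (k + 1)) F) (b : F), b ≠ 0 ∧ (2 ≤ k → b = 1) ∧
      C.1 *ᵥ Pi.single 0 1 = v ∧ C.1 *ᵥ Pi.single 1 b = w := by
  rcases D.kind with hk | E
  · obtain ⟨C, h0, h1⟩ := exists_move_pair hk h
    exact ⟨C, 1, one_ne_zero, fun _ => rfl, h0, h1⟩
  obtain ⟨C, hC⟩ := exists_Cv h.ne_left
  set w' := (C⁻¹).1 *ᵥ w with hw'
  have hCw : C.1 *ᵥ w' = w := by
    rw [hw', Matrix.mulVec_mulVec, ← Matrix.SpecialLinearGroup.coe_mul, mul_inv_cancel,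
      Matrix.SpecialLinearGroup.coe_one, Matrix.one_mulVec]
  have hb : w' 1 ≠ 0 := by
    intro e
    have e2 : w = w' 0 • v := by
      rw [← hCw, ← hC, ← Matrix.mulVec_smul]
      congr 1
      funext a
      rcases eq_or_ne a 0 with rfl | ha
      · simp
      · rw [eq_one_of_two E.one ha, e]; simp [Pm.h01.symm]
    exact one_ne_zero (neg_eq_zero.1 (h (w' 0) (-1) (by rw [e2]; simp)).2)
  refine ⟨C * tv (Pm.h01 (k := k)) (w' 0 / w' 1), w' 1, hb, fun h2 => absurd E.one (by omega), ?_, ?_⟩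
  · rw [Matrix.SpecialLinearGroup.coe_mul, ← Matrix.mulVec_mulVec, show (tv (Pm.h01 (k := k)) (w' 0 / w' 1)).1 *ᵥ
      Pi.single 0 1 = Pi.single 0 1 from funext fun a => by
        rw [tv_mul_apply, Pi.single_eq_of_ne Pm.h01.symm]; simp, hC]
  · rw [Matrix.SpecialLinearGroup.coe_mul, ← Matrix.mulVec_mulVec, show (tv (Pm.h01 (k := k)) (w' 0 / w' 1)).1 *ᵥ
      Pi.single 1 (w' 1) = w' from funext fun a => by
        rw [tv_mul_apply]
        rcases eq_or_ne a 0 with rfl | ha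
        · simp [Pm.h01, hb]
        · rw [eq_one_of_two E.one ha]; simp [Pm.h01.symm], hCw]

/-- The addition rule transported. -/
theorem add_move {v w : Fin (k + 1) → F} (C : SpecialLinearGroup (Fin (k + 1)) F)
    (e : D.X v * D.X w = D.X (v + w) * ⁅D.X ((-J.σ Q.κ) • v), D.X w⁆) :
    D.X (C.1 *ᵥ v) * D.X (C.1 *ᵥ w) =
      D.X (C.1 *ᵥ v + C.1 *ᵥ w) * ⁅D.X ((-J.σ Q.κ) • (C.1 *ᵥ v)), D.X (C.1 *ᵥ w)⁆ := by
  have e' := congrArg (fun g => D.A C * g * (D.A C)⁻¹) e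
  have hm : ∀ a b : G, D.A C * (a * b) * (D.A C)⁻¹ = D.A C * a * (D.A C)⁻¹ * (D.A C * b * (D.A C)⁻¹) := by
    intro a b; group
  rwa [hm, hm, D.X_conj, D.X_conj, D.X_conj, D.comm_conj, Matrix.mulVec_add, Matrix.mulVec_smul] at e'

theorem add_two (E : OddTwo Q D.A D.x D.t) {b : F} (hb : b ≠ 0) :
    D.X (Pi.single 0 1) * D.X (Pi.single 1 b) =
      D.X (Pi.single 0 1 + Pi.single 1 b) * ⁅D.X ((-J.σ Q.κ) • Pi.single 0 1), D.X (Pi.single 1 b)⁆ := by
  obtain ⟨i, j, hj, hij⟩ := exp_five Q hb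
  have hne : Q.ζ ^ j ≠ 0 := pow_ne_zero j Q.ζ_ne
  have hd : (Q.nu * Q.ζ) ^ i ≠ 0 :=
    pow_ne_zero _ (mul_ne_zero (div_ne_zero Q.ζ_ne (by simpa using Q.ζ_ne)) Q.ζ_ne)
  have h0 : D.X (Pi.single 0 1) * D.X (Pi.single 1 (Q.ζ ^ j)) =
      D.X (Pi.single 0 1 + Pi.single 1 (Q.ζ ^ j)) *
        ⁅D.X ((-J.σ Q.κ) • Pi.single 0 1), D.X (Pi.single 1 (Q.ζ ^ j))⁆ := by
    have hv : (tv (Pm.h01 (k := k)).symm (Q.ζ ^ j)).1 *ᵥ Pi.single 0 1 =
        (Pi.single 0 1 + Pi.single 1 (Q.ζ ^ j) : Fin (k + 1) → F) := funext fun b => by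
      rw [tv_mul_apply, Pi.add_apply]
      rcases eq_or_ne b 1 with rfl | hb
      · simp [Pm.h01, Pm.h01.symm]
      · simp [hb]
    rw [X_e0, D.X_eq _ (w10_dl_mulVec hne), D.X_eq _ hv, ← Pi.single_smul, smul_eq_mul, mul_one, ← xa_eq]
    exact E.hadd5 j hj
  have hh : ∀ n : ℕ,
      D.X (Pi.single 0 ((Q.nu * Q.ζ) ^ n)) * D.X (Pi.single 1 (Q.nu ^ n * Q.ζ ^ j)) =
        D.X (Pi.single 0 ((Q.nu * Q.ζ) ^ n) + Pi.single 1 (Q.nu ^ n * Q.ζ ^ j)) *
          ⁅D.X ((-J.σ Q.κ) • Pi.single 0 ((Q.nu * Q.ζ) ^ n)), D.X (Pi.single 1 (Q.nu ^ n * Q.ζ ^ j))⁆ := by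
    intro n
    induction n with
    | zero => simpa using h0
    | succ n ih =>
      have e' := congrArg (fun g => D.h * g * D.h⁻¹) ih
      have hm : ∀ a b : G, D.h * (a * b) * D.h⁻¹ = D.h * a * D.h⁻¹ * (D.h * b * D.h⁻¹) := by
        intro a b; group
      have hc : ∀ a b : G, D.h * ⁅a, b⁆ * D.h⁻¹ = ⁅D.h * a * D.h⁻¹, D.h * b * D.h⁻¹⁆ := fun a b => by
        rw [commutatorElement_def, commutatorElement_def]; group
      rw [hm, hm, hc, D.h_X E, D.h_X E, D.h_X E, D.h_X E, Matrix.mulVec_add, Matrix.mulVec_smul, smul_add,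
        smul_comm Q.nu (-J.σ Q.κ), d0_single, d0_single, if_pos rfl, if_neg Pm.h01.symm, ← Pi.single_smul,
        ← Pi.single_smul, smul_eq_mul, smul_eq_mul, one_mul, ← mul_assoc, ← mul_assoc, ← pow_succ', ← pow_succ'] at e'
      exact e'
  have e := D.add_move (Pm.dl ((Q.nu * Q.ζ) ^ i)⁻¹) (hh i)
  rw [dl_single0 (inv_ne_zero hd), dl_single (inv_ne_zero hd), inv_mul_cancel₀ hd, inv_inv] at e
  rwa [show (Q.nu * Q.ζ) ^ i * (Q.nu ^ i * Q.ζ ^ j) = b by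
    rw [← hij, Pm.scale, mul_pow, mul_pow, mul_pow]; ring] at e

/-- The addition rule of independent vectors. -/
theorem add_ind {v w : Fin (k + 1) → F} (h : Ind v w) :
    D.X v * D.X w = D.X (v + w) * ⁅D.X ((-J.σ Q.κ) • v), D.X w⁆ := by
  obtain ⟨C, b, hb, hb1, h0, h1⟩ := D.exists_pair h
  have e : D.X (Pi.single 0 1) * D.X (Pi.single 1 b) =
      D.X (Pi.single 0 1 + Pi.single 1 b) * ⁅D.X ((-J.σ Q.κ) • Pi.single 0 1), D.X (Pi.single 1 b)⁆ := by
    rcases D.kind with hk | E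
    · obtain rfl := hb1 hk
      have hv : (tv (Pm.h01 (k := k)).symm (1 : F)).1 *ᵥ Pi.single 0 1 =
          (Pi.single 0 1 + Pi.single 1 1 : Fin (k + 1) → F) := funext fun a => by
        rw [tv_mul_apply, Pi.add_apply]
        rcases eq_or_ne a 1 with rfl | ha <;> simp [*, Pm.h01, Pm.h01.symm]
      rw [X_e0, X_w10, ← Pi.single_smul, smul_eq_mul, mul_one, ← xa_eq, D.X_eq _ hv]
      exact D.hadd
    · exact D.add_two E hb
  have e' := D.add_move C e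
  rwa [h0, h1] at e'

/-- The radical data. -/
noncomputable def rad : RadOne J (k + 1) π where
  κ := Q.κ
  hκ := Q.hκ
  hm := D.hm2
  X := D.X
  πX := D.π_X
  X0 := D.X_zero
  add _ _ hvw := D.add_ind hvw
  cen v w u hvw := by
    obtain ⟨C, b, -, -, h0, h1⟩ := D.exists_pair hvw
    have key : ∀ (α β : F) (u : Fin (k + 1) → F),
        Commute ⁅D.X (Pi.single 0 α), D.X (Pi.single 1 β)⁆ (D.X u) := by
      intro α β u
      have hA : ∀ u : Fin (k + 1) → F, u 1 = 0 → Commute ⁅D.X (Pi.single 0 α), D.X (Pi.single 1 β)⁆ (D.X u) := by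
        intro u hu
        obtain ⟨u', rfl⟩ : ∃ u', (Pm.w01 (F := F) (k := k)).1 *ᵥ u' = u := ⟨((Pm.w01 (F := F) (k := k))⁻¹).1 *ᵥ u, by
          rw [Matrix.mulVec_mulVec, ← Matrix.SpecialLinearGroup.coe_mul, mul_inv_cancel]; simp⟩
        have hu' : u' 0 = 0 := by
          rw [Matrix.mulVec, dotProduct, Finset.sum_eq_single 0 ?_ (by simp), Pm.w01, wj_coe] at hu
          · simpa [Matrix.single_apply, Pm.h01, Pm.h01.symm] using hu
          · intro b _ hb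
            rw [Pm.w01, wj_coe]
            rcases eq_or_ne b 1 with rfl | hb1
            · simp [Pm.h01, Pm.h01.symm]
            · simp [Matrix.single_apply, Matrix.one_apply, hb, hb1, Ne.symm hb, Ne.symm hb1, Pm.h01]
        have h' := ((D.W_comm (α := -β) (β := α) hu').inv_left).map (MulAut.conj (D.A Pm.w01)).toMonoidHom
        simp only [MulEquiv.coe_toMonoidHom, MulAut.conj_apply, commutatorElement_inv] at h'
        rw [D.comm_conj, D.X_conj, w01_e1, w01_e0] at h'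
        simp only [neg_neg] at h'
        convert h' using 2
      rcases eq_or_ne (u 0) 0 with h | h
      · exact D.W_comm h
      set u' := Function.update u 0 0 with hu'
      have hu0 : u' 0 = 0 := by simp [hu']
      have e : u = Pi.single 0 (u 0) + u' := funext fun a => by
        rcases eq_or_ne a 0 with rfl | ha <;> simp [hu', *]
      rcases eq_or_ne u' 0 with hz | hz
      · rw [e, hz, add_zero]; exact hA _ (by simp [Pm.h01.symm])
      have hind : Ind (Pi.single 0 (u 0)) u' := fun a b hab => by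
        have h1 := congrFun hab 0
        simp [hu0, h] at h1
        subst h1
        simp at hab
        exact ⟨rfl, hab.resolve_right hz⟩
      have hrel : D.X (Pi.single 0 (u 0)) * D.X u' =
          D.X u * ⁅D.X ((-J.σ Q.κ) • Pi.single 0 (u 0)), D.X u'⁆ := by
        have e' := D.add_ind hind
        rwa [← e] at e'
      rw [show D.X u = D.X (Pi.single 0 (u 0)) * D.X u' * ⁅D.X ((-J.σ Q.κ) • Pi.single 0 (u 0)), D.X u'⁆⁻¹ by
        rw [hrel, mul_inv_cancel_right], ← Pi.single_smul]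
      have ha : ∀ c, Commute ⁅D.X (Pi.single 0 α), D.X (Pi.single 1 β)⁆ (D.X (Pi.single 0 c)) :=
        fun c => hA _ (by simp [Pm.h01.symm])
      have hb := D.W_comm (α := α) (β := β) hu0
      refine ((ha _).mul_right hb).mul_right (Commute.inv_right ?_)
      rw [commutatorElement_def]
      exact (((ha _).mul_right hb).mul_right (ha _).inv_right).mul_right hb.inv_right
    have h2 := (key 1 b ((C⁻¹).1 *ᵥ u)).map (MulAut.conj (D.A C)).toMonoidHom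
    simp only [MulEquiv.coe_toMonoidHom, MulAut.conj_apply] at h2
    rwa [D.comm_conj, D.X_conj, h0, h1, Matrix.mulVec_mulVec, ← Matrix.SpecialLinearGroup.coe_mul, mul_inv_cancel,
      Matrix.SpecialLinearGroup.coe_one, Matrix.one_mulVec] at h2
  semi v w c hvw hc := by
    obtain ⟨C, b, -, -, h0, h1⟩ := D.exists_pair hvw
    have e : ⁅D.X (Pi.single 0 c), D.X (Pi.single 1 b)⁆ = ⁅D.X (Pi.single 0 1), D.X (Pi.single 1 (J.σ c * b))⁆ := by
      refine InW.eq D (D.inW_W c b) (D.inW_W 1 (J.σ c * b)) ?_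
      rw [D.π_comm, D.π_comm]
      refine uM_congr _ _ ?_ rfl
      have : col (Pi.single (0 : Fin (k + 1)) c) * st J.σ (col (Pi.single (1 : Fin (k + 1)) b)) =
          col (Pi.single (0 : Fin (k + 1)) (1 : F)) * st J.σ (col (Pi.single (1 : Fin (k + 1)) (J.σ c * b))) := by
        ext i j
        rw [col_mul_st, col_mul_st]
        by_cases hi : i = 0 <;> by_cases hj : j = 1 <;> simp [hi, hj, J.inv2]
      rw [this]
    have e' := congrArg (fun g => D.A C * g * (D.A C)⁻¹) e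
    simp only [D.comm_conj] at e'
    rw [show (Pi.single 0 c : Fin (k + 1) → F) = c • Pi.single 0 1 by rw [← Pi.single_smul, smul_eq_mul, mul_one],
      show (Pi.single 1 (J.σ c * b) : Fin (k + 1) → F) = J.σ c • Pi.single 1 b by
        rw [← Pi.single_smul, smul_eq_mul], Matrix.mulVec_smul, Matrix.mulVec_smul, h0, h1] at e'
    exact e'

end Odd

end Cfsg.Lib.Linear.ShortPres.SUN
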