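import Cfsg.Agent.Lib.Linear.ShortPres.SUN.EvenWords
import Cfsg.Agent.Lib.Linear.ShortPres.SUN.OddA

/-!
# Even dimension: root elements of a covering given by few relations
-/

set_option autoImplicit false
set_option linter.unusedSectionVars false

namespace Cfsg.Lib.Linear.ShortPres.SUN

open Matrix Cfsg.Lib.Linear.SUDegree Cfsg.Lib.Linear.Herm
open scoped commutatorElement

variable {F : Type*} [Field F] {J : Conj F}

/-- The mixed word with a parameter. -/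
noncomputable def Pm.phc {k : ℕ} [NeZero k] {G : Type*} [Group G] (A : SpecialLinearGroup (Fin (k + 1)) F → G) (x : G)
    (c : F) : G :=
  x⁻¹ * (Pm.xs A x (Pm.w10 * Pm.dl c))⁻¹ * Pm.xs A x (tv (Pm.h01 (k := k)).symm c)

/-- The further relations for two indices. -/
structure EvTwo (Q : Pm J) {k : ℕ} [NeZero k] {G : Type*} [Group G] (A : SpecialLinearGroup (Fin (k + 1)) F →* G)
    (x t : G) : Prop where
  one : k = 1
  hNA : Q.he A x t ∈ Subgroup.normalizer (A.range : Set G)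
  hx : Q.he A x t * x * (Q.he A x t)⁻¹ = Pm.xa A x Q.n0
  hX : Commute (Q.he A x t) (Pm.xs A x Pm.w10)
  comm1 : Commute x (Pm.xs A x (Pm.w10 * Pm.dl Q.ζ))
  hW4 : ∀ j < 4, t * Pm.phc A x (Q.ζ ^ j) * t⁻¹ ∈ A.range

/-- A covering in even dimension with the relations. -/
structure Ev (J : Conj F) (k : ℕ) [NeZero k] {G : Type*} [Group G] (π : G →* Mg J (k + 1) 0) (Q : Pm J) where
  A : SpecialLinearGroup (Fin (k + 1)) F →* G
  πA : ∀ C, π (A C) = slM J (k + 1) 0 C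
  x : G
  πx : π x = xE J k
  t : G
  πt : π t = tM J 0 0
  gen : Subgroup.closure (Set.range A ∪ {x, t}) = ⊤
  kind : 2 ≤ k ∨ EvTwo Q A x t
  red : (commutator G = ⊤ ∧ ∀ g, π g = 1 → g ∈ Subgroup.center G → g = 1) ∨
    ∀ i : ℕ, Q.n0 ^ i = 1 → Q.he A x t ^ i = 1
  fix : ∀ C : SpecialLinearGroup (Fin (k + 1)) F, C.1 *ᵥ Pi.single 0 1 = Pi.single 0 1 → Commute (A C) x
  fix1 : Commute (A (Pm.dl Q.nu)) x
  comm01 : Commute x (Pm.xs A x Pm.w10)
  hW : A (tv (Pm.h01 (k := k)).symm 1) * t = t * Pm.ph A x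
  tS : ∀ S, Commute (A (ext0 S)) t
  sq : ∃ N : ℕ, t * t = Q.he A x t ^ N
  td : t * A (Pm.dl Q.ζ) * t⁻¹ = (Q.he A x t)⁻¹ * A (Pm.dl Q.ζ)
  hσ : A Pm.w01 * Q.he A x t * (A Pm.w01)⁻¹ = Q.he A x t * A (Pm.dl Q.n0⁻¹)
  tt1 : Commute t (A Pm.w01 * t * (A Pm.w01)⁻¹)
  tX1 : Commute t (Pm.xs A x Pm.w10)

namespace Ev

variable {k : ℕ} [NeZero k] {G : Type*} [Group G] {π : G →* Mg J (k + 1) 0} {Q : Pm J} (D : Ev J k π Q)

include D in
theorem hk : 1 ≤ k := Nat.one_le_iff_ne_zero.2 (NeZero.ne k)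

theorem A_inj {C C' : SpecialLinearGroup (Fin (k + 1)) F} (h : π (D.A C) = π (D.A C')) : C = C' :=
  slM_injective (by rw [← D.πA, ← D.πA, h])

/-- The orbit of the root element. -/
noncomputable def X (v : Fin (k + 1) → F) : G := open Classical in
  if h : v = 0 then 1 else Pm.xs D.A D.x (exists_Cv h).choose

theorem X_zero : D.X 0 = 1 := dif_pos rfl

theorem X_eq {v : Fin (k + 1) → F} (C : SpecialLinearGroup (Fin (k + 1)) F) (hC : C.1 *ᵥ Pi.single 0 1 = v) :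
    D.X v = Pm.xs D.A D.x C := by
  have hv : v ≠ 0 := fun e => by
    have h2 : (C⁻¹).1 *ᵥ (C.1 *ᵥ Pi.single 0 1) = 0 := by rw [hC, e, Matrix.mulVec_zero]
    rw [Matrix.mulVec_mulVec, ← Matrix.SpecialLinearGroup.coe_mul, inv_mul_cancel] at h2
    have := congrFun h2 0
    simp at this
  rw [X, dif_neg hv]
  set C₀ := (exists_Cv hv).choose with hC₀
  have h₀ : C₀.1 *ᵥ Pi.single 0 1 = v := (exists_Cv hv).choose_spec
  have hc := D.fix (C⁻¹ * C₀) (by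
    rw [Matrix.SpecialLinearGroup.coe_mul, ← Matrix.mulVec_mulVec, h₀, ← hC, Matrix.mulVec_mulVec,
      ← Matrix.SpecialLinearGroup.coe_mul, inv_mul_cancel, Matrix.SpecialLinearGroup.coe_one, Matrix.one_mulVec])
  rw [Pm.xs, Pm.xs, show C₀ = C * (C⁻¹ * C₀) by simp, map_mul]
  calc D.A C * D.A (C⁻¹ * C₀) * D.x * (D.A C * D.A (C⁻¹ * C₀))⁻¹
      = D.A C * (D.A (C⁻¹ * C₀) * D.x) * (D.A (C⁻¹ * C₀))⁻¹ * (D.A C)⁻¹ := by group
    _ = _ := by rw [hc.eq]; group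

theorem X_e0 : D.X (Pi.single 0 1) = D.x := by
  rw [D.X_eq 1 (by rw [Matrix.SpecialLinearGroup.coe_one, Matrix.one_mulVec]), Pm.xs, map_one]; simp

theorem X_w10 : D.X (Pi.single 1 1) = Pm.xs D.A D.x Pm.w10 := D.X_eq _ Pm.w10_mulVec

theorem xa_eq (c : F) : Pm.xa D.A D.x c = D.X (Pi.single 0 c) := by
  rw [Pm.xa]
  split_ifs with h
  · rw [h, Pi.single_zero, X_zero]
  · rw [D.X_eq (Pm.dl c) (Pm.dl_mulVec h)]

theorem X_conj (C : SpecialLinearGroup (Fin (k + 1)) F) (v : Fin (k + 1) → F) :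
    D.A C * D.X v * (D.A C)⁻¹ = D.X (C.1 *ᵥ v) := by
  rcases eq_or_ne v 0 with rfl | hv
  · rw [Matrix.mulVec_zero, X_zero]; group
  obtain ⟨C₀, h₀⟩ := exists_Cv hv
  rw [D.X_eq C₀ h₀, D.X_eq (C * C₀) (by
    rw [Matrix.SpecialLinearGroup.coe_mul, ← Matrix.mulVec_mulVec, h₀]), Pm.xs, Pm.xs, map_mul]
  group

theorem π_X (v : Fin (k + 1) → F) : π (D.X v) = uM (erel v) := by
  rcases eq_or_ne v 0 with rfl | hv
  · rw [X_zero, map_one, uM0_eq_one]
    rw [show col (0 : Fin (k + 1) → F) = 0 from rfl, Matrix.zero_mul, smul_zero]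
  obtain ⟨C₀, h₀⟩ := exists_Cv hv
  rw [D.X_eq C₀ h₀, Pm.xs, map_mul, map_mul, map_inv, D.πA, D.πx, xE, slM_uM_e]
  exact uM_congr _ _ (by rw [h₀]) rfl

/-- Scalars of norm one do not change the root element. -/
theorem X_norm {l : F} (hl : l * J.σ l = 1) (v : Fin (k + 1) → F) : D.X (l • v) = D.X v := by
  rcases eq_or_ne v 0 with rfl | hv
  · rw [smul_zero]
  obtain ⟨i, hi⟩ := Q.nu_gen hl
  have hl0 : l ≠ 0 := left_ne_zero_of_mul_eq_one hl
  have hnu : Q.nu ≠ 0 := div_ne_zero Q.ζ_ne (by simpa using Q.ζ_ne)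
  obtain ⟨C, hC⟩ := exists_Cv hv
  have hpow : (Pm.dl (k := k) Q.nu) ^ i = Pm.dl l := by
    refine Subtype.ext ?_
    rw [Matrix.SpecialLinearGroup.coe_pow, Pm.dl_coe hnu, Pm.dl_coe hl0, Matrix.diagonal_pow]
    congr 1
    funext a
    rw [Pi.pow_apply]
    split_ifs <;> simp [hi, inv_pow]
  have hc : Commute (D.A (Pm.dl l)) D.x := by rw [← hpow, map_pow]; exact D.fix1.pow_left i
  rw [D.X_eq (C * Pm.dl l) (by
    rw [Matrix.SpecialLinearGroup.coe_mul, ← Matrix.mulVec_mulVec, Pm.dl_mulVec hl0,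
      show Pi.single (0 : Fin (k + 1)) l = l • Pi.single (0 : Fin (k + 1)) (1 : F) by
        rw [← Pi.single_smul, smul_eq_mul, mul_one],
      Matrix.mulVec_smul, hC]), D.X_eq C hC, Pm.xs, Pm.xs, map_mul]
  calc D.A C * D.A (Pm.dl l) * D.x * (D.A C * D.A (Pm.dl l))⁻¹
      = D.A C * (D.A (Pm.dl l) * D.x) * (D.A (Pm.dl l))⁻¹ * (D.A C)⁻¹ := by group
    _ = _ := by rw [hc.eq]; group

/-- The mixed element of two vectors. -/
noncomputable def Φ (v w : Fin (k + 1) → F) : G := (D.X v)⁻¹ * (D.X w)⁻¹ * D.X (v + w)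

theorem Φ_conj (C : SpecialLinearGroup (Fin (k + 1)) F) (v w : Fin (k + 1) → F) :
    D.A C * D.Φ v w * (D.A C)⁻¹ = D.Φ (C.1 *ᵥ v) (C.1 *ᵥ w) := by
  rw [Φ, Φ, ← Matrix.mulVec_add, ← D.X_conj, ← D.X_conj, ← D.X_conj]; group

theorem Φ_zero_left (w : Fin (k + 1) → F) : D.Φ 0 w = 1 := by simp [Φ, X_zero]

theorem Φ_zero_right (v : Fin (k + 1) → F) : D.Φ v 0 = 1 := by simp [Φ, X_zero]

theorem π_Φ (v w : Fin (k + 1) → F) :
    π (D.Φ v w) = uM (srel (col v * st J.σ (col w))) := by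
  obtain ⟨h1, e1⟩ := uM_inv (erel (J := J) v)
  obtain ⟨h2, e2⟩ := uM_inv (erel (J := J) w)
  obtain ⟨h3, e3⟩ := uM_mul0 h1 h2
  obtain ⟨h4, e4⟩ := uM_mul0 h3 (erel (v + w))
  rw [Φ, map_mul, map_mul, map_inv, map_inv, D.π_X, D.π_X, D.π_X, e1, e2, e3, e4]
  refine uM_congr _ _ ?_ rfl
  ext i j
  simp [Cfsg.Lib.Linear.SUDegree.st, Matrix.mul_apply, map_mul, map_add, J.inv2, J.η_skew]
  ring

theorem ph_eq : Pm.ph D.A D.x = D.Φ (Pi.single 0 1) (Pi.single 1 1) := by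
  rw [Φ, Pm.ph, X_e0, X_w10, D.X_eq (v := Pi.single 0 1 + Pi.single 1 1) (tv (Pm.h01 (k := k)).symm 1) (funext fun a => by
    rw [tv_mul_apply, Pi.add_apply]
    rcases eq_or_ne a 1 with rfl | ha <;> simp [*, Pm.h01, Pm.h01.symm])]

/-- The torus element. -/
noncomputable abbrev h : G := Q.he D.A D.x D.t

theorem exists_πh : ∃ (C : GL (Fin (k + 1)) F) (μ : F) (hC : LevOK J 0 C μ), C.1 = d0 Q.n0 ∧ π D.h = lM hC := by
  have hxa : ∀ c, π (Pm.xa D.A D.x c) = Pm.xa (slM J (k + 1) 0) (xE J k) c := fun c => by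
    rw [Pm.xa, Pm.xa]
    split_ifs
    · exact map_one _
    · simp only [Pm.xs, map_mul, map_inv, D.πA, D.πx]
  rw [h, Pm.he]
  simp only [map_mul, map_inv, hxa, D.πt]
  exact mhe Q

theorem h_comm_ext0 (S : SpecialLinearGroup (Fin k) F) : Commute (D.A (ext0 S)) D.h := by
  have hX : ∀ c, Commute (D.A (ext0 S)) (Pm.xa D.A D.x c) := fun c => by
    have := D.X_conj (ext0 S) (Pi.single 0 c)
    rw [Odd.ext0_e] at this
    rw [xa_eq]
    exact mul_inv_eq_iff_eq_mul.1 this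
  rw [h, Pm.he]
  exact (((hX _).inv_right.mul_right (((D.tS S).mul_right (hX _)).mul_right (D.tS S).inv_right)).mul_right
    (hX _).inv_right).mul_right (D.tS S).inv_right

variable [Finite F]

theorem h_mem_NA : D.h ∈ Subgroup.normalizer (D.A.range : Set G) := by
  rcases D.kind with hk | E
  · exact mem_normalizer_range D.A hk Q.n0_ne D.h_comm_ext0 D.hσ
  · exact E.hNA

/-- Conjugation by the torus element on the special linear group. -/
theorem h_A_h (C : SpecialLinearGroup (Fin (k + 1)) F) : ∃ C' : SpecialLinearGroup (Fin (k + 1)) F,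
    D.A C' = D.h * D.A C * D.h⁻¹ ∧ C'.1 * d0 Q.n0 = d0 Q.n0 * C.1 := by
  obtain ⟨C', hC'⟩ := (Subgroup.mem_normalizer_iff.1 D.h_mem_NA _).1 ⟨C, rfl⟩
  refine ⟨C', hC', ?_⟩
  obtain ⟨L, μ, hL, eL, e⟩ := D.exists_πh
  have h := congrArg π hC'
  rw [map_mul, map_mul, map_inv, D.πA, D.πA, e, eq_mul_inv_iff_mul_eq] at h
  obtain ⟨h1, e1⟩ := lM_mul (levOK_sl (J := J) (ε := 0) C') hL
  obtain ⟨h2, e2⟩ := lM_mul hL (levOK_sl (J := J) (ε := 0) C)
  have h3 : lM h1 = lM h2 := e1.symm.trans (h.trans e2)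
  ext a b
  have h4 := congrFun (congrFun (congrArg mat h3) (Sum.inl (Sum.inl a))) (Sum.inl (Sum.inl b))
  rw [mat_lM, mat_lM, Units.val_mul, Units.val_mul, eL] at h4
  simpa [lMat] using h4

theorem h_comm_dl : Commute D.h (D.A (Pm.dl Q.ζ)) := by
  obtain ⟨C', hC', he⟩ := D.h_A_h (Pm.dl Q.ζ)
  obtain rfl : C' = Pm.dl Q.ζ := Subtype.ext (by
    have h2 := congrArg (fun M => M * d0 Q.n0⁻¹) he
    simp only [Matrix.mul_assoc, d0_mul, mul_inv_cancel₀ Q.n0_ne] at h2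
    rw [show d0 (m := k + 1) (1 : F) = 1 by simp [d0], Matrix.mul_one] at h2
    rw [h2, Pm.dl_coe Q.ζ_ne, d0, d0, Matrix.diagonal_mul_diagonal, Matrix.diagonal_mul_diagonal]
    congr 1
    funext a
    have := Q.n0_ne
    split_ifs <;> field_simp)
  exact mul_inv_eq_iff_eq_mul.1 hC'.symm

/-- The reflection fixes the root elements away from the first index. -/
theorem t_X {v : Fin (k + 1) → F} (hv : v 0 = 0) : Commute D.t (D.X v) := by
  rcases eq_or_ne v 0 with rfl | hne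
  · rw [X_zero]; exact Commute.one_right _
  rcases D.kind with hk | E
  · obtain ⟨S, hS⟩ := exists_move_tail hk (v := Pi.single 1 (1 : F)) (w := v) (by simp) hne
      (Pi.single_eq_of_ne Pm.h01 _) hv
    have e : D.X v = D.A (ext0 S) * D.X (Pi.single 1 1) * (D.A (ext0 S))⁻¹ := by rw [D.X_conj, hS]
    rw [e, X_w10]
    exact ((D.tS S).symm.mul_right D.tX1).mul_right (D.tS S).symm.inv_right
  have hb : v 1 ≠ 0 := fun e => hne (by rw [tail_two E.one hv, e, Pi.single_zero])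
  obtain ⟨i, hi⟩ := Q.gen (v 1)⁻¹ (inv_ne_zero hb)
  have e : D.X v = D.A (Pm.dl Q.ζ) ^ i * D.X (Pi.single 1 1) * (D.A (Pm.dl Q.ζ) ^ i)⁻¹ := by
    rw [← map_pow, D.X_conj, dl_pow Q.ζ_ne, hi, dl_single (inv_ne_zero hb), inv_inv, mul_one, ← tail_two E.one hv]
  set P := D.A (Pm.dl Q.ζ) ^ i with hP
  have hc : Commute (D.h⁻¹ ^ i) P := (D.h_comm_dl.inv_left.pow_left i).pow_right i
  have hX : Commute (D.h⁻¹ ^ i) (D.X (Pi.single 1 1)) := by rw [X_w10]; exact E.hX.inv_left.pow_left i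
  have htP : D.t * P * D.t⁻¹ = D.h⁻¹ ^ i * P := by
    rw [hP, ← conj_pow, D.td, D.h_comm_dl.inv_left.mul_pow]
  have ht : Commute D.t (D.X (Pi.single 1 1)) := by rw [X_w10]; exact D.tX1
  refine mul_inv_eq_iff_eq_mul.1 ?_
  rw [e]
  calc D.t * (P * D.X (Pi.single 1 1) * P⁻¹) * D.t⁻¹
      = D.t * P * D.t⁻¹ * (D.t * D.X (Pi.single 1 1) * D.t⁻¹) * (D.t * P * D.t⁻¹)⁻¹ := by group
    _ = D.h⁻¹ ^ i * (P * D.X (Pi.single 1 1) * P⁻¹) * (D.h⁻¹ ^ i)⁻¹ := by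
        rw [htP, ht.eq, mul_inv_cancel_right]; group
    _ = _ := by rw [((hc.mul_right hX).mul_right hc.inv_right).eq, mul_inv_cancel_right]

/-- The conjugate torus element. -/
noncomputable abbrev h1 : G := D.A Pm.w01 * D.h * (D.A Pm.w01)⁻¹

theorem t_h1 : Commute D.t D.h1 := by
  let φ : G →* G := (MulAut.conj (D.A Pm.w01)).toMonoidHom
  have hX : ∀ c, Commute D.t (φ (Pm.xa D.A D.x c)) := fun c => by
    rw [xa_eq]
    show Commute D.t (D.A Pm.w01 * D.X _ * (D.A Pm.w01)⁻¹)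
    rw [X_conj, Odd.w01_e0]
    exact D.t_X (Pi.single_eq_of_ne Pm.h01 _)
  have ht : Commute D.t (φ D.t) := D.tt1
  show Commute D.t (φ D.h)
  rw [h, Pm.he]
  simp only [map_mul, map_inv]
  exact (((hX _).inv_right.mul_right ((ht.mul_right (hX _)).mul_right ht.inv_right)).mul_right
    (hX _).inv_right).mul_right ht.inv_right

/-- Conjugation by the torus element on the root elements. -/
theorem h_X (E : EvTwo Q D.A D.x D.t) (v : Fin (k + 1) → F) :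
    D.h * D.X v * D.h⁻¹ = D.X (d0 Q.n0 *ᵥ v) := by
  rcases eq_or_ne v 0 with rfl | hv
  · rw [Matrix.mulVec_zero, X_zero, mul_one, mul_inv_cancel]
  obtain ⟨C, hC⟩ := exists_Cv hv
  obtain ⟨C', hC', he⟩ := D.h_A_h C
  rw [D.X_eq C hC, Pm.xs, show D.h * (D.A C * D.x * (D.A C)⁻¹) * D.h⁻¹ =
    D.h * D.A C * D.h⁻¹ * (D.h * D.x * D.h⁻¹) * (D.h * D.A C * D.h⁻¹)⁻¹ by group, ← hC', E.hx, xa_eq, X_conj]
  congr 1
  rw [← hC, show (Pi.single 0 Q.n0 : Fin (k + 1) → F) = d0 Q.n0 *ᵥ Pi.single 0 1 by rw [d0_single]; simp,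
    Matrix.mulVec_mulVec, Matrix.mulVec_mulVec, he]

theorem A_NA (C : SpecialLinearGroup (Fin (k + 1)) F) : D.A C ∈ Subgroup.normalizer (D.A.range : Set G) :=
  Subgroup.le_normalizer ⟨C, rfl⟩

theorem sq_NA : D.t * D.t ∈ Subgroup.normalizer (D.A.range : Set G) := by
  obtain ⟨N, hN⟩ := D.sq
  rw [hN]; exact pow_mem D.h_mem_NA N

theorem t_dl_NA {c : F} (hc : c ≠ 0) : D.t * D.A (Pm.dl c) * D.t⁻¹ ∈ Subgroup.normalizer (D.A.range : Set G) := by
  obtain ⟨i, hi⟩ := Q.gen c hc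
  have hdl : Pm.dl (k := k) c = Pm.dl Q.ζ ^ i := by
    refine Subtype.ext ?_
    rw [Matrix.SpecialLinearGroup.coe_pow, Pm.dl_coe hc, Pm.dl_coe Q.ζ_ne, Matrix.diagonal_pow]
    congr 1
    funext a
    rw [Pi.pow_apply]
    split_ifs <;> simp [inv_pow, hi]
  rw [hdl, map_pow, ← conj_pow, D.td]
  exact pow_mem (mul_mem (inv_mem D.h_mem_NA) (D.A_NA _)) i

/-- The elements carried into the special linear group by the reflection. -/
def InW : Subgroup G := D.A.range.comap (MulAut.conj D.t).toMonoidHom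

theorem mem_InW {y : G} : y ∈ D.InW ↔ D.t * y * D.t⁻¹ ∈ D.A.range := Iff.rfl

theorem InW_eq {y y' : G} (hy : y ∈ D.InW) (hy' : y' ∈ D.InW) (h : π y = π y') : y = y' := by
  obtain ⟨C, hC⟩ := D.mem_InW.1 hy
  obtain ⟨C', hC'⟩ := D.mem_InW.1 hy'
  obtain rfl : C = C' := D.A_inj (by rw [hC, hC', map_mul, map_mul, map_mul, map_mul, h])
  exact mul_left_cancel (mul_right_cancel (hC.symm.trans hC'))

theorem inW_conj_ext0 {y : G} (hy : y ∈ D.InW) (S : SpecialLinearGroup (Fin k) F) :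
    D.A (ext0 S) * y * (D.A (ext0 S))⁻¹ ∈ D.InW := by
  rw [mem_InW] at hy ⊢
  have h1 := (Subgroup.mem_normalizer_iff.1 (D.A_NA (ext0 S)) _).1 hy
  convert h1 using 1
  calc D.t * (D.A (ext0 S) * y * (D.A (ext0 S))⁻¹) * D.t⁻¹
      = D.t * D.A (ext0 S) * y * (D.t * D.A (ext0 S))⁻¹ := by group
    _ = _ := by rw [← (D.tS S).eq]; group

theorem inW_conj_dl {y : G} (hy : y ∈ D.InW) {c : F} (hc : c ≠ 0) :
    D.A (Pm.dl c) * y * (D.A (Pm.dl c))⁻¹ ∈ D.InW := by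
  rw [mem_InW] at hy ⊢
  have h1 := (Subgroup.mem_normalizer_iff.1 (D.t_dl_NA hc) _).1 hy
  convert h1 using 1
  group

/-- Conjugation by the torus element on the mixed elements. -/
theorem h_Φ (E : EvTwo Q D.A D.x D.t) (v w : Fin (k + 1) → F) :
    D.h * D.Φ v w * D.h⁻¹ = D.Φ (d0 Q.n0 *ᵥ v) (d0 Q.n0 *ᵥ w) := by
  rw [Φ, Φ, ← Matrix.mulVec_add, ← D.h_X E, ← D.h_X E, ← D.h_X E]; group

theorem t_h_NA : D.t * D.h * D.t⁻¹ ∈ Subgroup.normalizer (D.A.range : Set G) := by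
  have h1 := D.t_dl_NA Q.ζ_ne
  have h2 : D.t * (D.t * D.A (Pm.dl Q.ζ) * D.t⁻¹) * D.t⁻¹ ∈ Subgroup.normalizer (D.A.range : Set G) := by
    rw [show D.t * (D.t * D.A (Pm.dl Q.ζ) * D.t⁻¹) * D.t⁻¹ = D.t * D.t * D.A (Pm.dl Q.ζ) * (D.t * D.t)⁻¹ by group]
    exact mul_mem (mul_mem D.sq_NA (D.A_NA _)) (inv_mem D.sq_NA)
  have e : D.h = D.A (Pm.dl Q.ζ) * (D.t * D.A (Pm.dl Q.ζ) * D.t⁻¹)⁻¹ := by
    rw [D.td, _root_.mul_inv_rev, inv_inv, mul_inv_cancel_left]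
  rw [e, show D.t * (D.A (Pm.dl Q.ζ) * (D.t * D.A (Pm.dl Q.ζ) * D.t⁻¹)⁻¹) * D.t⁻¹ =
    D.t * D.A (Pm.dl Q.ζ) * D.t⁻¹ * (D.t * (D.t * D.A (Pm.dl Q.ζ) * D.t⁻¹) * D.t⁻¹)⁻¹ by group]
  exact mul_mem h1 (inv_mem h2)

theorem inW_conj_h {y : G} (hy : y ∈ D.InW) : D.h * y * D.h⁻¹ ∈ D.InW := by
  rw [mem_InW] at hy ⊢
  have h1 := (Subgroup.mem_normalizer_iff.1 D.t_h_NA _).1 hy
  convert h1 using 1
  group

theorem inW_conj_h_pow {y : G} (hy : y ∈ D.InW) (i : ℕ) : D.h ^ i * y * (D.h ^ i)⁻¹ ∈ D.InW := by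
  induction i with
  | zero => simpa using hy
  | succ i ih =>
    have := D.inW_conj_h ih
    convert this using 1
    rw [pow_succ']; group

theorem h_pow_Φ (E : EvTwo Q D.A D.x D.t) (i : ℕ) (a b : F) :
    D.h ^ i * D.Φ (Pi.single 0 a) (Pi.single 1 b) * (D.h ^ i)⁻¹ =
      D.Φ (Pi.single 0 (Q.n0 ^ i * a)) (Pi.single 1 b) := by
  induction i with
  | zero => simp
  | succ i ih =>
    rw [show D.h ^ (i + 1) * D.Φ (Pi.single 0 a) (Pi.single 1 b) * (D.h ^ (i + 1))⁻¹ =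
      D.h * (D.h ^ i * D.Φ (Pi.single 0 a) (Pi.single 1 b) * (D.h ^ i)⁻¹) * D.h⁻¹ by rw [pow_succ']; group,
      ih, D.h_Φ E, d0_single, d0_single, if_pos rfl, if_neg Pm.h01.symm, one_mul, pow_succ', mul_assoc]

theorem Φ_norm {l : F} (hl : l * J.σ l = 1) (v w : Fin (k + 1) → F) : D.Φ (l • v) (l • w) = D.Φ v w := by
  rw [Φ, Φ, ← smul_add, D.X_norm hl, D.X_norm hl, D.X_norm hl]

theorem inW_two (E : EvTwo Q D.A D.x D.t) {α β : F} (hα : α ≠ 0) (hβ : β ≠ 0) :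
    D.Φ (Pi.single 0 α) (Pi.single 1 β) ∈ D.InW := by
  obtain ⟨i, hi⟩ := Q.gen (α * β) (mul_ne_zero hα hβ)
  obtain ⟨a, ha⟩ : ∃ a, a = i / 4 := ⟨_, rfl⟩
  obtain ⟨j, hj⟩ : ∃ j, j = i % 4 := ⟨_, rfl⟩
  have hi' : i = 4 * a + j := by omega
  have hne : Q.ζ ^ j ≠ 0 := pow_ne_zero j Q.ζ_ne
  have hsζ : J.σ Q.ζ ≠ 0 := by simpa using Q.ζ_ne
  have hnu : Q.nu ≠ 0 := div_ne_zero Q.ζ_ne hsζ
  have hl : Q.nu ^ a * J.σ (Q.nu ^ a) = 1 := by
    rw [map_pow, ← mul_pow, show Q.nu * J.σ Q.nu = 1 by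
      have := Q.ζ_ne
      rw [Pm.nu, map_div₀, J.inv2]; field_simp, one_pow]
  have h0 : D.Φ (Pi.single 0 1) (Pi.single 1 (Q.ζ ^ j)) ∈ D.InW := by
    have h := E.hW4 j (by omega)
    rw [mem_InW]
    convert h using 3
    have hv : (tv (Pm.h01 (k := k)).symm (Q.ζ ^ j)).1 *ᵥ Pi.single 0 1 =
        (Pi.single 0 1 + Pi.single 1 (Q.ζ ^ j) : Fin (k + 1) → F) := funext fun b => by
      rw [tv_mul_apply, Pi.add_apply]
      rcases eq_or_ne b 1 with rfl | hb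
      · simp [Pm.h01, Pm.h01.symm]
      · simp [hb]
    rw [Φ, Pm.phc, X_e0, D.X_eq (Pm.w10 * Pm.dl (Q.ζ ^ j)) (w10_dl_mulVec hne), D.X_eq _ hv]
  set c := α / (Q.n0 ^ (2 * a) * Q.nu ^ a) with hc
  have hd : Q.n0 ^ (2 * a) * Q.nu ^ a ≠ 0 := mul_ne_zero (pow_ne_zero _ Q.n0_ne) (pow_ne_zero _ hnu)
  have hc0 : c ≠ 0 := div_ne_zero hα hd
  have h1 := D.inW_conj_dl h0 hc0
  rw [Φ_conj, dl_single0 hc0, dl_single hc0, mul_one] at h1
  have h2 := D.inW_conj_h_pow h1 (2 * a)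
  rw [D.h_pow_Φ E, ← D.Φ_norm hl, ← Pi.single_smul, ← Pi.single_smul, smul_eq_mul, smul_eq_mul] at h2
  have eA : Q.nu ^ a * (Q.n0 ^ (2 * a) * c) = α := by
    rw [hc, ← mul_assoc, mul_comm (Q.nu ^ a), mul_div_cancel₀ α hd]
  have e4 : Q.n0 ^ (2 * a) * (Q.nu ^ a * Q.nu ^ a) = Q.ζ ^ (4 * a) := by
    rw [← pow_add, show a + a = 2 * a by ring, ← mul_pow, show Q.n0 * Q.nu = Q.ζ ^ 2 by
      rw [Pm.n0, Pm.nu]; field_simp, ← pow_mul]
    ring_nf
  have eB : Q.nu ^ a * (c⁻¹ * Q.ζ ^ j) = β := by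
    rw [hi', pow_add, ← e4] at hi
    rw [hc, inv_div, div_mul_eq_mul_div, mul_div_assoc', div_eq_iff hα]
    linear_combination hi
  rwa [eA, eB] at h2

theorem inW_tail (α : F) {v : Fin (k + 1) → F} (hv : v 0 = 0) : D.Φ (Pi.single 0 α) v ∈ D.InW := by
  rcases eq_or_ne α 0 with rfl | hα
  · rw [Pi.single_zero, Φ_zero_left]; exact one_mem _
  rcases eq_or_ne v 0 with rfl | hne
  · rw [Φ_zero_right]; exact one_mem _
  have h0 : D.Φ (Pi.single 0 1) (Pi.single 1 1) ∈ D.InW := by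
    rw [← ph_eq, mem_InW, ← D.hW, mul_inv_cancel_right]
    exact ⟨_, rfl⟩
  have h1 := D.inW_conj_dl h0 hα
  rw [Φ_conj, Pm.dl_mulVec hα] at h1
  have hu0 : ((Pm.dl (k := k) α).1 *ᵥ Pi.single 1 (1 : F)) 0 = 0 := by
    rw [Pm.dl_coe hα, Matrix.mulVec_diagonal]; simp [Pm.h01]
  have hu : (Pm.dl (k := k) α).1 *ᵥ Pi.single 1 (1 : F) ≠ 0 := fun e => by
    have := congrFun e 1
    rw [Pm.dl_coe hα, Matrix.mulVec_diagonal] at this
    simp [Pm.h01.symm, hα] at this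
  rcases D.kind with hk | E
  swap
  · rw [tail_two E.one hv]
    exact D.inW_two E hα fun e => hne (by rw [tail_two E.one hv, e, Pi.single_zero])
  obtain ⟨S, hS⟩ := exists_move_tail hk hu hne hu0 hv
  have h2 := D.inW_conj_ext0 h1 S
  rwa [Φ_conj, Odd.ext0_e, hS] at h2

theorem comm_two (E : EvTwo Q D.A D.x D.t) {v w : Fin (k + 1) → F} (h : Ind v w) : Commute (D.X v) (D.X w) := by
  have key : ∀ b : F, b ≠ 0 → Commute (D.X (Pi.single 0 1)) (D.X (Pi.single 1 b)) := by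
    intro b hb
    obtain ⟨i, hi⟩ := Q.gen b hb
    obtain ⟨a, ha⟩ : ∃ a, a = i / 2 := ⟨_, rfl⟩
    obtain ⟨r, hr⟩ : ∃ r, r = i % 2 := ⟨_, rfl⟩
    have hi' : i = 2 * a + r := by omega
    have hsζ : J.σ Q.ζ ≠ 0 := by simpa using Q.ζ_ne
    have hn : Q.n0 ^ a ≠ 0 := pow_ne_zero _ Q.n0_ne
    have hl : Q.nu ^ a * J.σ (Q.nu ^ a) = 1 := by
      rw [map_pow, ← mul_pow, show Q.nu * J.σ Q.nu = 1 by
        have := Q.ζ_ne
        rw [Pm.nu, map_div₀, J.inv2]; field_simp, one_pow]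
    have h0 : Commute (D.X (Pi.single 0 1)) (D.X (Pi.single 1 (Q.ζ ^ r))) := by
      rw [X_e0]
      rcases (show r = 0 ∨ r = 1 by omega) with e | e
      · rw [e, pow_zero, X_w10]; exact D.comm01
      · rw [e, pow_one, D.X_eq _ (w10_dl_mulVec Q.ζ_ne)]; exact E.comm1
    have h1 : ∀ n : ℕ, Commute (D.X (Pi.single 0 (Q.n0 ^ n))) (D.X (Pi.single 1 (Q.ζ ^ r))) := by
      intro n
      induction n with
      | zero => simpa using h0
      | succ n ih =>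
        have h2 := ih.map (MulAut.conj D.h).toMonoidHom
        simp only [MulEquiv.coe_toMonoidHom, MulAut.conj_apply] at h2
        rwa [D.h_X E, D.h_X E, d0_single, d0_single, if_pos rfl, if_neg Pm.h01.symm, one_mul, ← pow_succ'] at h2
    have h2 := (h1 a).map (MulAut.conj (D.A (Pm.dl (Q.n0 ^ a)⁻¹))).toMonoidHom
    simp only [MulEquiv.coe_toMonoidHom, MulAut.conj_apply] at h2
    rw [D.X_conj, D.X_conj, dl_single0 (inv_ne_zero hn), dl_single (inv_ne_zero hn), inv_inv, inv_mul_cancel₀ hn,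
      ← D.X_norm hl (Pi.single 1 (Q.n0 ^ a * Q.ζ ^ r)), ← Pi.single_smul, smul_eq_mul] at h2
    have eB : Q.nu ^ a * (Q.n0 ^ a * Q.ζ ^ r) = b := by
      rw [← hi, hi', pow_add, pow_mul, show Q.ζ ^ 2 = Q.n0 * Q.nu by rw [Pm.n0, Pm.nu]; field_simp, mul_pow]
      ring
    rwa [eB] at h2
  obtain ⟨C, hC⟩ := exists_Cv h.ne_left
  set w' := (C⁻¹).1 *ᵥ w with hw'
  have hCw : C.1 *ᵥ w' = w := by
    rw [hw', Matrix.mulVec_mulVec, ← Matrix.SpecialLinearGroup.coe_mul, mul_inv_cancel,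
      Matrix.SpecialLinearGroup.coe_one, Matrix.one_mulVec]
  have hb : w' 1 ≠ 0 := by
    intro e
    have e2 : w = w' 0 • v := by
      rw [← hCw, ← hC, ← Matrix.mulVec_smul]
      congr 1
      funext a
      rcases eq_or_ne a 0 with rfl | ha
      · simp
      · rw [eq_one_of_two E.one ha, e]; simp [Pm.h01.symm]
    exact one_ne_zero (neg_eq_zero.1 (h (w' 0) (-1) (by rw [e2]; simp)).2)
  set T : SpecialLinearGroup (Fin (k + 1)) F := C * tv (Pm.h01 (k := k)) (w' 0 / w' 1)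
  have hT0 : T.1 *ᵥ Pi.single 0 1 = v := by
    rw [Matrix.SpecialLinearGroup.coe_mul, ← Matrix.mulVec_mulVec, show (tv (Pm.h01 (k := k)) (w' 0 / w' 1)).1 *ᵥ
      Pi.single 0 1 = Pi.single 0 1 from funext fun a => by
        rw [tv_mul_apply, Pi.single_eq_of_ne Pm.h01.symm]; simp, hC]
  have hT1 : T.1 *ᵥ Pi.single 1 (w' 1) = w := by
    rw [Matrix.SpecialLinearGroup.coe_mul, ← Matrix.mulVec_mulVec, show (tv (Pm.h01 (k := k)) (w' 0 / w' 1)).1 *ᵥ
      Pi.single 1 (w' 1) = w' from funext fun a => by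
        rw [tv_mul_apply]
        rcases eq_or_ne a 0 with rfl | ha
        · simp [Pm.h01, hb]
        · rw [eq_one_of_two E.one ha]; simp [Pm.h01.symm], hCw]
  have h3 := (key _ hb).map (MulAut.conj (D.A T)).toMonoidHom
  simp only [MulEquiv.coe_toMonoidHom, MulAut.conj_apply] at h3
  rwa [D.X_conj, D.X_conj, hT0, hT1] at h3

/-- Root elements of independent vectors commute. -/
theorem comm_ind {v w : Fin (k + 1) → F} (h : Ind v w) : Commute (D.X v) (D.X w) := by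
  rcases D.kind with hk | E
  swap
  · exact D.comm_two E h
  obtain ⟨C, h0, h1⟩ := exists_move_pair hk h
  have h2 : Commute (D.X (Pi.single 0 1)) (D.X (Pi.single 1 1)) := by
    rw [X_e0, X_w10]; exact D.comm01
  have h3 := h2.map (MulAut.conj (D.A C)).toMonoidHom
  simp only [MulEquiv.coe_toMonoidHom, MulAut.conj_apply] at h3
  rwa [D.X_conj, D.X_conj, h0, h1] at h3

theorem ind_single {α γ : F} (hα : α ≠ 0) (hγ : γ ≠ 0) :
    Ind (Pi.single (0 : Fin (k + 1)) α) (Pi.single 1 γ) := fun a b h => by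
  have h0 := congrFun h 0
  have h1 := congrFun h 1
  simp [Pm.h01, Pm.h01.symm, hα, hγ] at h0 h1
  exact ⟨h0, h1⟩

/-- All root elements commute. -/
theorem comm_all (v w : Fin (k + 1) → F) : Commute (D.X v) (D.X w) := by
  rcases dep_cases v w with rfl | ⟨μ, rfl⟩ | h
  · rw [X_zero]; exact Commute.one_left _
  swap
  · exact D.comm_ind h
  rcases eq_or_ne v 0 with rfl | hv
  · rw [X_zero]; exact Commute.one_left _
  rcases eq_or_ne μ 0 with rfl | hμ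
  · rw [zero_smul, X_zero]; exact Commute.one_right _
  obtain ⟨C, hC⟩ := exists_Cv hv
  suffices h : Commute (D.X (Pi.single 0 1)) (D.X (Pi.single 0 μ)) by
    have h3 := h.map (MulAut.conj (D.A C)).toMonoidHom
    simp only [MulEquiv.coe_toMonoidHom, MulAut.conj_apply] at h3
    rwa [D.X_conj, D.X_conj, hC, show (Pi.single 0 μ : Fin (k + 1) → F) = μ • Pi.single 0 1 by
      rw [← Pi.single_smul, smul_eq_mul, mul_one], Matrix.mulVec_smul, hC] at h3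
  let P := D.X (Pi.single 0 μ)
  have hadd : ∀ γ γ' : F, D.Φ (Pi.single 0 1) (Pi.single 1 (γ + γ')) =
      D.Φ (Pi.single 0 1) (Pi.single 1 γ) * D.Φ (Pi.single 0 1) (Pi.single 1 γ') := fun γ γ' => by
    refine D.InW_eq (D.inW_tail _ (Pi.single_eq_of_ne Pm.h01 _))
      (mul_mem (D.inW_tail _ (Pi.single_eq_of_ne Pm.h01 _)) (D.inW_tail _ (Pi.single_eq_of_ne Pm.h01 _))) ?_
    obtain ⟨h', e'⟩ := uM_mul0 (srel (J := J) (col (Pi.single (0 : Fin (k + 1)) (1 : F)) * st J.σ (col (Pi.single 1 γ))))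
      (srel (col (Pi.single (0 : Fin (k + 1)) (1 : F)) * st J.σ (col (Pi.single 1 γ'))))
    rw [map_mul, π_Φ, π_Φ, π_Φ, e']
    refine uM_congr _ _ ?_ rfl
    ext i j
    simp [Cfsg.Lib.Linear.SUDegree.st, Matrix.mul_apply, Pi.single_add]
    ring
  have hcom : ∀ γ : F, γ ≠ 0 → Commute P (D.X (Pi.single 0 1) * D.Φ (Pi.single 0 1) (Pi.single 1 γ)) := by
    intro γ hγ
    have e : D.X (Pi.single 0 1) * D.Φ (Pi.single 0 1) (Pi.single 1 γ) =
        (D.X (Pi.single 1 γ))⁻¹ * D.X (Pi.single 0 1 + Pi.single 1 γ) := by rw [Φ]; group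
    rw [e]
    refine ((D.comm_ind (ind_single hμ hγ)).inv_right).mul_right (D.comm_ind fun a b h => ?_)
    have h0 := congrFun h 0
    have h1 := congrFun h 1
    simp [Pm.h01, Pm.h01.symm, hγ] at h0 h1
    subst h1
    simpa [hμ] using h0
  have hX0 : ∀ γ : F, Commute (D.X (Pi.single 0 1)) (D.Φ (Pi.single 0 1) (Pi.single 1 γ)) := by
    intro γ
    rcases eq_or_ne γ 0 with rfl | hγ
    · rw [Pi.single_zero, Φ_zero_right]; exact Commute.one_right _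
    refine (((Commute.refl _).inv_right).mul_right (D.comm_ind (ind_single one_ne_zero hγ)).inv_right).mul_right
      (D.comm_ind fun a b h => ?_)
    have h0 := congrFun h 0
    have h1 := congrFun h 1
    simp [Pm.h01, Pm.h01.symm, hγ] at h0 h1
    subst h1
    simpa using h0
  obtain ⟨γ', h1, h2⟩ : ∃ γ' : F, γ' ≠ 0 ∧ 1 + γ' ≠ 0 := by
    rcases eq_or_ne (1 + Q.ζ) 0 with h | h
    · -- the generator is minus one, so every non-zero element is a sign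
      by_cases h2 : (1 : F) + 1 = 0
      · exfalso
        have hζ1 : Q.ζ = 1 := by linear_combination h - h2
        have hone : ∀ a : F, a ≠ 0 → a = 1 := fun a ha => by
          obtain ⟨i, rfl⟩ := Q.gen a ha; rw [hζ1, one_pow]
        have hκ := Q.hκ
        rcases eq_or_ne Q.κ 0 with e | e
        · simp [e] at hκ
        · rw [hone _ e, map_one] at hκ; exact one_ne_zero (α := F) (by linear_combination hκ - h2)
      · exact ⟨1, one_ne_zero, h2⟩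
    · exact ⟨Q.ζ, Q.ζ_ne, h⟩
  have hΦ1 : Commute P (D.Φ (Pi.single 0 1) (Pi.single 1 1)) := by
    have h3 := (hcom γ' h1).inv_right.mul_right (hcom (1 + γ') h2)
    rw [show (1 : F) + γ' = γ' + 1 by ring, hadd] at h3
    have e : (D.X (Pi.single 0 1) * D.Φ (Pi.single 0 1) (Pi.single 1 γ'))⁻¹ *
        (D.X (Pi.single 0 1) * (D.Φ (Pi.single 0 1) (Pi.single 1 γ') * D.Φ (Pi.single 0 1) (Pi.single 1 1))) =
          D.Φ (Pi.single 0 1) (Pi.single 1 1) := by group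
    rwa [e] at h3
  have h4 := (hcom 1 one_ne_zero).mul_right hΦ1.inv_right
  rw [mul_inv_cancel_right] at h4
  exact h4.symm

end Ev

end Cfsg.Lib.Linear.ShortPres.SUN
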