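import Cfsg.Agent.Lib.Linear.ShortPres.SUN.ModelFacts

/-!
# The radical in odd dimensions from relations between root elements
-/

set_option autoImplicit false
set_option linter.unusedSectionVars false

namespace Cfsg.Lib.Linear.ShortPres.SUN

open Matrix Cfsg.Lib.Linear.SUDegree Cfsg.Lib.Linear.Herm
open scoped commutatorElement

variable {F : Type*} [Field F] {J : Conj F} {m : ℕ}

/-- Two independent vectors. -/
def Ind (v w : Fin m → F) : Prop := ∀ a b : F, a • v + b • w = 0 → a = 0 ∧ b = 0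

/-- The one column matrix of a vector. -/
abbrev col (v : Fin m → F) : Matrix (Fin m) (Fin 1) F := Matrix.of fun i _ => v i

theorem col_mul (v w : Fin m → F) :
    col v * st J.σ (col w) = Matrix.of fun i j => v i * J.σ (w j) := by
  ext i j; simp [Matrix.mul_apply, st]

theorem xrel {κ : F} (hκ : κ + J.σ κ + 1 = 0) (v : Fin m → F) :
    κ • (col v * st J.σ (col v)) + st J.σ (κ • (col v * st J.σ (col v))) + col v * st J.σ (col v) = 0 := by
  rw [Cfsg.Lib.Linear.SUDegree.st_smul, Cfsg.Lib.Linear.SUDegree.st_mul, st_st J.inv2, ← add_smul]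
  calc (κ + J.σ κ) • (col v * st J.σ (col v)) + col v * st J.σ (col v)
      = (κ + J.σ κ + 1) • (col v * st J.σ (col v)) := by rw [add_smul (κ + J.σ κ) 1, one_smul]
    _ = 0 := by rw [hκ, zero_smul]

theorem mrel (M : Matrix (Fin m) (Fin m) F) :
    st J.σ M - M + st J.σ (st J.σ M - M) + (0 : Matrix (Fin m) (Fin 1) F) * st J.σ (0 : Matrix (Fin m) (Fin 1) F) = 0 := by
  rw [Cfsg.Lib.Linear.SUDegree.st_sub, st_st J.inv2, Matrix.zero_mul, add_zero, sub_add_sub_cancel, sub_self]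

theorem uM_inj {ε : ℕ} {H H' : Matrix (Fin m) (Fin m) F} {X X' : Matrix (Fin m) (Fin ε) F}
    {h : H + st J.σ H + X * st J.σ X = 0} {h' : H' + st J.σ H' + X' * st J.σ X' = 0}
    (e : (uM h : Mg J m ε) = uM h') : H = H' ∧ X = X' :=
  uMat_ext (J := J) (congrArg mat e)

theorem uM_eq_one {ε : ℕ} {H : Matrix (Fin m) (Fin m) F} {X : Matrix (Fin m) (Fin ε) F}
    {h : H + st J.σ H + X * st J.σ X = 0} (e : (uM h : Mg J m ε) = 1) : H = 0 ∧ X = 0 :=
  uMat_ext (J := J) ((congrArg mat e).trans ((mat_one).trans uMat_zero.symm))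

theorem exists_ind (hm : 2 ≤ m) {v : Fin m → F} (hv : v ≠ 0) : ∃ u, Ind v u := by
  classical
  obtain ⟨i, hi⟩ := Function.ne_iff.1 hv
  obtain ⟨j, hj⟩ : ∃ j : Fin m, j ≠ i := by
    haveI : Nontrivial (Fin m) := Fin.nontrivial_iff_two_le.2 hm
    exact exists_ne i
  refine ⟨Pi.single j 1, fun a b h => ?_⟩
  have h1 := congrFun h i
  simp only [Pi.add_apply, Pi.smul_apply, smul_eq_mul, Pi.single_eq_of_ne hj.symm, mul_zero, add_zero,
    Pi.zero_apply] at h1
  have ha : a = 0 := (mul_eq_zero.1 h1).resolve_right hi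
  have h2 := congrFun h j
  simp [ha] at h2
  exact ⟨ha, h2⟩

theorem Ind.symm {v w : Fin m → F} (h : Ind v w) : Ind w v := fun a b e => (h b a (by rw [add_comm]; exact e)).symm

theorem Ind.ne_left {v w : Fin m → F} (h : Ind v w) : v ≠ 0 := fun e =>
  one_ne_zero (h 1 0 (by simp [e])).1

theorem dep_cases (v w : Fin m → F) : v = 0 ∨ (∃ μ : F, w = μ • v) ∨ Ind v w := by
  by_cases hv : v = 0
  · exact Or.inl hv
  refine Or.inr ?_
  by_cases h : ∃ μ : F, w = μ • v
  · exact Or.inl h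
  refine Or.inr fun a b e => ?_
  have hb : b = 0 := by
    by_contra hb
    refine h ⟨-(b⁻¹ * a), ?_⟩
    have e' : b⁻¹ • (a • v + b • w) = 0 := by rw [e, smul_zero]
    rw [smul_add, smul_smul, smul_smul, inv_mul_cancel₀ hb, one_smul, add_comm] at e'
    rw [neg_smul]; exact eq_neg_of_add_eq_zero_left e'
  refine ⟨?_, hb⟩
  rw [hb, zero_smul, add_zero] at e
  exact (smul_eq_zero.1 e).resolve_right hv

/-- Root elements of the odd radical with their relations. -/
structure RadOne (J : Conj F) (m : ℕ) {G : Type*} [Group G] (π : G →* Mg J m 1) where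
  κ : F
  hκ : κ + J.σ κ + 1 = 0
  hm : 2 ≤ m
  X : (Fin m → F) → G
  πX : ∀ v, π (X v) = uM (xrel hκ v)
  X0 : X 0 = 1
  add : ∀ v w, Ind v w → X v * X w = X (v + w) * ⁅X ((-J.σ κ) • v), X w⁆
  cen : ∀ v w u, Ind v w → Commute ⁅X v, X w⁆ (X u)
  semi : ∀ v w (c : F), Ind v w → c ≠ 0 → ⁅X (c • v), X w⁆ = ⁅X v, X (J.σ c • w)⁆

namespace RadOne

variable {G : Type*} [Group G] {π : G →* Mg J m 1} (D : RadOne J m π)

/-- The radical. -/
def N : Subgroup G := Subgroup.closure (Set.range D.X)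

theorem X_mem (v : Fin m → F) : D.X v ∈ D.N := Subgroup.subset_closure ⟨v, rfl⟩

theorem comm_mul_right (a b c : G) : ⁅a, b * c⁆ = ⁅a, b⁆ * (b * ⁅a, c⁆ * b⁻¹) := by
  simp only [commutatorElement_def]; group

theorem comm_mul_left (a b c : G) : ⁅a * b, c⁆ = a * ⁅b, c⁆ * a⁻¹ * ⁅a, c⁆ := by
  simp only [commutatorElement_def]; group

theorem comm_central (a z : G) (h : Commute z a) : ⁅a, z⁆ = 1 :=
  commutatorElement_eq_one_iff_mul_comm.2 h.eq.symm

theorem cen_dep (v : Fin m → F) (μ : F) (x : Fin m → F) : Commute ⁅D.X v, D.X (μ • v)⁆ (D.X x) := by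
  rcases eq_or_ne v 0 with rfl | hv
  · simp [D.X0, commutatorElement_def]
  rcases eq_or_ne μ 0 with rfl | hμ
  · simp [D.X0]
  obtain ⟨u, hu⟩ := exists_ind D.hm hv
  have i1 : Ind (μ • v + u) (-u) := fun a b e => by
    obtain ⟨h1, h2⟩ := hu (a * μ) (a - b) (by rw [← e]; module)
    have ha : a = 0 := (mul_eq_zero.1 h1).resolve_right hμ
    subst ha
    exact ⟨rfl, by simpa using h2⟩
  have i2 : Ind v (μ • v + u) := fun a b e => by
    obtain ⟨h1, h2⟩ := hu (a + b * μ) b (by rw [← e]; module)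
    subst h2
    exact ⟨by simpa using h1, rfl⟩
  have i3 : Ind v (-u) := fun a b e => by
    obtain ⟨h1, h2⟩ := hu a (-b) (by rw [← e]; module)
    exact ⟨h1, neg_eq_zero.1 h2⟩
  have e := D.add _ _ i1
  rw [add_neg_cancel_right] at e
  set c := ⁅D.X ((-J.σ D.κ) • (μ • v + u)), D.X (-u)⁆
  have hc : ∀ y, Commute c (D.X y) := fun y => D.cen _ _ y (fun a b h => by
    rw [smul_smul] at h
    obtain ⟨h1, h2⟩ := i1 _ _ h
    exact ⟨(mul_eq_zero.1 h1).resolve_right (by simp [show D.κ ≠ 0 by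
      intro h0; simpa [h0] using D.hκ]), h2⟩)
  have e' : D.X (μ • v) = D.X (μ • v + u) * D.X (-u) * c⁻¹ := by rw [e, mul_inv_cancel_right]
  have hy : ∀ y, Commute ⁅D.X v, D.X (μ • v + u) * D.X (-u)⁆ (D.X y) := fun y => by
    rw [comm_mul_right, ← (D.cen _ _ (μ • v + u) i3).eq, mul_inv_cancel_right]
    exact (D.cen _ _ y i2).mul_left (D.cen _ _ y i3)
  rw [e', comm_mul_right, comm_central _ _ (hc v).inv_left, mul_one, mul_inv_cancel, mul_one]
  exact hy x

theorem cen_all (v w x : Fin m → F) : Commute ⁅D.X v, D.X w⁆ (D.X x) := by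
  rcases dep_cases v w with rfl | ⟨μ, rfl⟩ | h
  · simp [D.X0, commutatorElement_def]
  · exact D.cen_dep v μ x
  · exact D.cen v w x h

/-- The commutators. -/
def Z : Subgroup G := Subgroup.closure (Set.range fun p : (Fin m → F) × (Fin m → F) => ⁅D.X p.1, D.X p.2⁆)

theorem comm_mem (v w : Fin m → F) : ⁅D.X v, D.X w⁆ ∈ D.Z := Subgroup.subset_closure ⟨(v, w), rfl⟩

theorem Z_commute {z : G} (hz : z ∈ D.Z) {n : G} (hn : n ∈ D.N) : Commute z n := by
  have h1 : ∀ v, Commute z (D.X v) := fun v => by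
    have : D.Z ≤ Subgroup.centralizer ({D.X v} : Set G) := by
      rw [Z, Subgroup.closure_le]
      rintro _ ⟨⟨a, b⟩, rfl⟩
      exact Subgroup.mem_centralizer_singleton_iff.2 (D.cen_all a b v).eq
    exact Subgroup.mem_centralizer_singleton_iff.1 (this hz)
  have : D.N ≤ Subgroup.centralizer ({z} : Set G) := by
    rw [N, Subgroup.closure_le]
    rintro _ ⟨v, rfl⟩
    exact Subgroup.mem_centralizer_singleton_iff.2 (h1 v).eq.symm
  exact (Subgroup.mem_centralizer_singleton_iff.1 (this hn)).symm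

theorem Z_le : D.Z ≤ D.N := by
  rw [Z, Subgroup.closure_le]
  rintro _ ⟨⟨a, b⟩, rfl⟩
  show ⁅D.X a, D.X b⁆ ∈ D.N
  rw [commutatorElement_def]
  exact mul_mem (mul_mem (mul_mem (D.X_mem a) (D.X_mem b)) (inv_mem (D.X_mem a))) (inv_mem (D.X_mem b))

theorem mul_ind {v w : Fin m → F} (h : Ind v w) : ∃ z ∈ D.Z, D.X v * D.X w = D.X (v + w) * z :=
  ⟨_, D.comm_mem _ _, D.add v w h⟩

theorem X_neg (u : Fin m → F) : D.X (-u) * D.X u ∈ D.Z := by
  rcases eq_or_ne u 0 with rfl | hu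
  · simp [D.X0, one_mem]
  obtain ⟨v, hv⟩ := exists_ind D.hm hu
  obtain ⟨z₁, hz₁, e₁⟩ := D.mul_ind (v := -u) (w := u + v) fun a b e => by
    obtain ⟨h1, h2⟩ := hv (b - a) b (by rw [← e]; module)
    subst h2
    exact ⟨by simpa using h1, rfl⟩
  obtain ⟨z₂, hz₂, e₂⟩ := D.mul_ind hv
  rw [neg_add_cancel_left] at e₁
  have a1 : D.X (-u) = D.X v * z₁ * (D.X (u + v))⁻¹ := by rw [← e₁, mul_inv_cancel_right]
  have a2 : D.X u = D.X (u + v) * z₂ * (D.X v)⁻¹ := by rw [← e₂, mul_inv_cancel_right]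
  have h := D.Z_commute (mul_mem hz₁ hz₂) (D.X_mem v)
  have : D.X (-u) * D.X u = z₁ * z₂ := by
    rw [a1, a2]
    calc D.X v * z₁ * (D.X (u + v))⁻¹ * (D.X (u + v) * z₂ * (D.X v)⁻¹)
        = D.X v * (z₁ * z₂) * (D.X v)⁻¹ := by group
      _ = _ := by rw [← h.eq, mul_inv_cancel_right]
  rw [this]; exact mul_mem hz₁ hz₂

theorem mul_X (v w : Fin m → F) : ∃ z ∈ D.Z, D.X v * D.X w = D.X (v + w) * z := by
  rcases dep_cases v w with rfl | ⟨μ, rfl⟩ | h
  · exact ⟨1, one_mem _, by simp [D.X0]⟩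
  swap
  · exact D.mul_ind h
  rcases eq_or_ne v 0 with rfl | hv
  · exact ⟨1, one_mem _, by simp [D.X0]⟩
  rcases eq_or_ne μ 0 with rfl | hμ
  · exact ⟨1, one_mem _, by simp [D.X0]⟩
  obtain ⟨u, hu⟩ := exists_ind D.hm hv
  obtain ⟨z₁, hz₁, e₁⟩ := D.mul_ind (v := μ • v + u) (w := -u) fun a b e => by
    obtain ⟨h1, h2⟩ := hu (a * μ) (a - b) (by rw [← e]; module)
    have ha : a = 0 := (mul_eq_zero.1 h1).resolve_right hμ
    subst ha
    exact ⟨rfl, by simpa using h2⟩
  rw [add_neg_cancel_right] at e₁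
  obtain ⟨z₂, hz₂, e₂⟩ := D.mul_ind (v := v) (w := μ • v + u) fun a b e => by
    obtain ⟨h1, h2⟩ := hu (a + b * μ) b (by rw [← e]; module)
    subst h2
    exact ⟨by simpa using h1, rfl⟩
  by_cases h1 : 1 + μ = 0
  · have hμ' : μ • v = -v := by
      rw [show μ = -1 by linear_combination h1, neg_smul, one_smul]
    have h := D.X_neg (-v)
    rw [neg_neg] at h
    exact ⟨_, h, by rw [hμ', add_neg_cancel, D.X0, one_mul]⟩
  obtain ⟨z₃, hz₃, e₃⟩ := D.mul_ind (v := v + (μ • v + u)) (w := -u) fun a b e => by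
    obtain ⟨h2, h3⟩ := hu (a * (1 + μ)) (a - b) (by rw [← e]; module)
    have ha : a = 0 := (mul_eq_zero.1 h2).resolve_right h1
    subst ha
    exact ⟨rfl, by simpa using h3⟩
  refine ⟨z₃ * z₂ * z₁⁻¹, mul_mem (mul_mem hz₃ hz₂) (inv_mem hz₁), ?_⟩
  have e4 : D.X (μ • v) = D.X (μ • v + u) * D.X (-u) * z₁⁻¹ := by rw [e₁, mul_inv_cancel_right]
  have hc := D.Z_commute hz₂ (D.X_mem (-u))
  rw [show v + μ • v = v + (μ • v + u) + -u by abel, e4]
  calc D.X v * (D.X (μ • v + u) * D.X (-u) * z₁⁻¹)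
      = D.X (v + (μ • v + u)) * (z₂ * D.X (-u)) * z₁⁻¹ := by rw [← mul_assoc, ← mul_assoc, e₂]; group
    _ = D.X (v + (μ • v + u)) * D.X (-u) * (z₂ * z₁⁻¹) := by rw [hc.eq]; group
    _ = _ := by rw [e₃]; group

theorem comm_add_right (v w w' : Fin m → F) : ⁅D.X v, D.X (w + w')⁆ = ⁅D.X v, D.X w⁆ * ⁅D.X v, D.X w'⁆ := by
  obtain ⟨z, hz, e⟩ := D.mul_X w w'
  rw [show D.X (w + w') = D.X w * D.X w' * z⁻¹ by rw [e, mul_inv_cancel_right], comm_mul_right,
    comm_central _ _ (D.Z_commute (inv_mem hz) (D.X_mem v)), mul_one, mul_inv_cancel, mul_one, comm_mul_right,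
    ← (D.cen_all v w' w).eq, mul_inv_cancel_right]

theorem comm_swap (v w : Fin m → F) : ⁅D.X v, D.X w⁆ = ⁅D.X w, D.X v⁆⁻¹ := (commutatorElement_inv _ _).symm

theorem comm_add_left (v v' w : Fin m → F) : ⁅D.X (v + v'), D.X w⁆ = ⁅D.X v, D.X w⁆ * ⁅D.X v', D.X w⁆ := by
  rw [D.comm_swap, D.comm_add_right, D.comm_swap v, D.comm_swap v', _root_.mul_inv_rev]
  exact ((D.Z_commute (D.comm_mem w v) (D.Z_le (D.comm_mem w v'))).inv_inv).eq.symm

theorem semi_all (v w : Fin m → F) (c : F) : ⁅D.X (c • v), D.X w⁆ = ⁅D.X v, D.X (J.σ c • w)⁆ := by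
  rcases eq_or_ne c 0 with rfl | hc
  · simp [D.X0, commutatorElement_def]
  rcases dep_cases v w with rfl | ⟨μ, rfl⟩ | h
  · simp [D.X0, commutatorElement_def]
  swap
  · exact D.semi v w c h hc
  rcases eq_or_ne v 0 with rfl | hv
  · simp [D.X0, commutatorElement_def]
  obtain ⟨u, hu⟩ := exists_ind D.hm hv
  have i1 : Ind v (μ • v + u) := fun a b e => by
    obtain ⟨h1, h2⟩ := hu (a + b * μ) b (by rw [← e]; module)
    subst h2
    exact ⟨by simpa using h1, rfl⟩
  have i2 : Ind v (-u) := fun a b e => by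
    obtain ⟨h1, h2⟩ := hu a (-b) (by rw [← e]; module)
    exact ⟨h1, neg_eq_zero.1 h2⟩
  calc ⁅D.X (c • v), D.X (μ • v)⁆ = ⁅D.X (c • v), D.X (μ • v + u)⁆ * ⁅D.X (c • v), D.X (-u)⁆ := by
        rw [← D.comm_add_right, add_neg_cancel_right]
    _ = ⁅D.X v, D.X (J.σ c • (μ • v + u))⁆ * ⁅D.X v, D.X (J.σ c • -u)⁆ := by
        rw [D.semi _ _ c i1 hc, D.semi _ _ c i2 hc]
    _ = _ := by rw [← D.comm_add_right, ← smul_add, add_neg_cancel_right]

noncomputable instance zCommGroup : CommGroup D.Z :=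
  { (inferInstance : Group D.Z) with mul_comm := fun a b => Subtype.ext (D.Z_commute a.2 (D.Z_le b.2)).eq }

open Finset in
theorem comm_sum {ι : Type*} [DecidableEq ι] (v : Fin m → F) (s : Finset ι) (f : ι → Fin m → F) :
    ∀ x, x = ∑ i ∈ s, f i → Additive.ofMul (⟨⁅D.X v, D.X x⁆, D.comm_mem _ _⟩ : D.Z) =
      ∑ i ∈ s, Additive.ofMul (⟨⁅D.X v, D.X (f i)⁆, D.comm_mem _ _⟩ : D.Z) := by
  induction s using Finset.induction with
  | empty =>
    rintro x rfl
    simp only [sum_empty]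
    refine congrArg Additive.ofMul (Subtype.ext ?_)
    simp [D.X0, commutatorElement_def]
  | insert a s ha ih =>
    rintro x rfl
    rw [sum_insert ha, sum_insert ha, ← ih _ rfl]
    exact congrArg Additive.ofMul (Subtype.ext (D.comm_add_right _ _ _))

/-- The additive parametrisation of the commutators. -/
noncomputable def lam (M : Matrix (Fin m) (Fin m) F) : Additive D.Z :=
  ∑ p : Fin m × Fin m, Additive.ofMul
    (⟨⁅D.X (Pi.single p.1 (M p.1 p.2)), D.X (Pi.single p.2 1)⁆, D.comm_mem _ _⟩ : D.Z)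

/-- The commutator as an element of the commutator subgroup, additively. -/
noncomputable def cz (v w : Fin m → F) : Additive D.Z := Additive.ofMul ⟨⁅D.X v, D.X w⁆, D.comm_mem v w⟩

theorem cz_add_left (v v' w : Fin m → F) : D.cz (v + v') w = D.cz v w + D.cz v' w :=
  congrArg Additive.ofMul (Subtype.ext (D.comm_add_left v v' w))

theorem cz_add_right (v w w' : Fin m → F) : D.cz v (w + w') = D.cz v w + D.cz v w' :=
  congrArg Additive.ofMul (Subtype.ext (D.comm_add_right v w w'))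

theorem cz_zero_left (w : Fin m → F) : D.cz 0 w = 0 := by
  have h := D.cz_add_left 0 0 w
  rw [add_zero] at h
  simpa using h

theorem cz_zero_right (v : Fin m → F) : D.cz v 0 = 0 := by
  have h := D.cz_add_right v 0 0
  rw [add_zero] at h
  simpa using h

theorem cz_swap (v w : Fin m → F) : D.cz w v = -D.cz v w :=
  congrArg Additive.ofMul (Subtype.ext (commutatorElement_inv _ _).symm)

theorem cz_semi (v w : Fin m → F) (c : F) : D.cz (c • v) w = D.cz v (J.σ c • w) :=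
  congrArg Additive.ofMul (Subtype.ext (D.semi_all v w c))

theorem lam_eq (M : Matrix (Fin m) (Fin m) F) :
    D.lam M = ∑ p : Fin m × Fin m, D.cz (Pi.single p.1 (M p.1 p.2)) (Pi.single p.2 1) := rfl

theorem lam_add (M M' : Matrix (Fin m) (Fin m) F) : D.lam (M + M') = D.lam M + D.lam M' := by
  simp only [lam_eq, ← Finset.sum_add_distrib]
  refine Finset.sum_congr rfl fun p _ => ?_
  rw [Matrix.add_apply, Pi.single_add, D.cz_add_left]

theorem cz_single (i j : Fin m) (a b : F) :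
    D.cz (Pi.single i a) (Pi.single j b) = D.cz (Pi.single i (a * J.σ b)) (Pi.single j 1) := by
  have e1 : (Pi.single i (a * J.σ b) : Fin m → F) = J.σ b • Pi.single i a := by
    rw [← Pi.single_smul, smul_eq_mul, mul_comm]
  have e2 : (Pi.single j b : Fin m → F) = b • Pi.single j 1 := by
    rw [← Pi.single_smul, smul_eq_mul, mul_one]
  rw [e1, e2, D.cz_semi, J.inv2]

theorem cz_sum_left (f : Fin m → Fin m → F) (w : Fin m → F) : D.cz (∑ i, f i) w = ∑ i, D.cz (f i) w :=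
  map_sum (AddMonoidHom.mk' (fun v => D.cz v w) fun a b => D.cz_add_left a b w) f _

theorem cz_sum_right (f : Fin m → Fin m → F) (v : Fin m → F) : D.cz v (∑ i, f i) = ∑ i, D.cz v (f i) :=
  map_sum (AddMonoidHom.mk' (fun w => D.cz v w) fun a b => D.cz_add_right v a b) f _

theorem cz_lam (v w : Fin m → F) : D.cz v w = D.lam (col v * st J.σ (col w)) := by
  rw [lam_eq, Fintype.sum_prod_type]
  conv_lhs => rw [← Finset.univ_sum_single v, D.cz_sum_left]
  refine Finset.sum_congr rfl fun i _ => ?_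
  conv_lhs => rw [← Finset.univ_sum_single w, D.cz_sum_right]
  refine Finset.sum_congr rfl fun j _ => ?_
  rw [col_mul, D.cz_single]
  rfl

variable (hN : ∀ a : F, J.σ a = a → ∃ b, J.σ b * b = a)

include hN in
theorem cz_diag (i : Fin m) {a : F} (ha : J.σ a = a) : D.cz (Pi.single i a) (Pi.single i 1) = 0 := by
  obtain ⟨b, rfl⟩ := hN a ha
  rw [mul_comm, ← D.cz_single i i b b]
  exact congrArg Additive.ofMul (Subtype.ext (commutatorElement_self _))

include hN in
theorem lam_herm {M : Matrix (Fin m) (Fin m) F} (hM : st J.σ M = M) : D.lam M = 0 := by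
  classical
  rw [lam_eq]
  refine Finset.sum_ninvolution (fun p => (p.2, p.1)) (fun p => ?_) (fun p hp => ?_) (fun p => Finset.mem_univ _)
    (fun p => rfl)
  · obtain ⟨i, j⟩ := p
    show D.cz (Pi.single i (M i j)) (Pi.single j 1) + D.cz (Pi.single j (M j i)) (Pi.single i 1) = 0
    have e : M j i = J.σ (M i j) := (congrFun (congrFun hM j) i).symm
    rw [e, ← one_mul (J.σ (M i j)), ← D.cz_single j i, D.cz_swap]
    exact neg_add_cancel _
  · obtain ⟨i, j⟩ := p
    intro e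
    obtain rfl : j = i := congrArg Prod.fst e
    exact hp (D.cz_diag hN j (congrFun (congrFun hM j) j))

theorem lam_zero : D.lam 0 = 0 := by
  have h := D.lam_add 0 0
  rw [add_zero] at h
  simpa using h

theorem π_comm (v w : Fin m → F) : π ⁅D.X v, D.X w⁆ = uM (mrel (col v * st J.σ (col w))) := by
  rw [map_commutatorElement, D.πX, D.πX, commutatorElement_def, mul_inv_eq_iff_eq_mul, mul_inv_eq_iff_eq_mul,
    uM_mul]
  erw [uM_mul, uM_mul]
  refine uM_congr _ _ ?_ (by rw [zero_add, add_comm])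
  rw [Cfsg.Lib.Linear.SUDegree.st_mul, st_st J.inv2]
  simp only [sub_zero, Matrix.add_mul, Matrix.zero_mul, zero_add]
  abel

theorem π_lam (M : Matrix (Fin m) (Fin m) F) : π ((D.lam M).toMul : D.Z) = uM (mrel M) := by
  classical
  let f : Additive D.Z →+ Additive (Mg J m 1) := (π.comp D.Z.subtype).toAdditive
  suffices h : ∀ s : Finset (Fin m × Fin m),
      π ((∑ p ∈ s, D.cz (Pi.single p.1 (M p.1 p.2)) (Pi.single p.2 1)).toMul : D.Z) =
        uM (mrel (∑ p ∈ s, Matrix.single p.1 p.2 (M p.1 p.2))) by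
    rw [lam_eq, h]
    refine uM_congr _ _ ?_ rfl
    rw [Fintype.sum_prod_type]
    exact congrArg (fun T => st J.σ T - T) (Matrix.matrix_eq_sum_single M).symm
  intro s
  induction s using Finset.induction with
  | empty =>
    simp only [Finset.sum_empty, toMul_zero, OneMemClass.coe_one, map_one]
    exact mat_inj (by rw [mat_uM, mat_one]; simp [Cfsg.Lib.Linear.SUDegree.st_zero, uMat_zero])
  | insert a s ha ih =>
    rw [Finset.sum_insert ha, toMul_add, Subgroup.coe_mul, map_mul, ih]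
    show π ⁅D.X _, D.X _⁆ * _ = _
    rw [D.π_comm, uM_mul]
    refine uM_congr _ _ ?_ (by rw [add_zero])
    simp only [Finset.sum_insert ha, Matrix.zero_mul, sub_zero, Cfsg.Lib.Linear.SUDegree.st_add]
    rw [show col (Pi.single a.1 (M a.1 a.2)) * st J.σ (col (Pi.single a.2 (1 : F))) = Matrix.single a.1 a.2 (M a.1 a.2)
      by
        ext i j
        rw [col_mul, Matrix.of_apply, Matrix.single_apply]
        by_cases h1 : a.1 = i <;> by_cases h2 : a.2 = j <;> simp [h1, h2, Ne.symm]]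
    abel

theorem exists_lam {z : G} (hz : z ∈ D.Z) : ∃ M, ((D.lam M).toMul : D.Z) = z := by
  induction hz using Subgroup.closure_induction'' with
  | mem x hx =>
    obtain ⟨⟨v, w⟩, rfl⟩ := hx
    exact ⟨col v * st J.σ (col w), by rw [← D.cz_lam]; rfl⟩
  | one => exact ⟨0, by rw [D.lam_zero]; rfl⟩
  | inv_mem x hx =>
    obtain ⟨⟨v, w⟩, rfl⟩ := hx
    exact ⟨col w * st J.σ (col v), by rw [← D.cz_lam]; exact (D.comm_swap w v)⟩
  | mul x y _ _ ihx ihy =>
    obtain ⟨M, rfl⟩ := ihx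
    obtain ⟨M', rfl⟩ := ihy
    exact ⟨M + M', by rw [D.lam_add]; rfl⟩

theorem exists_nf {n : G} (hn : n ∈ D.N) : ∃ v, ∃ z ∈ D.Z, n = D.X v * z := by
  induction hn using Subgroup.closure_induction_left with
  | one => exact ⟨0, 1, one_mem _, by rw [D.X0, mul_one]⟩
  | mul_left a ha y _ ih =>
    obtain ⟨w, rfl⟩ := ha
    obtain ⟨v, z, hz, rfl⟩ := ih
    obtain ⟨z', hz', e⟩ := D.mul_X w v
    exact ⟨w + v, z' * z, mul_mem hz' hz, by rw [← mul_assoc, e, mul_assoc]⟩
  | inv_mul_cancel a ha y _ ih =>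
    obtain ⟨w, rfl⟩ := ha
    obtain ⟨v, z, hz, rfl⟩ := ih
    obtain ⟨z', hz', e⟩ := D.mul_X w (-w)
    rw [add_neg_cancel, D.X0, one_mul] at e
    have e' : (D.X w)⁻¹ = D.X (-w) * z'⁻¹ := by rw [inv_eq_iff_mul_eq_one, ← mul_assoc, e, mul_inv_cancel]
    obtain ⟨z₂, hz₂, e₂⟩ := D.mul_X (-w) v
    refine ⟨-w + v, z₂ * (z'⁻¹ * z), mul_mem hz₂ (mul_mem (inv_mem hz') hz), ?_⟩
    rw [e', mul_assoc, ← mul_assoc z'⁻¹, (D.Z_commute (inv_mem hz') (D.X_mem v)).eq, mul_assoc (D.X v),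
      ← mul_assoc, e₂, mul_assoc]

include hN in
/-- The radical maps injectively. -/
theorem N_inj {n : G} (hn : n ∈ D.N) (h : π n = 1) : n = 1 := by
  obtain ⟨v, z, hz, rfl⟩ := D.exists_nf hn
  obtain ⟨M, rfl⟩ := D.exists_lam hz
  rw [map_mul, D.πX, D.π_lam, uM_mul] at h
  obtain ⟨h1, h2⟩ := uM_eq_one h
  rw [add_zero] at h2
  have hv : v = 0 := funext fun i => congrFun (congrFun h2 i) 0
  subst hv
  rw [show col (0 : Fin m → F) = 0 from rfl] at h1
  simp only [Matrix.zero_mul, smul_zero, zero_add, sub_zero, sub_eq_zero] at h1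
  rw [D.lam_herm hN h1, D.X0, one_mul]
  rfl

/-- Every element of the radical is an image. -/
theorem N_surj {H : Matrix (Fin m) (Fin m) F} {X : Matrix (Fin m) (Fin 1) F}
    (h : H + st J.σ H + X * st J.σ X = 0) : ∃ n ∈ D.N, π n = uM h := by
  obtain ⟨v, rfl⟩ : ∃ v, col v = X := ⟨fun i => X i 0, by ext i j; rw [Subsingleton.elim j 0]; rfl⟩
  let E := H - D.κ • (col v * st J.σ (col v))
  have hE : st J.σ E = -E := by
    have := xrel (J := J) D.hκ v
    rw [eq_neg_iff_add_eq_zero, add_comm]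
    calc E + st J.σ E = (H + st J.σ H + col v * st J.σ (col v)) - (D.κ • (col v * st J.σ (col v)) +
          st J.σ (D.κ • (col v * st J.σ (col v))) + col v * st J.σ (col v)) := by
            simp only [E, Cfsg.Lib.Linear.SUDegree.st_sub]; abel
      _ = 0 := by rw [h, this, sub_zero]
  refine ⟨D.X v * ((D.lam (D.κ • E)).toMul : D.Z), mul_mem (D.X_mem v) (D.Z_le (SetLike.coe_mem _)), ?_⟩
  rw [map_mul, D.πX, D.π_lam, uM_mul]
  refine uM_congr _ _ ?_ (add_zero _)
  rw [Cfsg.Lib.Linear.SUDegree.st_zero, Matrix.mul_zero, sub_zero, Cfsg.Lib.Linear.SUDegree.st_smul, hE,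
    smul_neg, ← neg_add', ← add_smul, show J.σ D.κ + D.κ = -1 by linear_combination D.hκ, neg_smul, one_smul, neg_neg]
  exact add_sub_cancel _ _

end RadOne

end Cfsg.Lib.Linear.ShortPres.SUN
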