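import Cfsg.Agent.Lib.Linear.ShortPres.SUN.Par
import Cfsg.Agent.Lib.Linear.ShortPres.SUN.UOne
import Cfsg.Agent.Lib.Linear.ShortPres.SLN.Mat

/-!
# Embeddings, transitivity and the compatible subgroup of the model
-/

set_option autoImplicit false
set_option linter.unusedSectionVars false

namespace Cfsg.Lib.Linear.ShortPres.SUN

open Matrix Cfsg.Lib.Linear.SUDegree Cfsg.Lib.Linear.Herm

variable {F : Type*} [Field F] {J : Conj F} {m ε k : ℕ}

/-- The first index split off. -/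
def splitE (k : ℕ) : Fin k ⊕ Fin 1 ≃ Fin (k + 1) where
  toFun := Sum.elim Fin.succ (fun _ => 0)
  invFun := Fin.cases (Sum.inr 0) Sum.inl
  left_inv := by
    rintro (i | i)
    · simp
    · simp [Fin.fin_one_eq_zero i]
  right_inv := fun i => by induction i using Fin.cases <;> simp

/-- The special linear group on the last indices. -/
def ext0 : SpecialLinearGroup (Fin k) F →* SpecialLinearGroup (Fin (k + 1)) F :=
  (SLN.rex (splitE k)).toMonoidHom.comp (SLN.blk (Fin 1))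

theorem ext0_apply (S : SpecialLinearGroup (Fin k) F) :
    (∀ b : Fin (k + 1), (ext0 S).1 0 b = if 0 = b then 1 else 0) ∧
      (∀ a : Fin (k + 1), (ext0 S).1 a 0 = if a = 0 then 1 else 0) ∧
      ∀ a b : Fin k, (ext0 S).1 a.succ b.succ = S.1 a b := by
  refine ⟨fun b => ?_, fun a => ?_, fun a b => by simp [ext0, SLN.rex_coe, SLN.blk_coe, splitE]⟩
  · induction b using Fin.cases with
    | zero => simp [ext0, SLN.rex_coe, SLN.blk_coe, splitE]
    | succ b => simp [ext0, SLN.rex_coe, SLN.blk_coe, splitE, (Fin.succ_ne_zero b).symm]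
  · induction a using Fin.cases with
    | zero => simp [ext0, SLN.rex_coe, SLN.blk_coe, splitE]
    | succ a => simp [ext0, SLN.rex_coe, SLN.blk_coe, splitE, Fin.succ_ne_zero a]

theorem exists_ext0 (C : SpecialLinearGroup (Fin (k + 1)) F) (hr : ∀ b, C.1 0 b = if 0 = b then 1 else 0)
    (hc : ∀ a, C.1 a 0 = if a = 0 then 1 else 0) : ∃ S, ext0 S = C := by
  obtain ⟨T, rfl⟩ := (SLN.rex (splitE k)).surjective C
  simp only [SLN.rex_coe, Matrix.submatrix_apply] at hr hc
  have h21 : T.1.toBlocks₂₁ = 0 := by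
    ext a b
    obtain rfl := Subsingleton.elim a 0
    simpa [Matrix.toBlocks₂₁, splitE, (Fin.succ_ne_zero b).symm] using hr b.succ
  have h12 : T.1.toBlocks₁₂ = 0 := by
    ext a b
    obtain rfl := Subsingleton.elim b 0
    simpa [Matrix.toBlocks₁₂, splitE, Fin.succ_ne_zero a] using hc a.succ
  have h22 : T.1.toBlocks₂₂ = 1 := by
    ext a b
    obtain rfl := Subsingleton.elim a 0
    obtain rfl := Subsingleton.elim b 0
    simpa [Matrix.toBlocks₂₂, splitE] using hr 0
  have hT : T.1 = fromBlocks T.1.toBlocks₁₁ 0 0 1 := by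
    conv_lhs => rw [← fromBlocks_toBlocks T.1, h21, h12, h22]
  have hd : T.1.toBlocks₁₁.det = 1 := by
    have h := T.2
    rw [hT, det_fromBlocks_zero₂₁, det_one, mul_one] at h
    exact h
  exact ⟨⟨_, hd⟩, congrArg (SLN.rex (splitE k)) (Subtype.ext hT.symm)⟩

theorem ext0_mulVec (S : SpecialLinearGroup (Fin k) F) (v : Fin (k + 1) → F) :
    ((ext0 S).1 *ᵥ v) 0 = v 0 ∧ ∀ i, ((ext0 S).1 *ᵥ v) i.succ = (S.1 *ᵥ fun j => v j.succ) i := by
  obtain ⟨h1, h2, h3⟩ := ext0_apply S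
  refine ⟨by simp [Matrix.mulVec, dotProduct, h1], fun i => ?_⟩
  simp [Matrix.mulVec, dotProduct, Fin.sum_univ_succ, h2, h3, Fin.succ_ne_zero]

/-- Vectors with no component at the first index. -/
theorem exists_move_tail (hk : 2 ≤ k) {v w : Fin (k + 1) → F} (hv : v ≠ 0) (hw : w ≠ 0) (hv0 : v 0 = 0)
    (hw0 : w 0 = 0) : ∃ S : SpecialLinearGroup (Fin k) F, (ext0 S).1 *ᵥ v = w := by
  haveI : NeZero k := ⟨by omega⟩
  have aux : ∀ u : Fin (k + 1) → F, u ≠ 0 → u 0 = 0 → (fun j => u (Fin.succ j)) ≠ 0 := fun u hu hu0 e =>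
    hu (funext fun i => by
      induction i using Fin.cases with
      | zero => exact hu0
      | succ i => exact congrFun e i)
  obtain ⟨S, hS⟩ := exists_move hk (aux v hv hv0)
  obtain ⟨T, hT⟩ := exists_move hk (aux w hw hw0)
  refine ⟨T⁻¹ * S, funext fun i => ?_⟩
  obtain ⟨e0, es⟩ := ext0_mulVec (T⁻¹ * S) v
  induction i using Fin.cases with
  | zero => rw [e0, hv0, hw0]
  | succ i =>
    rw [es, Matrix.SpecialLinearGroup.coe_mul, ← Matrix.mulVec_mulVec, hS, ← hT, Matrix.mulVec_mulVec,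
      ← Matrix.SpecialLinearGroup.coe_mul, inv_mul_cancel, Matrix.SpecialLinearGroup.coe_one, Matrix.one_mulVec]

/-- Independent pairs form one orbit. -/
theorem exists_move_pair (hk : 2 ≤ k) {v w : Fin (k + 1) → F} (h : Ind v w) :
    ∃ C : SpecialLinearGroup (Fin (k + 1)) F, C.1 *ᵥ Pi.single 0 1 = v ∧ C.1 *ᵥ Pi.single 1 1 = w := by
  haveI : NeZero k := ⟨by omega⟩
  obtain ⟨C₁, h₁⟩ := exists_move (by omega : 2 ≤ k + 1) h.ne_left
  set w₁ := C₁.1 *ᵥ w with hw₁
  have htail : ∃ j : Fin k, w₁ j.succ ≠ 0 := by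
    by_contra hz
    push Not at hz
    have e : w₁ = w₁ 0 • Pi.single 0 1 := funext fun i => by
      induction i using Fin.cases with
      | zero => simp
      | succ i => simp [hz i, Fin.succ_ne_zero]
    have h2 : C₁.1 *ᵥ (w₁ 0 • v + (-1 : F) • w) = 0 := by
      rw [Matrix.mulVec_add, Matrix.mulVec_smul, Matrix.mulVec_smul, h₁, ← hw₁, ← e]
      simp
    have h3 : w₁ 0 • v + (-1 : F) • w = 0 := by
      have := congrArg (fun x => (C₁⁻¹).1 *ᵥ x) h2
      simpa [Matrix.mulVec_mulVec, ← Matrix.SpecialLinearGroup.coe_mul, -Matrix.SpecialLinearGroup.coe_inv] using this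
    exact one_ne_zero (neg_eq_zero.1 (h _ _ h3).2)
  obtain ⟨j, hj⟩ := htail
  set w₂ : Fin (k + 1) → F := Function.update w₁ 0 0 with hw₂
  obtain ⟨S, hS⟩ := exists_move_tail hk (v := w₂) (w := Pi.single 1 1)
    (fun e => hj (by simpa [hw₂, Fin.succ_ne_zero] using congrFun e j.succ))
    (by simp) (by simp [hw₂]) (by simp)
  have h01 : (0 : Fin (k + 1)) ≠ 1 := by
    intro e; simp at e
  let C := tv h01 (-(w₁ 0)) * ext0 S * C₁
  refine ⟨C⁻¹, ?_, ?_⟩
  all_goals
    have key : ∀ x y : Fin (k + 1) → F, C.1 *ᵥ x = y → (C⁻¹).1 *ᵥ y = x := fun x y e => by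
      rw [← e, Matrix.mulVec_mulVec, ← Matrix.SpecialLinearGroup.coe_mul, inv_mul_cancel]; simp
    refine key _ _ ?_
    simp only [C, Matrix.SpecialLinearGroup.coe_mul, ← Matrix.mulVec_mulVec]
  · rw [h₁]
    funext a
    obtain ⟨e0, es⟩ := ext0_mulVec S (Pi.single (0 : Fin (k + 1)) (1 : F))
    have hS0 : (ext0 S).1 *ᵥ Pi.single (0 : Fin (k + 1)) (1 : F) = Pi.single 0 1 := funext fun a => by
      rw [Matrix.mulVec_single_one, Matrix.col_apply, (ext0_apply S).2.1, Pi.single_apply]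
    rw [hS0, tv_mul_apply]
    simp [Pi.single_eq_of_ne h01.symm]
  · rw [← hw₁]
    funext a
    have hS1 : (ext0 S).1 *ᵥ w₁ = w₁ 0 • Pi.single 0 1 + Pi.single 1 1 := by
      have e : w₁ = w₁ 0 • Pi.single 0 1 + w₂ := funext fun i => by
        rcases eq_or_ne i 0 with rfl | hi <;> simp [hw₂, *]
      conv_lhs => rw [e]
      rw [Matrix.mulVec_add, Matrix.mulVec_smul, hS]
      congr 2
      funext a
      rw [Matrix.mulVec_single_one, Matrix.col_apply, (ext0_apply S).2.1, Pi.single_apply]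
    rw [hS1, tv_mul_apply]
    rcases eq_or_ne a 0 with rfl | ha
    · simp [h01, h01.symm]
    · simp [ha]

theorem prod_lower (s : Finset (Fin (k + 1))) (hs : (0 : Fin (k + 1)) ∉ s) (c : Fin (k + 1) → F)
    (T : Subgroup (SpecialLinearGroup (Fin (k + 1)) F))
    (hT : ∀ (j : Fin (k + 1)) (hj : j ≠ 0) (x : F), tv hj x ∈ T) :
    ∃ L ∈ T, L.1 = 1 + ∑ j ∈ s, Matrix.single j 0 (c j) := by
  classical
  induction s using Finset.induction with
  | empty => exact ⟨1, one_mem _, by simp⟩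
  | insert a s ha ih =>
    rw [Finset.mem_insert, not_or] at hs
    obtain ⟨L, hL, e⟩ := ih hs.2
    refine ⟨tv (Ne.symm hs.1) (c a) * L, mul_mem (hT _ _ _) hL, ?_⟩
    rw [Matrix.SpecialLinearGroup.coe_mul, e, tv_coe, Finset.sum_insert ha, Matrix.add_mul, Matrix.one_mul,
      Matrix.mul_add, Matrix.mul_one, Matrix.mul_sum,
      Finset.sum_eq_zero (fun j hj => Matrix.single_mul_single_of_ne (c a) a 0 j
        (fun e => hs.2 (e ▸ hj)) (c j)),
      add_zero]
    abel

/-- Matrices with trivial first row. -/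
theorem mem_of_row (C : SpecialLinearGroup (Fin (k + 1)) F) (hr : ∀ b, C.1 0 b = if 0 = b then 1 else 0)
    (T : Subgroup (SpecialLinearGroup (Fin (k + 1)) F))
    (hT : ∀ (j : Fin (k + 1)) (hj : j ≠ 0) (x : F), tv hj x ∈ T) (hS : ∀ S, ext0 S ∈ T) : C ∈ T := by
  classical
  obtain ⟨L, hL, e⟩ := prod_lower (Finset.univ.erase 0) (Finset.notMem_erase _ _) (fun j => -C.1 j 0) T hT
  have hLr : ∀ a b, (L * C).1 a b = C.1 a b + (if a = 0 then 0 else -C.1 a 0 * C.1 0 b) := by
    intro a b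
    rw [Matrix.SpecialLinearGroup.coe_mul, e, Matrix.add_mul, Matrix.add_apply, Matrix.one_mul, Matrix.sum_mul,
      Matrix.sum_apply]
    congr 1
    split_ifs with ha
    · subst ha
      exact Finset.sum_eq_zero fun j hj => Matrix.single_mul_apply_of_ne _ _ _ _ _ (Finset.mem_erase.1 hj).1.symm _
    · rw [Finset.sum_eq_single a (fun j _ hj => Matrix.single_mul_apply_of_ne _ _ _ _ _ (Ne.symm hj) _)
        (fun h => absurd (Finset.mem_erase.2 ⟨ha, Finset.mem_univ _⟩) h), Matrix.single_mul_apply_same]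
  obtain ⟨S, hS'⟩ := exists_ext0 (L * C) (fun b => by rw [hLr, if_pos rfl, add_zero, hr]) (fun a => by
    rw [hLr, hr, if_pos rfl]
    by_cases ha : a = 0
    · subst ha; simp [hr]
    · simp [ha])
  have : C = L⁻¹ * ext0 S := by rw [hS', inv_mul_cancel_left]
  rw [this]
  exact mul_mem (inv_mem hL) (hS S)

variable (J m ε) in
/-- The part of the parabolic subgroup conjugated into itself by the first reflection, with trivial corner. -/
def Qm [NeZero m] : Subgroup (Mg J m ε) where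
  carrier := {g | ∃ (H : Matrix (Fin m) (Fin m) F) (X : Matrix (Fin m) (Fin ε) F)
    (hu : H + st J.σ H + X * st J.σ X = 0) (C : SpecialLinearGroup (Fin m) F),
    g = uM hu * slM J m ε C ∧ H 0 0 = 0 ∧ (∀ e, X 0 e = 0) ∧ ∀ b, C.1 0 b = if 0 = b then 1 else 0}
  one_mem' := by
    have h0 : (0 : Matrix (Fin m) (Fin m) F) + st J.σ (0 : Matrix (Fin m) (Fin m) F) +
        (0 : Matrix (Fin m) (Fin ε) F) * st J.σ (0 : Matrix (Fin m) (Fin ε) F) = 0 := by
      rw [Cfsg.Lib.Linear.SUDegree.st_zero, Matrix.zero_mul]; simp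
    refine ⟨0, 0, h0, 1, ?_, rfl, fun _ => rfl, fun b => by simp [Matrix.one_apply]⟩
    rw [map_one, mul_one]
    exact mat_inj (uMat_zero (σ := J.σ) (m := m) (ε := ε)).symm
  mul_mem' := by
    rintro _ _ ⟨H, X, hu, C, rfl, hH, hX, hC⟩ ⟨H', X', hu', C', rfl, hH', hX', hC'⟩
    have e1 := lM_uM (levOK_sl (J := J) (ε := ε) C) hu'
    have hc := Cfsg.Lib.UnitMult.Rel.conj J.inv2 hu' C.1 (levOK_sl (J := J) (ε := ε) C).norm
    refine ⟨_, _, Cfsg.Lib.UnitMult.Rel.mul J.inv2 hu hc, C * C', ?_, ?_, ?_, ?_⟩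
    · rw [map_mul, ← uM_mul hu hc, ← mul_assoc (uM hu * _)]
      show uM hu * lM (levOK_sl C) * uM hu' * _ = _
      rw [mul_assoc (uM hu), e1, ← mul_assoc]
      simp only [mul_assoc]
      rfl
    · simp only [Matrix.sub_apply, Matrix.add_apply, Matrix.mul_apply, hH, hX, zero_add, zero_mul,
        Finset.sum_const_zero, sub_zero]
      simp [hC, st, hH']
    · intro e
      simp [hX, Matrix.mul_apply, hC, hX']
    · intro b
      simp [Matrix.SpecialLinearGroup.coe_mul, Matrix.mul_apply, hC, hC']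
  inv_mem' := by
    rintro _ ⟨H, X, hu, C, rfl, hH, hX, hC⟩
    obtain ⟨hu', e'⟩ := uM_inv hu
    have hCi : ∀ b, (C⁻¹).1 0 b = if 0 = b then 1 else 0 := fun b => by
      have h : (C.1 * (C⁻¹).1) 0 b = if 0 = b then 1 else 0 := by
        rw [← Matrix.SpecialLinearGroup.coe_mul, mul_inv_cancel, Matrix.SpecialLinearGroup.coe_one, Matrix.one_apply]
      rw [Matrix.mul_apply] at h
      simpa [hC] using h
    have e1 := lM_uM (levOK_sl (J := J) (ε := ε) C⁻¹) hu'
    refine ⟨_, _, Cfsg.Lib.UnitMult.Rel.conj J.inv2 hu' (C⁻¹).1 (levOK_sl (J := J) (ε := ε) C⁻¹).norm, C⁻¹, ?_, ?_,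
      ?_, hCi⟩
    · rw [_root_.mul_inv_rev, ← map_inv, e']
      exact e1
    · simp [Matrix.mul_apply, hCi, st, hH, hX, -Matrix.SpecialLinearGroup.coe_inv]
    · intro e
      simp [hX, Matrix.mul_apply, hCi, -Matrix.SpecialLinearGroup.coe_inv]

end Cfsg.Lib.Linear.ShortPres.SUN
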