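import Cfsg.Agent.Lib.Linear.SUDegree.Model

/-!
# The split model of the special unitary group as a group, and generators of it
-/

set_option autoImplicit false
set_option linter.unusedSectionVars false

namespace Cfsg.Lib.Linear.ShortPres.SUN

open Matrix Cfsg.Lib.Linear.SUDegree Cfsg.Lib.Linear.Herm

local notation "gm" => Cfsg.Lib.Linear.SUDegree.gram

/-- A field with an involution. -/
structure Conj (F : Type*) [Field F] where
  σ : F →+* F
  inv2 : ∀ a, σ (σ a) = a
  η : F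
  η_ne : η ≠ 0
  η_skew : σ η = -η

variable {F : Type*} [Field F] (J : Conj F) (m ε : ℕ)

theorem modelSub_inv {A : Matrix (Idx m ε) (Idx m ε) F} (hA : A ∈ modelSub J.σ m ε) :
    gm F m ε * st J.σ A * gm F m ε ∈ modelSub J.σ m ε ∧ gm F m ε * st J.σ A * gm F m ε * A = 1 ∧
      A * (gm F m ε * st J.σ A * gm F m ε) = 1 := by
  have h1 : gm F m ε * st J.σ A * gm F m ε * A = 1 := by
    rw [mul_assoc (gm F m ε * st J.σ A), mul_assoc (gm F m ε), ← mul_assoc (st J.σ A), hA.1, gram_sq]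
  have h2 : A * (gm F m ε * st J.σ A * gm F m ε) = 1 := mul_eq_one_comm.mp h1
  refine ⟨⟨?_, ?_⟩, h1, h2⟩
  · have h3 : st J.σ (gm F m ε * st J.σ A * gm F m ε) = gm F m ε * A * gm F m ε := by
      rw [Cfsg.Lib.Linear.SUDegree.st_mul, Cfsg.Lib.Linear.SUDegree.st_mul, st_gram, st_st J.inv2, mul_assoc]
    rw [h3]
    calc gm F m ε * A * gm F m ε * gm F m ε * (gm F m ε * st J.σ A * gm F m ε)
        = gm F m ε * (A * (gm F m ε * gm F m ε)) * (gm F m ε * st J.σ A * gm F m ε) := by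
          simp only [mul_assoc]
      _ = gm F m ε := by rw [gram_sq, mul_one, mul_assoc, h2, mul_one]
  · have h := congrArg Matrix.det h1
    rwa [det_mul, hA.2, mul_one, det_one] at h

/-- The model group. -/
def Mg : Subgroup (Matrix (Idx m ε) (Idx m ε) F)ˣ := (modelSub J.σ m ε).units

variable {J m ε}

/-- Elements of the model group from matrices. -/
def mkM (A : Matrix (Idx m ε) (Idx m ε) F) (h : A ∈ modelSub J.σ m ε) : Mg J m ε :=
  ⟨⟨A, gm F m ε * st J.σ A * gm F m ε, (modelSub_inv J m ε h).2.2, (modelSub_inv J m ε h).2.1⟩,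
    h, (modelSub_inv J m ε h).1⟩

/-- The matrix of an element. -/
def mat (g : Mg J m ε) : Matrix (Idx m ε) (Idx m ε) F := ((g : (Matrix (Idx m ε) (Idx m ε) F)ˣ) : Matrix _ _ F)

@[simp] theorem mat_mkM (A : Matrix (Idx m ε) (Idx m ε) F) (h : A ∈ modelSub J.σ m ε) : mat (mkM A h) = A := rfl

theorem mat_mem (g : Mg J m ε) : mat g ∈ modelSub J.σ m ε := g.2.1

theorem mat_mul (g h : Mg J m ε) : mat (g * h) = mat g * mat h := rfl

@[simp] theorem mat_one : mat (1 : Mg J m ε) = 1 := rfl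

theorem mat_inj {g h : Mg J m ε} (e : mat g = mat h) : g = h := Subtype.ext (Units.ext e)

theorem form_apply (g : Mg J m ε) : st J.σ (mat g) * gm F m ε * mat g = gm F m ε := (mat_mem g).1

/-- The lower block. -/
def kf (g : Mg J m ε) : Matrix (Fin m) (Fin m) F :=
  Matrix.of fun i j => mat g (Sum.inl (Sum.inr i)) (Sum.inl (Sum.inl j))

/-- A radical element. -/
def uM {H : Matrix (Fin m) (Fin m) F} {X : Matrix (Fin m) (Fin ε) F}
    (h : H + st J.σ H + X * st J.σ X = 0) : Mg J m ε :=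
  mkM (uMat J.σ H X) (uMat_mem J.inv2 h)

@[simp] theorem mat_uM {H : Matrix (Fin m) (Fin m) F} {X : Matrix (Fin m) (Fin ε) F}
    (h : H + st J.σ H + X * st J.σ X = 0) : mat (uM h : Mg J m ε) = uMat J.σ H X := rfl

/-- The conditions on a Levi element. -/
structure LevOK (J : Conj F) (ε : ℕ) (C : GL (Fin m) F) (μ : F) : Prop where
  norm : J.σ μ * μ = 1
  det : C.1.det * J.σ (C⁻¹).1.det * μ ^ ε = 1

/-- A Levi element. -/
def lM {C : GL (Fin m) F} {μ : F} (h : LevOK J ε C μ) : Mg J m ε :=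
  mkM (lMat J.σ C.1 (C⁻¹).1 μ) (lMat_mem J.inv2 (by rw [← Units.val_mul, mul_inv_cancel, Units.val_one]) h.norm h.det)

@[simp] theorem mat_lM {C : GL (Fin m) F} {μ : F} (h : LevOK J ε C μ) :
    mat (lM h) = lMat J.σ C.1 (C⁻¹).1 μ := rfl

theorem levOK_sl (C : SpecialLinearGroup (Fin m) F) : LevOK J ε (SpecialLinearGroup.toGL C) (1 : F) := by
  refine ⟨by simp, ?_⟩
  rw [← map_inv]
  show C.1.det * J.σ (C⁻¹).1.det * 1 ^ ε = 1
  simp [Matrix.det_adjugate, C.2]

variable (J m ε)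

/-- The special linear Levi subgroup. -/
def slM : SpecialLinearGroup (Fin m) F →* Mg J m ε where
  toFun C := lM (levOK_sl C)
  map_one' := mat_inj (by
    rw [mat_lM, mat_one, map_one, inv_one]
    simp [lMat, Cfsg.Lib.Linear.SUDegree.st_one, fromBlocks_one])
  map_mul' a b := mat_inj (by
    rw [mat_mul, mat_lM, mat_lM, mat_lM, map_mul, _root_.mul_inv_rev]
    simp [lMat, fromBlocks_multiply, Cfsg.Lib.Linear.SUDegree.st_mul])

variable {J m ε}

theorem slM_apply (C : SpecialLinearGroup (Fin m) F) :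
    mat (slM J m ε C) = lMat J.σ C.1 (C⁻¹).1 1 := by
  show lMat J.σ (SpecialLinearGroup.toGL C).1 ((SpecialLinearGroup.toGL C)⁻¹).1 1 = _
  rw [← map_inv]
  rfl

/-- A transvection in the special linear group. -/
def tv {i j : Fin m} (h : i ≠ j) (c : F) : SpecialLinearGroup (Fin m) F :=
  Matrix.SpecialLinearGroup.transvection h c

theorem tv_coe {i j : Fin m} (h : i ≠ j) (c : F) : (tv h c).1 = 1 + Matrix.single i j c := rfl

/-- The matrix unit at one index. -/
abbrev eu (j : Fin m) : Matrix (Fin m) (Fin m) F := Matrix.single j j 1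

theorem eu_skew (J : Conj F) (j : Fin m) (c : F) (hc : J.σ c = -c) :
    Matrix.single j j c + st J.σ (Matrix.single j j c) + (0 : Matrix (Fin m) (Fin ε) F) * st J.σ (0 : Matrix (Fin m) (Fin ε) F) = 0 := by
  rw [st_single, hc, ← Matrix.single_add, add_neg_cancel, Matrix.single_zero, Matrix.zero_mul, add_zero]

theorem η_inv_skew (J : Conj F) : J.σ (-J.η⁻¹) = -(-J.η⁻¹) := by
  rw [map_neg, map_inv₀, J.η_skew, inv_neg, neg_neg]

variable (J ε)

/-- The reflection at one index. -/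
def tM (j : Fin m) : Mg J m ε :=
  uM (eu_skew (ε := ε) J j J.η J.η_skew) *
    mkM (loMat m ε (Matrix.single j j (-J.η⁻¹))) (loMat_mem (by
      rw [st_single, η_inv_skew, ← Matrix.single_add, add_neg_cancel, Matrix.single_zero])) *
    uM (eu_skew (ε := ε) J j J.η J.η_skew)

variable {J ε}

theorem mat_tM (j : Fin m) : mat (tM J ε j) =
    fromBlocks (fromBlocks (1 - eu j) (J.η • eu j) ((-J.η⁻¹) • eu j) (1 - eu j)) 0 0 1 := by
  have hne := J.η_ne
  rw [tM, mat_mul, mat_mul, mat_uM, mat_mkM]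
  simp [uMat, loMat, fromBlocks_multiply, Cfsg.Lib.Linear.SUDegree.st_zero, Matrix.add_mul, Matrix.mul_add,
    Matrix.single_mul_single_same, Matrix.smul_single, mul_inv_cancel₀ hne, inv_mul_cancel₀ hne, Matrix.single_neg,
    sub_eq_add_neg, add_assoc, add_left_comm, add_comm]
  rw [← Matrix.single_add, add_neg_cancel, Matrix.single_zero]

/-- The entries of a radical element. -/
theorem uMat_ext {H H' : Matrix (Fin m) (Fin m) F} {X X' : Matrix (Fin m) (Fin ε) F}
    (h : uMat J.σ H X = uMat J.σ H' X') : H = H' ∧ X = X' := by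
  constructor
  · ext i j
    simpa [uMat] using congrFun (congrFun h (Sum.inl (Sum.inl i))) (Sum.inl (Sum.inr j))
  · ext i e
    simpa [uMat] using congrFun (congrFun h (Sum.inl (Sum.inl i))) (Sum.inr e)

/-- An element with trivial lower block lies in the parabolic subgroup. -/
theorem exists_par (hε : ε ≤ 1) {g : Mg J m ε} (hg : kf g = 0) :
    ∃ (C : GL (Fin m) F) (μ : F) (hC : LevOK J ε C μ) (H : Matrix (Fin m) (Fin m) F)
      (X : Matrix (Fin m) (Fin ε) F) (hu : H + st J.σ H + X * st J.σ X = 0), g = uM hu * lM hC := by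
  set G := mat g with hG
  let bA : Matrix (Fin m) (Fin m) F := Matrix.of fun i j => G (Sum.inl (Sum.inl i)) (Sum.inl (Sum.inl j))
  let bB : Matrix (Fin m) (Fin m) F := Matrix.of fun i j => G (Sum.inl (Sum.inl i)) (Sum.inl (Sum.inr j))
  let bD : Matrix (Fin m) (Fin m) F := Matrix.of fun i j => G (Sum.inl (Sum.inr i)) (Sum.inl (Sum.inr j))
  let bP : Matrix (Fin m) (Fin ε) F := Matrix.of fun i e => G (Sum.inl (Sum.inl i)) (Sum.inr e)
  let bQ : Matrix (Fin m) (Fin ε) F := Matrix.of fun i e => G (Sum.inl (Sum.inr i)) (Sum.inr e)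
  let bR : Matrix (Fin ε) (Fin m) F := Matrix.of fun e j => G (Sum.inr e) (Sum.inl (Sum.inl j))
  let bS : Matrix (Fin ε) (Fin m) F := Matrix.of fun e j => G (Sum.inr e) (Sum.inl (Sum.inr j))
  let bW : Matrix (Fin ε) (Fin ε) F := Matrix.of fun e e' => G (Sum.inr e) (Sum.inr e')
  have hshape : G = fromBlocks (fromBlocks bA bB 0 bD) (fromRows bP bQ) (fromCols bR bS) bW := by
    have hz : ∀ i j, G (Sum.inl (Sum.inr i)) (Sum.inl (Sum.inl j)) = 0 := fun i j => congrFun (congrFun hg i) j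
    ext a b
    rcases a with (a | a) | a <;> rcases b with (b | b) | b <;> simp [bA, bB, bD, bP, bQ, bR, bS, bW, hz]
  have hf := form_apply g
  rw [← hG, hshape, Cfsg.Lib.Linear.SUDegree.gram] at hf
  simp only [st_fromBlocks, st_fromRows, st_fromCols, Cfsg.Lib.Linear.SUDegree.st_zero, fromBlocks_multiply,
    fromRows_mul_fromCols, fromBlocks_mul_fromRows, fromCols_mul_fromBlocks, fromCols_mul_fromRows, Matrix.mul_zero,
    Matrix.zero_mul, Matrix.mul_one, Matrix.one_mul, add_zero, zero_add, fromBlocks_inj, fromBlocks_add] at hf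
  obtain ⟨⟨hee, hef, -, hff⟩, hew, -, hww⟩ := hf
  have hRz : bR = 0 := by
    ext e j
    have h := congrFun (congrFun hee j) j
    rcases Nat.le_one_iff_eq_zero_or_eq_one.1 hε with rfl | rfl
    · exact e.elim0
    · simp [Matrix.mul_apply, st] at h
      obtain rfl : e = 0 := Subsingleton.elim _ _
      simpa using h
  rw [hRz] at hef hew
  simp only [Cfsg.Lib.Linear.SUDegree.st_zero, Matrix.zero_mul, add_zero] at hef
  have hunit : IsUnit bA.det := IsUnit.of_mul_eq_one (J.σ bD.det) (by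
    have h := congrArg J.σ (congrArg Matrix.det hef)
    rw [det_mul, det_st, map_mul, J.inv2, det_one, map_one] at h
    exact h)
  let C : GL (Fin m) F := Matrix.nonsingInvUnit bA hunit
  have hCA : C.1 = bA := rfl
  have hCC : C.1 * (C⁻¹).1 = 1 := by rw [← Units.val_mul, mul_inv_cancel, Units.val_one]
  have hC'C : (C⁻¹).1 * C.1 = 1 := by rw [← Units.val_mul, inv_mul_cancel, Units.val_one]
  have hD : bD = st J.σ (C⁻¹).1 := by
    calc bD = (st J.σ (C⁻¹).1 * st J.σ bA) * bD := by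
          rw [← Cfsg.Lib.Linear.SUDegree.st_mul, ← hCA, hCC, Cfsg.Lib.Linear.SUDegree.st_one, Matrix.one_mul]
      _ = _ := by rw [Matrix.mul_assoc, hef, Matrix.mul_one]
  have hQ : bQ = 0 := by
    have h0 : st J.σ bA * bQ = 0 := by
      ext i e
      have h := congrFun (congrFun hew (Sum.inl i)) e
      simpa [Cfsg.Lib.Linear.SUDegree.st_zero] using h
    calc bQ = (st J.σ (C⁻¹).1 * st J.σ bA) * bQ := by
          rw [← Cfsg.Lib.Linear.SUDegree.st_mul, ← hCA, hCC, Cfsg.Lib.Linear.SUDegree.st_one, Matrix.one_mul]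
      _ = _ := by rw [Matrix.mul_assoc, h0, Matrix.mul_zero]
  have hWW : st J.σ bW * bW = 1 := by simpa [hQ, Cfsg.Lib.Linear.SUDegree.st_zero] using hww
  obtain ⟨μ, hWμ, hμ⟩ : ∃ μ, bW = μ • (1 : Matrix (Fin ε) (Fin ε) F) ∧ J.σ μ * μ = 1 := by
    rcases Nat.le_one_iff_eq_zero_or_eq_one.1 hε with rfl | rfl
    · exact ⟨1, by ext i; exact i.elim0, by simp⟩
    · refine ⟨bW 0 0, by ext i j; obtain rfl : i = 0 := Subsingleton.elim _ _; obtain rfl : j = 0 := Subsingleton.elim _ _; simp, ?_⟩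
      simpa [Matrix.mul_apply, st] using congrFun (congrFun hWW 0) 0
  set C' : Matrix (Fin m) (Fin m) F := (C⁻¹).1 with hC'
  have hCCst : st J.σ C' * st J.σ C.1 = 1 := by
    rw [← Cfsg.Lib.Linear.SUDegree.st_mul, hCC, Cfsg.Lib.Linear.SUDegree.st_one]
  have hCCst' : st J.σ C.1 * st J.σ C' = 1 := by
    rw [← Cfsg.Lib.Linear.SUDegree.st_mul, hC'C, Cfsg.Lib.Linear.SUDegree.st_one]
  have hμ' : J.σ μ * J.σ (J.σ μ) = 1 := by rw [J.inv2, hμ]
  let X : Matrix (Fin m) (Fin ε) F := J.σ μ • bP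
  let H : Matrix (Fin m) (Fin m) F := bB * st J.σ C.1
  have hS : bS = -(st J.σ X * st J.σ C') := by
    have h1 : C' * bP + μ • st J.σ bS = 0 := by
      ext i e
      have h := congrFun (congrFun hew (Sum.inr i)) e
      simpa [hQ, hD, st_st J.inv2, hWμ, Cfsg.Lib.Linear.SUDegree.st_zero] using h
    have h2 : st J.σ bS = -(J.σ μ • (C' * bP)) := by
      have h3 := congrArg (fun T => J.σ μ • T) h1
      simp only [smul_add, smul_smul, hμ, one_smul, smul_zero] at h3
      exact eq_neg_of_add_eq_zero_right h3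
    have h4 := congrArg (st J.σ) h2
    rw [st_st J.inv2, Cfsg.Lib.Linear.SUDegree.st_neg, Cfsg.Lib.Linear.SUDegree.st_smul,
      Cfsg.Lib.Linear.SUDegree.st_mul] at h4
    rw [h4]
    simp [X, Cfsg.Lib.Linear.SUDegree.st_smul, Matrix.smul_mul]
  have hu : H + st J.σ H + X * st J.σ X = 0 := by
    have h1 : C' * bB + st J.σ bB * st J.σ C' + C' * (X * st J.σ X) * st J.σ C' = 0 := by
      have h := hff
      rw [hD, st_st J.inv2, hS, Cfsg.Lib.Linear.SUDegree.st_neg, Cfsg.Lib.Linear.SUDegree.st_mul,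
        st_st J.inv2, st_st J.inv2, Matrix.neg_mul, Matrix.mul_neg, neg_neg, Matrix.mul_assoc] at h
      rw [← h]
      simp [Matrix.mul_assoc]
    have h2 : C.1 * (C' * bB + st J.σ bB * st J.σ C' + C' * (X * st J.σ X) * st J.σ C') * st J.σ C.1 = 0 := by
      rw [h1]; simp
    rw [← h2]
    simp only [H, Cfsg.Lib.Linear.SUDegree.st_mul, st_st J.inv2, Matrix.mul_add, Matrix.add_mul]
    simp only [← Matrix.mul_assoc, hCC, Matrix.one_mul]
    simp only [Matrix.mul_assoc, hCCst, Matrix.mul_one]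
  have hmat : G = uMat J.σ H X * lMat J.σ C.1 C' μ := by
    rw [hshape, hRz, hQ, hS, hD, hWμ]
    simp [uMat, lMat, X, H, fromBlocks_multiply, fromRows_mul_fromCols, fromBlocks_mul_fromRows,
      fromCols_mul_fromBlocks, fromCols_mul_fromRows, Matrix.mul_assoc, hCCst', smul_smul, mul_comm μ, hμ, ← hCA]
    ext (i | i) e <;> simp [← mul_assoc, mul_comm μ, hμ]
    linear_combination -bP i e * hμ
  refine ⟨C, μ, ⟨hμ, ?_⟩, H, X, hu, mat_inj hmat⟩
  have h := (mat_mem g).2
  rw [← hG, hmat, det_mul, (uMat_mem J.inv2 hu).2, one_mul, lMat, det_fromBlocks_zero₁₂, det_fromBlocks_zero₁₂,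
    det_st, det_smul, det_one, mul_one, Fintype.card_fin] at h
  exact h

theorem tv_mul_apply {i j : Fin m} (h : i ≠ j) (c : F) (v : Fin m → F) (a : Fin m) :
    ((tv h c).1 *ᵥ v) a = v a + (if a = i then c * v j else 0) := by
  rw [tv_coe, Matrix.add_mulVec, Pi.add_apply, Matrix.one_mulVec]
  congr 1
  rcases eq_or_ne a i with rfl | ha
  · simp [Matrix.mulVec, dotProduct, Matrix.single_apply]
  · simp [Matrix.mulVec, dotProduct, Matrix.single_apply, Ne.symm ha, ha]

/-- The special linear group moves every non-zero vector to the first unit vector. -/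
theorem exists_move [NeZero m] (hm : 2 ≤ m) {v : Fin m → F} (hv : v ≠ 0) :
    ∃ C : SpecialLinearGroup (Fin m) F, C.1 *ᵥ v = Pi.single 0 1 := by
  classical
  obtain ⟨j, hj⟩ := Function.ne_iff.1 hv
  obtain ⟨C₁, k, hk0, hk⟩ : ∃ (C₁ : SpecialLinearGroup (Fin m) F) (k : Fin m), k ≠ 0 ∧ (C₁.1 *ᵥ v) k ≠ 0 := by
    obtain ⟨k, hk0⟩ : ∃ k : Fin m, k ≠ 0 := ⟨⟨1, hm⟩, by simp [Fin.ext_iff]⟩
    by_cases hk : v k = 0
    · rcases eq_or_ne j 0 with rfl | hj0
      · refine ⟨tv hk0 1, k, hk0, ?_⟩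
        rw [tv_mul_apply, if_pos rfl, hk, one_mul, zero_add]
        exact hj
      · exact ⟨1, j, hj0, by simpa using hj⟩
    · exact ⟨1, k, hk0, by simpa using hk⟩
  let w := C₁.1 *ᵥ v
  let C₂ := tv (Ne.symm hk0) ((1 - w 0) / w k) * C₁
  have h2 : (C₂.1 *ᵥ v) 0 = 1 := by
    rw [Matrix.SpecialLinearGroup.coe_mul, ← Matrix.mulVec_mulVec, tv_mul_apply, if_pos rfl,
      div_mul_cancel₀ _ hk, add_sub_cancel]
  suffices key : ∀ s : Finset (Fin m), ∃ C : SpecialLinearGroup (Fin m) F,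
      (C.1 *ᵥ v) 0 = 1 ∧ ∀ i ∈ s, i ≠ 0 → (C.1 *ᵥ v) i = 0 by
    obtain ⟨C, h0, hi⟩ := key Finset.univ
    refine ⟨C, funext fun i => ?_⟩
    rcases eq_or_ne i 0 with rfl | h
    · rw [h0, Pi.single_eq_same]
    · rw [hi i (Finset.mem_univ i) h, Pi.single_eq_of_ne h]
  intro s
  induction s using Finset.induction with
  | empty => exact ⟨C₂, h2, by simp⟩
  | insert a s ha ih =>
    obtain ⟨C, h0, hi⟩ := ih
    rcases eq_or_ne a 0 with rfl | ha0
    · exact ⟨C, h0, fun i hi' hi0 => hi i ((Finset.mem_insert.1 hi').resolve_left hi0) hi0⟩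
    refine ⟨tv ha0 (-(C.1 *ᵥ v) a) * C, ?_, fun i hi' hi0 => ?_⟩
    · rw [Matrix.SpecialLinearGroup.coe_mul, ← Matrix.mulVec_mulVec, tv_mul_apply, if_neg ha0.symm, add_zero, h0]
    · rw [Matrix.SpecialLinearGroup.coe_mul, ← Matrix.mulVec_mulVec, tv_mul_apply]
      rcases eq_or_ne i a with rfl | hia
      · rw [if_pos rfl, h0, mul_one, add_neg_cancel]
      · rw [if_neg hia, add_zero, hi i ((Finset.mem_insert.1 hi').resolve_left hia) hi0]

theorem mat_apply_lM_left {C : GL (Fin m) F} {μ : F} (h : LevOK J ε C μ) (g : Mg J m ε) (i j : Fin m) :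
    kf (lM h * g) i j = (st J.σ (C⁻¹).1 * kf g) i j := by
  simp [kf, mat_mul, lMat, Matrix.mul_apply, Fintype.sum_sum_type]

theorem kf_mul_lM {C : GL (Fin m) F} {μ : F} (h : LevOK J ε C μ) (g : Mg J m ε) :
    kf (g * lM h) = kf g * C.1 := by
  ext i j
  simp [kf, mat_mul, lMat, Matrix.mul_apply, Fintype.sum_sum_type]

theorem kf_lM_mul {C : GL (Fin m) F} {μ : F} (h : LevOK J ε C μ) (g : Mg J m ε) :
    kf (lM h * g) = st J.σ (C⁻¹).1 * kf g :=
  Matrix.ext fun i j => mat_apply_lM_left h g i j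

theorem kf_uM_mul {H : Matrix (Fin m) (Fin m) F} {X : Matrix (Fin m) (Fin ε) F}
    (hu : H + st J.σ H + X * st J.σ X = 0) (g : Mg J m ε) : kf (uM hu * g) = kf g := by
  ext i j
  simp [kf, mat_mul, uMat, Matrix.mul_apply, Fintype.sum_sum_type, Matrix.one_apply]

theorem tM_col (j : Fin m) (g : Mg J m ε) (b : Idx m ε) (i : Fin m) :
    mat (tM J ε j * g) (Sum.inl (Sum.inr i)) b =
      if i = j then -J.η⁻¹ * mat g (Sum.inl (Sum.inl i)) b else mat g (Sum.inl (Sum.inr i)) b := by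
  rw [mat_mul, mat_tM]
  rcases eq_or_ne i j with rfl | h
  · simp [Matrix.mul_apply, Fintype.sum_sum_type, Matrix.one_apply, Matrix.single_apply]
  · simp [Matrix.mul_apply, Fintype.sum_sum_type, Matrix.one_apply, Matrix.single_apply, h, Ne.symm h]

theorem mul_uM_ex {H : Matrix (Fin m) (Fin m) F} {X : Matrix (Fin m) (Fin ε) F}
    (hu : H + st J.σ H + X * st J.σ X = 0) (g : Mg J m ε) (b : Idx m ε) (i : Fin m) :
    mat (uM hu * g) (Sum.inl (Sum.inl i)) b = mat g (Sum.inl (Sum.inl i)) b +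
      (∑ a, H i a * mat g (Sum.inl (Sum.inr a)) b) + ∑ e, X i e * mat g (Sum.inr e) b := by
  rw [mat_mul, mat_uM]
  simp [Matrix.mul_apply, uMat, Fintype.sum_sum_type, Matrix.one_apply]

theorem mul_uM_w {H : Matrix (Fin m) (Fin m) F} {X : Matrix (Fin m) (Fin ε) F}
    (hu : H + st J.σ H + X * st J.σ X = 0) (g : Mg J m ε) (b : Idx m ε) (e : Fin ε) :
    mat (uM hu * g) (Sum.inr e) b = mat g (Sum.inr e) b -
      ∑ a, J.σ (X a e) * mat g (Sum.inl (Sum.inr a)) b := by
  rw [mat_mul, mat_uM]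
  simp [Matrix.mul_apply, uMat, Fintype.sum_sum_type, Matrix.one_apply, st, sub_eq_add_neg, add_comm]

theorem form_entries (g : Mg J m ε) (b c : Idx m ε) :
    (∑ a, J.σ (mat g (Sum.inl (Sum.inl a)) b) * mat g (Sum.inl (Sum.inr a)) c) +
      (∑ a, J.σ (mat g (Sum.inl (Sum.inr a)) b) * mat g (Sum.inl (Sum.inl a)) c) +
      (∑ e, J.σ (mat g (Sum.inr e) b) * mat g (Sum.inr e) c) = gm F m ε b c := by
  have h := congrFun (congrFun (form_apply g) b) c
  rw [← h]
  simp [Matrix.mul_apply, Fintype.sum_sum_type, Cfsg.Lib.Linear.SUDegree.gram, st, Matrix.one_apply, add_comm,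
    add_left_comm]

variable [Fintype F]

/-- The radical, the Levi subgroup and one reflection generate. -/
theorem gen_top [NeZero m] (hm : 2 ≤ m) (hε : ε ≤ 1) (W : Subgroup (Mg J m ε))
    (hu : ∀ (H : Matrix (Fin m) (Fin m) F) (X : Matrix (Fin m) (Fin ε) F)
      (h : H + st J.σ H + X * st J.σ X = 0), uM h ∈ W)
    (hl : ∀ (C : GL (Fin m) F) (μ : F) (h : LevOK J ε C μ), lM h ∈ W) (ht : tM J ε 0 ∈ W) : W = ⊤ := by
  classical
  refine eq_top_iff.2 fun g _ => ?_
  suffices key : ∀ (d : ℕ) (g : Mg J m ε),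
      Fintype.card (Fin m → F) - (Finset.univ.filter fun v => kf g *ᵥ v = 0).card ≤ d → g ∈ W from key _ g le_rfl
  intro d
  induction d using Nat.strong_induction_on with
  | _ d ih =>
    intro g hd
    by_cases hK : kf g = 0
    · obtain ⟨C, μ, hC, H, X, hH, rfl⟩ := exists_par hε hK
      exact mul_mem (hu H X hH) (hl C μ hC)
    obtain ⟨v, hv⟩ : ∃ v, kf g *ᵥ v ≠ 0 := by
      by_contra h
      push Not at h
      exact hK (Matrix.ext fun i j => by simpa using congrFun (h (Pi.single j 1)) i)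
    have hv0 : v ≠ 0 := fun e => hv (by rw [e, Matrix.mulVec_zero])
    obtain ⟨A, hA⟩ := exists_move hm hv0
    obtain ⟨B, hB⟩ := exists_move hm hv
    have hA' : A⁻¹.1 *ᵥ Pi.single 0 1 = v := by
      rw [← hA, Matrix.mulVec_mulVec, ← Matrix.SpecialLinearGroup.coe_mul, inv_mul_cancel]; simp
    obtain ⟨B', hB'⟩ : ∃ B' : SpecialLinearGroup (Fin m) F, st J.σ (B'⁻¹).1 = B.1 := by
      obtain ⟨Z, hZ⟩ : ∃ Z : SpecialLinearGroup (Fin m) F, Z.1 = st J.σ B.1 :=
        ⟨⟨st J.σ B.1, by rw [det_st, B.2, map_one]⟩, rfl⟩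
      exact ⟨Z⁻¹, by rw [inv_inv, hZ, st_st J.inv2]⟩
    have hslW : ∀ C, slM J m ε C ∈ W := fun C => hl _ _ (levOK_sl C)
    set g₁ := slM J m ε B' * g * slM J m ε A⁻¹ with hg₁
    have hinvGL : ∀ C : SpecialLinearGroup (Fin m) F, ((SpecialLinearGroup.toGL C)⁻¹).1 = (C⁻¹).1 := fun C => by
      rw [← map_inv]; rfl
    have hK₁ : kf g₁ = B.1 * kf g * A⁻¹.1 := by
      rw [hg₁]
      show kf (lM (levOK_sl B') * g * lM (levOK_sl A⁻¹)) = _
      rw [kf_mul_lM, kf_lM_mul, hinvGL, hB']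
      rfl
    have hcol : ∀ i, kf g₁ i 0 = (Pi.single 0 1 : Fin m → F) i := fun i => by
      have h : kf g₁ *ᵥ Pi.single 0 1 = Pi.single 0 1 := by
        rw [hK₁, ← Matrix.mulVec_mulVec, hA', ← Matrix.mulVec_mulVec, hB]
      simpa using congrFun h i
    set a : Fin m → F := fun i => mat g₁ (Sum.inl (Sum.inl i)) (Sum.inl (Sum.inl 0)) with ha
    set x : Fin ε → F := fun e => mat g₁ (Sum.inr e) (Sum.inl (Sum.inl 0)) with hx
    have hf0 : ∀ i, mat g₁ (Sum.inl (Sum.inr i)) (Sum.inl (Sum.inl 0)) = (Pi.single 0 1 : Fin m → F) i := hcol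
    have hiso : J.σ (a 0) + a 0 + ∑ e, J.σ (x e) * x e = 0 := by
      have h := form_entries g₁ (Sum.inl (Sum.inl 0)) (Sum.inl (Sum.inl 0))
      simp only [hf0] at h
      simpa [Pi.single_apply, Cfsg.Lib.Linear.SUDegree.gram] using h
    let X : Matrix (Fin m) (Fin ε) F := Matrix.of fun i e => if i = 0 then J.σ (x e) else 0
    let H : Matrix (Fin m) (Fin m) F := Matrix.of fun i j =>
      if j = 0 then (if i = 0 then -(a 0 + ∑ e, J.σ (x e) * x e) else -a i) else (if i = 0 then J.σ (a j) else 0)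
    have hH : H + st J.σ H + X * st J.σ X = 0 := by
      ext i j
      rcases eq_or_ne i 0 with rfl | hi <;> rcases eq_or_ne j 0 with rfl | hj
      · simp [H, X, st, Matrix.mul_apply, J.inv2, mul_comm (x _)]
        linear_combination -hiso
      · simp [H, X, st, Matrix.mul_apply, hj, J.inv2]
      · simp [H, X, st, Matrix.mul_apply, hi, J.inv2]
      · simp [H, X, st, Matrix.mul_apply, hi, hj]
    set g₂ := uM hH * g₁ with hg₂
    have he2 : ∀ i, mat g₂ (Sum.inl (Sum.inl i)) (Sum.inl (Sum.inl 0)) = 0 := fun i => by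
      rw [hg₂, mul_uM_ex]
      simp only [hf0]
      rcases eq_or_ne i 0 with rfl | hi
      · simp [H, X, Pi.single_apply, ← ha, ← hx, a, x]
      · simp [H, X, hi, Pi.single_apply, a]
    have hw2 : ∀ e, mat g₂ (Sum.inr e) (Sum.inl (Sum.inl 0)) = 0 := fun e => by
      rw [hg₂, mul_uM_w]
      simp only [hf0]
      simp [X, Pi.single_apply, J.inv2, x]
    have hK₂ : kf g₂ = kf g₁ := kf_uM_mul hH g₁
    have hrow : ∀ j, mat g₂ (Sum.inl (Sum.inl 0)) (Sum.inl (Sum.inl j)) = 0 := fun j => by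
      have h := form_entries g₂ (Sum.inl (Sum.inl 0)) (Sum.inl (Sum.inl j))
      have hf2 : ∀ i, mat g₂ (Sum.inl (Sum.inr i)) (Sum.inl (Sum.inl 0)) = (Pi.single 0 1 : Fin m → F) i := fun i => by
        have := congrFun (congrFun hK₂ i) 0
        exact this.trans (hcol i)
      simp only [he2, hw2, hf2] at h
      simpa [Pi.single_apply, Cfsg.Lib.Linear.SUDegree.gram, apply_ite J.σ] using h
    set g₃ := tM J ε 0 * g₂ with hg₃
    have hK₃ : ∀ i j, kf g₃ i j = if i = 0 then 0 else kf g₁ i j := fun i j => by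
      show mat g₃ _ _ = _
      rw [hg₃, tM_col]
      rcases eq_or_ne i 0 with rfl | hi
      · simp [hrow]
      · simp only [if_neg hi]
        exact congrFun (congrFun hK₂ i) j
    have hlt : Fintype.card (Fin m → F) - (Finset.univ.filter fun w => kf g₃ *ᵥ w = 0).card < d := by
      have e1 : (Finset.univ.filter fun w => kf g₁ *ᵥ w = 0).card = (Finset.univ.filter fun w => kf g *ᵥ w = 0).card := by
        have hBinj : ∀ u : Fin m → F, B.1 *ᵥ u = 0 ↔ u = 0 := fun u => ⟨fun h => by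
          have h' := congrArg (fun z => B⁻¹.1 *ᵥ z) h
          rw [Matrix.mulVec_mulVec, ← Matrix.SpecialLinearGroup.coe_mul, inv_mul_cancel] at h'
          simpa using h', fun h => by simp [h]⟩
        refine Finset.card_bij' (fun w _ => A⁻¹.1 *ᵥ w) (fun w _ => A.1 *ᵥ w) ?_ ?_ ?_ ?_
        · intro w hw
          simp only [Finset.mem_filter, Finset.mem_univ, true_and] at hw ⊢
          rw [hK₁, ← Matrix.mulVec_mulVec, ← Matrix.mulVec_mulVec] at hw
          exact (hBinj _).1 hw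
        · intro w hw
          simp only [Finset.mem_filter, Finset.mem_univ, true_and] at hw ⊢
          rw [hK₁, ← Matrix.mulVec_mulVec, ← Matrix.mulVec_mulVec, Matrix.mulVec_mulVec _ A⁻¹.1 A.1,
            ← Matrix.SpecialLinearGroup.coe_mul, inv_mul_cancel]
          simp [hw]
        · intro w _
          rw [Matrix.mulVec_mulVec, ← Matrix.SpecialLinearGroup.coe_mul, mul_inv_cancel]; simp
        · intro w _
          rw [Matrix.mulVec_mulVec, ← Matrix.SpecialLinearGroup.coe_mul, inv_mul_cancel]; simp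
      have e2 : (Finset.univ.filter fun w => kf g₁ *ᵥ w = 0).card <
          (Finset.univ.filter fun w => kf g₃ *ᵥ w = 0).card := by
        have hrow3 : ∀ w i, (kf g₃ *ᵥ w) i = if i = 0 then 0 else (kf g₁ *ᵥ w) i := fun w i => by
          simp only [Matrix.mulVec, dotProduct, hK₃]
          rcases eq_or_ne i 0 with rfl | hi
          · simp
          · simp [hi]
        refine Finset.card_lt_card ⟨fun w hw => ?_, fun hsub => ?_⟩
        · simp only [Finset.mem_filter, Finset.mem_univ, true_and] at hw ⊢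
          funext i
          rw [hrow3, hw]; simp
        · have h3 : (Pi.single 0 1 : Fin m → F) ∈ Finset.univ.filter fun w => kf g₃ *ᵥ w = 0 := by
            simp only [Finset.mem_filter, Finset.mem_univ, true_and]
            funext i
            rw [hrow3]
            rcases eq_or_ne i 0 with rfl | hi
            · simp
            · simp [hi, hcol]
          have h1 := (Finset.mem_filter.1 (hsub h3)).2
          have := congrFun h1 0
          simp [hcol] at this
      have e3 : (Finset.univ.filter fun w => kf g₃ *ᵥ w = 0).card ≤ Fintype.card (Fin m → F) := Finset.card_le_univ _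
      omega
    have h3 := ih _ hlt g₃ le_rfl
    have hg : g = (slM J m ε B')⁻¹ * ((uM hH)⁻¹ * ((tM J ε 0)⁻¹ * g₃)) * (slM J m ε A⁻¹)⁻¹ := by
      rw [hg₃, inv_mul_cancel_left, hg₂, inv_mul_cancel_left, hg₁]
      group
    rw [hg]
    exact mul_mem (mul_mem (inv_mem (hslW _)) (mul_mem (inv_mem (hu H X hH)) (mul_mem (inv_mem ht) h3)))
      (inv_mem (hslW _))

end Cfsg.Lib.Linear.ShortPres.SUN
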