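import Cfsg.Prelude.Def_KGroupFacts
import Cfsg.Agent.Lib.Linear.ShortPres.On
import Cfsg.Agent.Lib.Linear.ShortPres.SUN.Model
import Mathlib.GroupTheory.Schreier
import Mathlib.GroupTheory.IsPerfect

/-!
# Coverings of perfect groups: reduction modulo the central part of the kernel
-/

set_option autoImplicit false

universe u

namespace Cfsg.Lib.Linear.ShortPres.SUN

open scoped commutatorElement

/-- Every finite stem extension of `M` is trivial. -/
def NoStem (M : Type u) [Group M] : Prop :=
  ∀ (Γ : Type u) [Group Γ] [Finite Γ] (σ : Γ →* M), Cfsg.IsStemExtension σ → σ.ker = ⊥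

/-- A normal subgroup whose elements commute with a group with perfect quotient is central. -/
theorem central_of_cyclic {G : Type*} [Group G] (hG : commutator G = ⊤) (r : G)
    (hr : ∀ g : G, g * r * g⁻¹ ∈ Subgroup.zpowers r) : r ∈ Subgroup.center G := by
  let A := Subgroup.zpowers r
  haveI hA : A.Normal := ⟨fun x hx g => by
    obtain ⟨k, rfl⟩ := Subgroup.mem_zpowers_iff.1 hx
    rw [← conj_zpow]
    exact Subgroup.zpow_mem _ (hr g) k⟩
  have hc : commutator G ≤ Subgroup.centralizer ({r} : Set G) := by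
    rw [commutator_def, Subgroup.commutator_le]
    intro a _ b _
    obtain ⟨i, hi⟩ := Subgroup.mem_zpowers_iff.1 (hr a)
    obtain ⟨j, hj⟩ := Subgroup.mem_zpowers_iff.1 (hr b)
    obtain ⟨i', hi'⟩ := Subgroup.mem_zpowers_iff.1 (hr a⁻¹)
    obtain ⟨j', hj'⟩ := Subgroup.mem_zpowers_iff.1 (hr b⁻¹)
    rw [inv_inv] at hi' hj'
    have e1 : ∀ k : ℤ, a * r ^ k * a⁻¹ = r ^ (i * k) := fun k => by rw [← conj_zpow, ← hi, zpow_mul]
    have e2 : ∀ k : ℤ, b * r ^ k * b⁻¹ = r ^ (j * k) := fun k => by rw [← conj_zpow, ← hj, zpow_mul]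
    have e3 : ∀ k : ℤ, a⁻¹ * r ^ k * a = r ^ (i' * k) := fun k => by
      rw [zpow_mul, hi']
      simpa using (conj_zpow (a := a⁻¹) (b := r) (i := k)).symm
    have hii : r ^ (i * i') = r := by rw [← e1 i', hi']; group
    have hjj : r ^ (j * j') = r := by rw [← e2 j', hj']; group
    rw [Subgroup.mem_centralizer_singleton_iff, ← mul_inv_eq_iff_eq_mul]
    calc ⁅a, b⁆ * r * (⁅a, b⁆)⁻¹ = a * (b * (a⁻¹ * (b⁻¹ * r * b) * a) * b⁻¹) * a⁻¹ := by
          rw [commutatorElement_def]; group
      _ = r ^ (i * (j * (i' * j'))) := by rw [← hj', e3, e2, e1]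
      _ = r := by
        rw [show i * (j * (i' * j')) = i * i' * (j * j') by ring, zpow_mul, hii, hjj]
  exact Subgroup.mem_center_iff.2 fun g => Subgroup.mem_centralizer_singleton_iff.1 (hc (hG ▸ Subgroup.mem_top g))

theorem finite_of_central {G : Type*} [Group G] (hG : commutator G = ⊤) {M : Type*} [Group M] [Finite M]
    (π : G →* M) (hk : π.ker ≤ Subgroup.center G) : Finite G := by
  haveI : π.ker.FiniteIndex := ⟨by rw [Subgroup.index_ker]; exact Nat.card_ne_zero.2 ⟨⟨1⟩, inferInstance⟩⟩
  haveI : (Subgroup.center G).FiniteIndex := Subgroup.finiteIndex_of_le hk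
  haveI : Finite (G ⧸ Subgroup.center G) := inferInstance
  haveI : Finite (commutatorSet G) := by
    let f : (G ⧸ Subgroup.center G) × (G ⧸ Subgroup.center G) → commutatorSet G := fun p =>
      ⟨⁅p.1.out, p.2.out⁆, ⟨_, _, rfl⟩⟩
    refine Finite.of_surjective f fun ⟨c, a, b, hc⟩ => ⟨(a, b), Subtype.ext ?_⟩
    obtain ⟨z, hz⟩ := QuotientGroup.mk_out_eq_mul (Subgroup.center G) a
    obtain ⟨z', hz'⟩ := QuotientGroup.mk_out_eq_mul (Subgroup.center G) b
    show ⁅(a : G ⧸ Subgroup.center G).out, (b : G ⧸ Subgroup.center G).out⁆ = c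
    have e := Subgroup.mem_center_iff.1 z.2
    have e' := Subgroup.mem_center_iff.1 z'.2
    rw [hz, hz', ← hc, commutatorElement_def, commutatorElement_def, _root_.mul_inv_rev, _root_.mul_inv_rev]
    calc a * z.1 * (b * z'.1) * (z.1⁻¹ * a⁻¹) * (z'.1⁻¹ * b⁻¹)
        = a * (z.1 * (b * z'.1)) * (z.1⁻¹ * a⁻¹) * (z'.1⁻¹ * b⁻¹) := by group
      _ = a * b * (z'.1 * a⁻¹) * (z'.1⁻¹ * b⁻¹) := by rw [← e (b * z'.1)]; group
      _ = a * b * a⁻¹ * b⁻¹ := by rw [← e' a⁻¹]; group
  have h : Finite (_root_.commutator G) := inferInstance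
  rw [hG] at h
  exact Finite.of_equiv _ Subgroup.topEquiv.toEquiv

/-- To recognise `M` it suffices to argue modulo the central part of the kernel. -/
theorem injective_of_reduced {M : Type u} [Group M] [Finite M] (hM : NoStem M) {G : Type} [Group G] (π : G →* M)
    (hπ : Function.Surjective π) (hG : commutator G = ⊤)
    (H : ∀ (G' : Type) [Group G'] (f : G →* G') (π' : G' →* M), Function.Surjective f → π'.comp f = π →
      commutator G' = ⊤ → (∀ g, π' g = 1 → g ∈ Subgroup.center G' → g = 1) → Function.Injective π') :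
    Function.Injective π := by
  haveI : Group.IsPerfect G := ⟨hG⟩
  let K : Subgroup G := π.ker ⊓ Subgroup.center G
  let π' : G ⧸ K →* M := QuotientGroup.lift K π inf_le_left
  have hperf : commutator (G ⧸ K) = ⊤ := by
    rw [eq_top_iff, ← Subgroup.map_top_of_surjective _ (QuotientGroup.mk'_surjective K), ← hG, commutator_def,
      Subgroup.map_commutator, commutator_def]
    exact Subgroup.commutator_mono le_top le_top
  have hred : ∀ g : G ⧸ K, π' g = 1 → g ∈ Subgroup.center (G ⧸ K) → g = 1 := by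
    intro g hg hc
    obtain ⟨g, rfl⟩ := QuotientGroup.mk'_surjective K g
    have hg' : g ∈ π.ker := hg
    have h2 : (g : G ⧸ Subgroup.center G) ∈ Subgroup.center (G ⧸ Subgroup.center G) := by
      refine Subgroup.mem_center_iff.2 fun y => ?_
      obtain ⟨y, rfl⟩ := QuotientGroup.mk'_surjective _ y
      have h := Subgroup.mem_center_iff.1 hc (QuotientGroup.mk' K y)
      rw [← map_mul, ← map_mul] at h
      have h' : (QuotientGroup.mk' (Subgroup.center G)) (y * g) = QuotientGroup.mk' (Subgroup.center G) (g * y) := by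
        have hK : (y * g)⁻¹ * (g * y) ∈ K := QuotientGroup.eq.1 h
        exact QuotientGroup.eq.2 hK.2
      rw [map_mul, map_mul] at h'
      exact h'
    rw [Group.IsPerfect.center_quotient_center_eq_bot G, Subgroup.mem_bot, QuotientGroup.eq_one_iff] at h2
    exact (QuotientGroup.eq_one_iff g).2 ⟨hg', h2⟩
  have hi := H (G ⧸ K) (QuotientGroup.mk' K) π' (QuotientGroup.mk'_surjective K) (MonoidHom.ext fun _ => rfl)
    hperf hred
  have hk : π.ker ≤ Subgroup.center G := fun g hg => by
    have : (QuotientGroup.mk' K g) = 1 := hi (by rw [map_one]; exact hg)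
    exact ((QuotientGroup.eq_one_iff g).1 this).2
  haveI := finite_of_central hG π hk
  let eq : ULift.{u} G ≃* G := MulEquiv.ulift
  have h := hM (ULift.{u} G) (π.comp eq.toMonoidHom) ⟨hπ.comp eq.surjective, ?_, ?_⟩
  · refine (injective_iff_map_eq_one π).2 fun g hg => ?_
    have : eq.symm g ∈ (π.comp eq.toMonoidHom).ker := by simpa using hg
    rw [h, Subgroup.mem_bot] at this
    simpa using congrArg eq this
  · intro x hx
    have hxc := hk (show eq x ∈ π.ker from hx)
    exact Subgroup.mem_center_iff.2 fun y => eq.injective (by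
      rw [map_mul, map_mul]; exact Subgroup.mem_center_iff.1 hxc (eq y))
  · have : commutator (ULift.{u} G) = ⊤ := by
      rw [eq_top_iff, ← Subgroup.map_top_of_surjective eq.symm.toMonoidHom eq.symm.surjective, ← hG, commutator_def,
        Subgroup.map_commutator, commutator_def]
      exact Subgroup.commutator_mono le_top le_top
    rw [this]; exact le_top

end Cfsg.Lib.Linear.ShortPres.SUN
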