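import Cfsg.Agent.Lib.Linear.ShortPres.SUN.EvenRad
import Cfsg.Agent.Lib.Linear.ShortPres.SUN.Red
import Cfsg.Agent.Lib.Linear.ShortPres.SUN.Mdl2

/-!
# Even dimension: a covering given by few relations is faithful
-/

set_option autoImplicit false
set_option linter.unusedSectionVars false

namespace Cfsg.Lib.Linear.ShortPres.SUN

open Matrix Cfsg.Lib.Linear.SUDegree Cfsg.Lib.Linear.Herm
open scoped commutatorElement

variable {F : Type*} [Field F] {J : Conj F}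

theorem Qm_conj0 {m : ℕ} [NeZero m] {c : F} (h : c + J.σ c + ∑ e : Fin 0, (0 : F) * J.σ 0 = 0) {g : Mg J m 0}
    (hg : g ∈ Qm J m 0) :
    uM (rel0 (m := m) (v := fun _ : Fin 0 => (0 : F)) h) * g *
      (uM (rel0 (m := m) (v := fun _ : Fin 0 => (0 : F)) h))⁻¹ ∈ Qm J m 0 := by
  obtain ⟨H, X, hu, C, rfl, hH, hX, hC⟩ := hg
  obtain ⟨hs', es⟩ := uM_inv (rel0 (m := m) (v := fun _ : Fin 0 => (0 : F)) h)
  have e1 := lM_uM (levOK_sl (J := J) (ε := 0) C) hs'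
  refine ⟨_, _, Cfsg.Lib.UnitMult.Rel.mul J.inv2 (Cfsg.Lib.UnitMult.Rel.mul J.inv2
      (rel0 (m := m) (v := fun _ : Fin 0 => (0 : F)) h) hu)
    (Cfsg.Lib.UnitMult.Rel.conj J.inv2 hs' C.1 (levOK_sl (J := J) (ε := 0) C).norm), C, ?_, ?_, fun e => e.elim0, hC⟩
  · rw [es, ← uM_mul (Cfsg.Lib.UnitMult.Rel.mul J.inv2 (rel0 (m := m) (v := fun _ : Fin 0 => (0 : F)) h) hu)
      (Cfsg.Lib.UnitMult.Rel.conj J.inv2 hs' C.1 (levOK_sl (J := J) (ε := 0) C).norm),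
      ← uM_mul (rel0 (m := m) (v := fun _ : Fin 0 => (0 : F)) h) hu]
    simp only [mul_assoc]
    congr 2
    rw [show slM J m 0 C = lM (levOK_sl C) from rfl]
    convert e1 using 3
    exact uM_congr _ _ (Matrix.mul_assoc _ _ _).symm rfl
  · simp [Matrix.mul_apply, hC, hH, st]
    simp at h
    linear_combination h

theorem Qm_conj_normalizer0 {m : ℕ} [NeZero m] {c : F} (h : c + J.σ c + ∑ e : Fin 0, (0 : F) * J.σ 0 = 0) :
    (uM (rel0 (m := m) (v := fun _ : Fin 0 => (0 : F)) h) : Mg J m 0) ∈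
      Subgroup.normalizer (Qm J m 0 : Set (Mg J m 0)) := by
  obtain ⟨hi, ei⟩ := uM_inv (rel0 (m := m) (v := fun _ : Fin 0 => (0 : F)) h)
  have hi' : J.σ c + J.σ (J.σ c) + ∑ e : Fin 0, (0 : F) * J.σ 0 = 0 := by
    rw [J.inv2]; simp at h ⊢; linear_combination h
  have e : (uM (rel0 (m := m) (v := fun _ : Fin 0 => (0 : F)) hi') : Mg J m 0) =
      (uM (rel0 (m := m) (v := fun _ : Fin 0 => (0 : F)) h))⁻¹ := by
    rw [ei]
    exact uM_congr _ _ (st_single _ _ _).symm (Subsingleton.elim _ _)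
  refine Subgroup.mem_normalizer_iff.2 fun g => ⟨Qm_conj0 h, fun hg => ?_⟩
  have h2 := Qm_conj0 hi' hg
  rw [e] at h2
  simpa [mul_assoc] using h2

namespace Ev

variable {k : ℕ} [NeZero k] {G : Type*} [Group G] {π : G →* Mg J (k + 1) 0} {Q : Pm J} (D : Ev J k π Q)
variable [Finite F]

/-- The radical with the special linear group. -/
noncomputable def base : Base J (k + 1) 0 π where
  hε := zero_le_one
  A := D.A
  πA := D.πA
  N := D.N
  norm C n hn := (Additive.toMul (D.act C (Additive.ofMul ⟨n, hn⟩))).2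
  inj n hn h := D.N_inj hn h
  img n hn := by
    obtain ⟨M, rfl⟩ := D.exists_lam hn
    exact ⟨_, _, srel M, D.π_lam M⟩
  surj H X h := D.N_surj h

theorem N_mem_K {n : G} (h : n ∈ D.N) : n ∈ D.base.K := D.base.N_le h

/-- The compatible part. -/
noncomputable def Pq : Subgroup G := D.base.K ⊓ (Qm J (k + 1) 0).comap π

theorem mem_Pq {y : G} : y ∈ D.Pq ↔ y ∈ D.base.K ∧ π y ∈ Qm J (k + 1) 0 := Iff.rfl

theorem N_mem_Pq {n : G} (hn : n ∈ D.N) {H : Matrix (Fin (k + 1)) (Fin (k + 1)) F}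
    {X : Matrix (Fin (k + 1)) (Fin 0) F} (hu : H + st J.σ H + X * st J.σ X = 0) (e : π n = uM hu)
    (hH : H 0 0 = 0) : n ∈ D.Pq :=
  D.mem_Pq.2 ⟨D.N_mem_K hn, H, X, hu, 1, by rw [map_one, mul_one, e], hH, fun e => e.elim0,
    fun b => by simp [Matrix.one_apply]⟩

theorem X_mem_Pq {v : Fin (k + 1) → F} (hv : v 0 = 0) : D.X v ∈ D.Pq :=
  D.N_mem_Pq (D.X_mem v) (erel v) (D.π_X v) (by rw [Matrix.smul_apply, col_mul_st, hv]; simp)

theorem Φ_mem_Pq {v w : Fin (k + 1) → F} (h : v 0 * J.σ (w 0) = 0) : D.Φ v w ∈ D.Pq :=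
  D.N_mem_Pq (D.Φ_mem v w) (srel _) (D.π_Φ v w) (by
    show J.η * ((col v * st J.σ (col w)) 0 0 + J.σ ((col v * st J.σ (col w)) 0 0)) = 0
    rw [col_mul_st, h]; simp)

theorem A_mem_Pq {C : SpecialLinearGroup (Fin (k + 1)) F} (hC : ∀ b, C.1 0 b = if 0 = b then 1 else 0) :
    D.A C ∈ D.Pq := by
  have h0 : (0 : Matrix (Fin (k + 1)) (Fin (k + 1)) F) + st J.σ (0 : Matrix (Fin (k + 1)) (Fin (k + 1)) F) +
      (0 : Matrix (Fin (k + 1)) (Fin 0) F) * st J.σ (0 : Matrix (Fin (k + 1)) (Fin 0) F) = 0 := by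
    rw [Cfsg.Lib.Linear.SUDegree.st_zero, Matrix.zero_mul]; simp
  refine D.mem_Pq.2 ⟨D.base.A_mem C, 0, 0, h0, C, ?_, rfl, fun e => e.elim0, hC⟩
  rw [D.πA, uM0_eq_one h0 rfl, one_mul]

theorem t_Φ_t (α β : F) : D.t * D.Φ (Pi.single 0 α) (Pi.single 1 β) * D.t⁻¹ =
    D.A (tv (Pm.h01 (k := k)).symm (β * J.σ α)) := by
  obtain ⟨C, hC⟩ := D.mem_InW.1 (D.inW_tail α (v := Pi.single 1 β) (Pi.single_eq_of_ne Pm.h01 _))
  obtain ⟨hu, e⟩ := tv_tM (J := J) (ε := 0) (Pm.h01 (k := k)).symm (β * J.σ α)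
  have hπ : π (D.Φ (Pi.single 0 α) (Pi.single 1 β)) = uM hu := by
    rw [D.π_Φ]
    refine uM_congr _ _ ?_ rfl
    ext i j
    show J.η * ((col (Pi.single (0 : Fin (k + 1)) α) * st J.σ (col (Pi.single (1 : Fin (k + 1)) β))) i j +
      J.σ ((col (Pi.single (0 : Fin (k + 1)) α) * st J.σ (col (Pi.single (1 : Fin (k + 1)) β))) j i)) = _
    rw [col_mul_st, col_mul_st]
    have hne := Pm.h01 (k := k)
    by_cases h1 : i = 0 <;> by_cases h2 : j = 0 <;> by_cases h3 : i = 1 <;> by_cases h4 : j = 1 <;>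
      simp [h1, h2, h3, h4, hne, hne.symm, J.inv2, Ne.symm, Matrix.single_apply] <;> ring
  rw [← hC, D.A_inj (C := C) (C' := tv (Pm.h01 (k := k)).symm (β * J.σ α)) ?_]
  rw [hC, map_mul, map_mul, map_inv, hπ, D.πt, D.πA, ← e, mul_inv_cancel_right]

/-- Conjugation by the square of the reflection on the mixed elements. -/
theorem Φ_sq (α β : F) : D.t * D.t * D.Φ (Pi.single 0 α) (Pi.single 1 β) * (D.t * D.t)⁻¹ =
    D.Φ (Pi.single 0 (-α)) (Pi.single 1 β) := by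
  refine D.InW_eq ?_ (D.inW_tail _ (Pi.single_eq_of_ne Pm.h01 _)) ?_
  · rw [mem_InW]
    have h := (Subgroup.mem_normalizer_iff.1 D.sq_NA _).1
      (D.mem_InW.1 (D.inW_tail α (v := Pi.single 1 β) (Pi.single_eq_of_ne Pm.h01 _)))
    convert h using 1
    group
  · have e1 := congrArg π (D.t_Φ_t α β)
    have e2 := congrArg π (D.t_Φ_t (-α) β)
    rw [map_mul, map_mul, map_inv, D.πA, D.πt] at e1 e2
    rw [show β * J.σ (-α) = -(β * J.σ α) by rw [map_neg]; ring] at e2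
    set c := β * J.σ α
    have e1' := eq_inv_mul_iff_mul_eq.2 (mul_inv_eq_iff_eq_mul.1 e1)
    have e2' := eq_inv_mul_iff_mul_eq.2 (mul_inv_eq_iff_eq_mul.1 e2)
    rw [map_mul, map_mul, map_inv, map_mul, D.πt, e1', e2']
    have key : tM J 0 (0 : Fin (k + 1)) * tM J 0 0 * slM J (k + 1) 0 (tv (Pm.h01 (k := k)).symm c) =
        slM J (k + 1) 0 (tv (Pm.h01 (k := k)).symm (-c)) * (tM J 0 0 * tM J 0 0) := by
      refine mat_inj ?_
      rw [mat_mul, mat_mul _ (tM J 0 0 * tM J 0 0), tM_mul_self_entries, slM_apply, slM_apply, tv_inv, tv_inv, neg_neg]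
      simp only [tv_coe]
      simp only [lMat, fromBlocks_multiply, Matrix.mul_zero, Matrix.zero_mul, add_zero, zero_add, one_smul,
        Matrix.mul_one, Cfsg.Lib.Linear.SUDegree.st_add, Cfsg.Lib.Linear.SUDegree.st_one, st_single]
      congr 2
      · ext a b
        rw [sg, Matrix.diagonal_mul, Matrix.mul_diagonal]
        simp only [Matrix.add_apply, Matrix.one_apply, Matrix.single_apply]
        by_cases h : (1 : Fin (k + 1)) = a ∧ 0 = b
        · obtain ⟨rfl, rfl⟩ := h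
          simp [Pm.h01, Pm.h01.symm]
        · simp only [if_neg h, add_zero]
          by_cases hab : a = b
          · subst hab; ring
          · simp [hab]
      · ext a b
        rw [show st J.σ (sg (F := F) (0 : Fin (k + 1))) = sg 0 from by
          ext i j; simp [st, sg, Matrix.diagonal_apply]; split_ifs <;> simp_all,
          sg, Matrix.diagonal_mul, Matrix.mul_diagonal]
        simp only [Matrix.add_apply, Matrix.one_apply, Matrix.single_apply]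
        by_cases h : (0 : Fin (k + 1)) = a ∧ 1 = b
        · obtain ⟨rfl, rfl⟩ := h
          simp [Pm.h01, Pm.h01.symm]
        · simp only [if_neg h, add_zero]
          by_cases hab : a = b
          · subst hab; ring
          · simp [hab]
    calc tM J 0 0 * tM J 0 0 * ((tM J 0 0)⁻¹ * (slM J (k + 1) 0 (tv (Pm.h01 (k := k)).symm c) * tM J 0 0)) * (tM J 0 0 * tM J 0 0)⁻¹
        = (tM J 0 0)⁻¹ * (tM J 0 0 * tM J 0 0 * slM J (k + 1) 0 (tv (Pm.h01 (k := k)).symm c)) *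
            (tM J 0 0 * tM J 0 0)⁻¹ * tM J 0 0 := by group
      _ = _ := by rw [key]; group

theorem t_Φ_t' (α β : F) : D.t⁻¹ * D.Φ (Pi.single 0 α) (Pi.single 1 β) * D.t =
    D.A (tv (Pm.h01 (k := k)).symm (-(β * J.σ α))) := by
  have h := D.Φ_sq (-α) β
  rw [neg_neg] at h
  rw [← h, show -(β * J.σ α) = β * J.σ (-α) by rw [map_neg]; ring, ← D.t_Φ_t]
  group

/-- The elements carried into the compatible part by the reflection and its inverse. -/
noncomputable def Good : Subgroup G :=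
  D.Pq ⊓ D.Pq.comap (MulAut.conj D.t).toMonoidHom ⊓ D.Pq.comap (MulAut.conj D.t⁻¹).toMonoidHom

theorem mem_Good {y : G} (h0 : y ∈ D.Pq) (h1 : D.t * y * D.t⁻¹ ∈ D.Pq) (h2 : D.t⁻¹ * y * D.t ∈ D.Pq) :
    y ∈ D.Good := ⟨⟨h0, h1⟩, show D.t⁻¹ * y * D.t⁻¹⁻¹ ∈ D.Pq by rwa [inv_inv]⟩

theorem tv_row (c : F) : ∀ b, (tv (Pm.h01 (k := k)).symm c).1 (0 : Fin (k + 1)) b = if 0 = b then 1 else 0 := fun b => by
  simp [tv_coe, Matrix.one_apply, Matrix.single_apply, Pm.h01.symm]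

theorem good_A_ext0 (S : SpecialLinearGroup (Fin k) F) : D.A (ext0 S) ∈ D.Good := by
  have h := D.A_mem_Pq (C := ext0 S) (ext0_apply S).1
  refine D.mem_Good h ?_ ?_
  · rw [← (D.tS S).eq, mul_inv_cancel_right]; exact h
  · rw [mul_assoc, (D.tS S).eq, inv_mul_cancel_left]; exact h

theorem good_X {v : Fin (k + 1) → F} (hv : v 0 = 0) : D.X v ∈ D.Good := by
  have h := D.X_mem_Pq hv
  refine D.mem_Good h ?_ ?_
  · rw [(D.t_X hv).eq, mul_inv_cancel_right]; exact h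
  · rw [mul_assoc, ← (D.t_X hv).eq, inv_mul_cancel_left]; exact h

theorem good_Φ (α β : F) : D.Φ (Pi.single 0 α) (Pi.single 1 β) ∈ D.Good := by
  refine D.mem_Good (D.Φ_mem_Pq (by simp)) ?_ ?_
  · rw [D.t_Φ_t]; exact D.A_mem_Pq (tv_row _)
  · rw [D.t_Φ_t']; exact D.A_mem_Pq (tv_row _)

theorem good_tv (c : F) : D.A (tv (Pm.h01 (k := k)).symm c) ∈ D.Good := by
  have e : D.t * D.Φ (Pi.single 0 1) (Pi.single 1 c) * D.t⁻¹ = D.A (tv (Pm.h01 (k := k)).symm c) := by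
    rw [D.t_Φ_t, map_one, mul_one]
  refine D.mem_Good (D.A_mem_Pq (tv_row _)) ?_ ?_
  · rw [← e, show ∀ y, D.t * (D.t * y * D.t⁻¹) * D.t⁻¹ = D.t * D.t * y * (D.t * D.t)⁻¹ by intro y; group, D.Φ_sq]
    exact D.Φ_mem_Pq (by simp)
  · rw [← e, show ∀ y, D.t⁻¹ * (D.t * y * D.t⁻¹) * D.t = y by intro y; group]
    exact D.Φ_mem_Pq (by simp)

theorem good_row {C : SpecialLinearGroup (Fin (k + 1)) F} (hC : ∀ b, C.1 0 b = if 0 = b then 1 else 0) :
    D.A C ∈ D.Good := by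
  refine mem_of_row C hC (D.Good.comap D.A) (fun j hj c => ?_) (fun S => D.good_A_ext0 S)
  obtain ⟨S, hS⟩ : ∃ S, (ext0 S).1 *ᵥ Pi.single 1 (1 : F) = Pi.single j (1 : F) := by
    rcases D.kind with hk | E
    · exact exists_move_tail hk (by simp) (by simp) (Pi.single_eq_of_ne Pm.h01 _)
        (Pi.single_eq_of_ne (Ne.symm hj) _)
    · exact ⟨1, by rw [map_one, Matrix.SpecialLinearGroup.coe_one, Matrix.one_mulVec, eq_one_of_two E.one hj]⟩
  have hcol : ∀ a, (ext0 S).1 a 1 = (Pi.single j 1 : Fin (k + 1) → F) a := fun a => by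
    have := congrFun hS a
    rwa [Matrix.mulVec_single_one, Matrix.col_apply] at this
  have e : tv hj c = ext0 S * tv (Pm.h01 (k := k)).symm c * (ext0 S)⁻¹ := by
    rw [eq_mul_inv_iff_mul_eq]
    refine Subtype.ext ?_
    rw [Matrix.SpecialLinearGroup.coe_mul, Matrix.SpecialLinearGroup.coe_mul, tv_coe, tv_coe, Matrix.add_mul,
      Matrix.mul_add, Matrix.one_mul, Matrix.mul_one]
    congr 1
    ext a b
    simp [Matrix.mul_apply, Matrix.single_apply, hcol, (ext0_apply S).1, Pi.single_apply, ite_and]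
    by_cases ha : a = j <;> by_cases hb : b = 0 <;> simp [ha, hb, Ne.symm]
  show D.A (tv hj c) ∈ D.Good
  rw [e, map_mul, map_mul, map_inv]
  exact mul_mem (mul_mem (D.good_A_ext0 S) (D.good_tv c)) (inv_mem (D.good_A_ext0 S))

theorem good_tail (α : F) {v : Fin (k + 1) → F} (hv : v 0 = 0) : D.Φ (Pi.single 0 α) v ∈ D.Good := by
  rcases eq_or_ne v 0 with rfl | hne
  · rw [Φ_zero_right]; exact one_mem _
  rcases D.kind with hk | E
  swap
  · rw [tail_two E.one hv]; exact D.good_Φ _ _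
  obtain ⟨S, hS⟩ := exists_move_tail hk (v := Pi.single 1 (1 : F)) (w := v) (by simp) hne
    (Pi.single_eq_of_ne Pm.h01 _) hv
  have h := mul_mem (mul_mem (D.good_A_ext0 S) (D.good_Φ α 1)) (inv_mem (D.good_A_ext0 S))
  rwa [D.Φ_conj, hS, Odd.ext0_e] at h

theorem good_lam {M : Matrix (Fin (k + 1)) (Fin (k + 1)) F} (hM : J.σ (M 0 0) = -M 0 0) :
    ((D.lam M).toMul : D.N).1 ∈ D.Good := by
  classical
  let T : AddSubgroup (Additive D.N) := (D.Good.comap D.N.subtype).toAddSubgroup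
  suffices h : D.lam M ∈ T from h
  show ∑ p : Fin (k + 1) × Fin (k + 1), D.cz (Pi.single p.1 (M p.1 p.2)) (Pi.single p.2 1) ∈ T
  refine sum_mem fun p _ => ?_
  obtain ⟨i, j⟩ := p
  show D.cz (Pi.single i (M i j)) (Pi.single j 1) ∈ T
  rcases eq_or_ne i 0 with rfl | hi <;> rcases eq_or_ne j 0 with rfl | hj
  · rw [D.diag_skew 0 hM]; exact zero_mem _
  · exact D.good_tail _ (Pi.single_eq_of_ne (Ne.symm hj) _)
  · rw [D.cz_comm]; exact D.good_tail _ (Pi.single_eq_of_ne (Ne.symm hi) _)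
  · show D.Φ _ _ ∈ D.Good
    rw [Φ]
    exact mul_mem (mul_mem (inv_mem (D.good_X (Pi.single_eq_of_ne (Ne.symm hi) _)))
      (inv_mem (D.good_X (Pi.single_eq_of_ne (Ne.symm hj) _))))
      (D.good_X (by simp [Ne.symm hi, Ne.symm hj]))

theorem Pq_le_Good : D.Pq ≤ D.Good := by
  intro y hy
  obtain ⟨hK, H, X, hu, C, e, hH, hX, hC⟩ := D.mem_Pq.1 hy
  obtain ⟨n, hn, en⟩ := D.N_surj hu
  obtain rfl : y = n * D.A C := D.base.eq_K hK (mul_mem (D.N_mem_K hn) (D.base.A_mem C)) (by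
    rw [e, map_mul, en, D.πA])
  refine mul_mem ?_ (D.good_row hC)
  obtain ⟨M, rfl⟩ := D.exists_lam hn
  rw [D.π_lam] at en
  have h00 := congrFun (congrFun (uM_inj en).1 0) 0
  rw [Matrix.smul_apply, Matrix.add_apply, hH, smul_eq_mul, mul_eq_zero, or_iff_right J.η_ne] at h00
  exact D.good_lam (eq_neg_of_add_eq_zero_right h00)

theorem compat {y : G} (hy : y ∈ D.Pq) : D.t * y * D.t⁻¹ ∈ D.Pq := (D.Pq_le_Good hy).1.2

theorem compat' {y : G} (hy : y ∈ D.Pq) : D.t⁻¹ * y * D.t ∈ D.Pq := by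
  have := (D.Pq_le_Good hy).2
  change D.t⁻¹ * y * D.t⁻¹⁻¹ ∈ D.Pq at this
  rwa [inv_inv] at this

theorem t_norm : D.t ∈ Subgroup.normalizer (D.Pq : Set G) := by
  refine Subgroup.mem_normalizer_iff.2 fun y => ⟨D.compat, fun hy => ?_⟩
  have := D.compat' hy
  rwa [show D.t⁻¹ * (D.t * y * D.t⁻¹) * D.t = y by group] at this

theorem π_xa (c : F) : ∀ h : J.η * (c * J.σ c) + J.σ (J.η * (c * J.σ c)) + ∑ e : Fin 0, (0 : F) * J.σ 0 = 0,
    π (D.X (Pi.single 0 c)) = uM (rel0 (m := k + 1) (v := fun _ : Fin 0 => (0 : F)) h) := fun h => by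
  rw [D.π_X]
  exact uM_congr _ _ (e_single c) (Subsingleton.elim _ _)

theorem xa_rel (c : F) : J.η * (c * J.σ c) + J.σ (J.η * (c * J.σ c)) + ∑ e : Fin 0, (0 : F) * J.σ 0 = 0 := by
  simp only [map_mul, J.η_skew, J.inv2, Finset.univ_eq_empty, Finset.sum_empty]; ring

theorem X0_norm (α : F) : D.X (Pi.single 0 α) ∈ Subgroup.normalizer (D.Pq : Set G) := by
  have hk := D.N_mem_K (D.X_mem (Pi.single 0 α))
  have hN : π (D.X (Pi.single 0 α)) ∈ Subgroup.normalizer (Qm J (k + 1) 0 : Set (Mg J (k + 1) 0)) := by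
    rw [D.π_xa α (xa_rel α)]; exact Qm_conj_normalizer0 (xa_rel α)
  refine Subgroup.mem_normalizer_iff.2 fun y => ?_
  rw [mem_Pq, mem_Pq, map_mul, map_mul, map_inv, ← Subgroup.mem_normalizer_iff.1 hN (π y)]
  refine and_congr_left fun _ => ⟨fun h => mul_mem (mul_mem hk h) (inv_mem hk), fun h => ?_⟩
  have := mul_mem (mul_mem (inv_mem hk) h) hk
  simpa [mul_assoc] using this

theorem h_norm_Pq : D.h ∈ Subgroup.normalizer (D.Pq : Set G) := by
  have ha : ∀ c, Pm.xa D.A D.x c ∈ Subgroup.normalizer (D.Pq : Set G) := fun c => by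
    rw [xa_eq]; exact D.X0_norm c
  rw [h, Pm.he]
  exact mul_mem (mul_mem (mul_mem (inv_mem (ha _)) (mul_mem (mul_mem D.t_norm (ha _)) (inv_mem D.t_norm)))
    (inv_mem (ha _))) (inv_mem D.t_norm)

theorem conj_mem_K {g : G} (h1 : g ∈ Subgroup.normalizer (D.Pq : Set G))
    (h2 : g ∈ Subgroup.normalizer (D.A.range : Set G)) {y : G} (hy : y ∈ D.base.K) :
    g * y * g⁻¹ ∈ D.base.K := by
  let T : Subgroup G := D.base.K.comap (MulAut.conj g).toMonoidHom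
  suffices h : D.base.K ≤ T from h hy
  have hA : ∀ C, D.A C ∈ T := fun C => by
    obtain ⟨C', hC'⟩ := (Subgroup.mem_normalizer_iff.1 h2 _).1 ⟨C, rfl⟩
    show g * D.A C * g⁻¹ ∈ D.base.K
    rw [← hC']; exact D.base.A_mem C'
  refine sup_le ?_ (by rintro _ ⟨C, rfl⟩; exact hA C)
  show D.N ≤ T
  rw [N, Subgroup.closure_le]
  rintro _ ⟨v, rfl⟩
  show D.X v ∈ T
  rcases eq_or_ne v 0 with rfl | hv
  · rw [X_zero]; exact one_mem _
  obtain ⟨C, hC⟩ := exists_Cv hv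
  have e : D.X v = D.A (C * Pm.w10⁻¹) * D.X (Pi.single 1 1) * (D.A (C * Pm.w10⁻¹))⁻¹ := by
    rw [D.X_conj]
    congr 1
    rw [Matrix.SpecialLinearGroup.coe_mul, ← Matrix.mulVec_mulVec, ← Pm.w10_mulVec,
      Matrix.mulVec_mulVec _ (Pm.w10⁻¹).1 Pm.w10.1, ← Matrix.SpecialLinearGroup.coe_mul, inv_mul_cancel,
      Matrix.SpecialLinearGroup.coe_one, Matrix.one_mulVec, hC]
  rw [e]
  refine mul_mem (mul_mem (hA _) ?_) (inv_mem (hA _))
  exact (D.mem_Pq.1 ((Subgroup.mem_normalizer_iff.1 h1 _).1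
    (D.X_mem_Pq (Pi.single_eq_of_ne Pm.h01 _)))).1

theorem π_h_one {i : ℕ} (hi : Q.n0 ^ i = 1) : π (D.h ^ i) = 1 := by
  obtain ⟨C, μ, hC, eC, e⟩ := D.exists_πh
  obtain ⟨h', e'⟩ := lM_pow hC i
  rw [map_pow, e, e']
  have e1 : (C ^ i).1 = (SpecialLinearGroup.toGL (1 : SpecialLinearGroup (Fin (k + 1)) F)).1 := by
    rw [map_one, Units.val_one, Units.val_pow_eq_pow_val, eC, d0, Matrix.diagonal_pow, ← Matrix.diagonal_one]
    congr 1
    funext a
    simp only [Pi.pow_apply]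
    split_ifs <;> simp [hi]
  rw [lM_congr zero_le_one h' (levOK_sl 1) e1]
  exact map_one (slM J (k + 1) 0)

theorem t_h_t : D.t * D.h * D.t⁻¹ = D.h⁻¹ := by
  obtain ⟨N, hN⟩ := D.sq
  have h2 : D.t * (D.t * D.A (Pm.dl Q.ζ) * D.t⁻¹) * D.t⁻¹ = D.A (Pm.dl Q.ζ) := by
    rw [show D.t * (D.t * D.A (Pm.dl Q.ζ) * D.t⁻¹) * D.t⁻¹ =
      D.t * D.t * D.A (Pm.dl Q.ζ) * (D.t * D.t)⁻¹ by group, hN, (D.h_comm_dl.pow_left N).eq, mul_inv_cancel_right]
  rw [D.td, show D.t * ((Q.he D.A D.x D.t)⁻¹ * D.A (Pm.dl Q.ζ)) * D.t⁻¹ =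
    (D.t * D.h * D.t⁻¹)⁻¹ * (D.t * D.A (Pm.dl Q.ζ) * D.t⁻¹) by rw [h]; group, D.td, ← mul_assoc,
    mul_eq_right] at h2
  calc D.t * D.h * D.t⁻¹ = ((D.t * D.h * D.t⁻¹)⁻¹)⁻¹ := (inv_inv _).symm
    _ = D.h⁻¹ := by rw [mul_eq_one_iff_eq_inv.1 h2, inv_inv]

theorem h_ord (i : ℕ) (hi : Q.n0 ^ i = 1) : D.h ^ i = 1 := by
  rcases D.red with ⟨hperf, hred⟩ | h
  swap
  · exact h i hi
  have h1 := D.π_h_one hi
  set r := D.h ^ i with hr
  have hconj : ∀ y, π (r * y * r⁻¹) = π y := fun y => by simp [h1]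
  have hA : ∀ C, Commute (D.A C) r := fun C => by
    obtain ⟨C', hC'⟩ := (Subgroup.mem_normalizer_iff.1 (pow_mem D.h_mem_NA i) _).1 ⟨C, rfl⟩
    rw [← hr] at hC'
    obtain rfl : C' = C := D.A_inj (by rw [hC', hconj])
    exact eq_mul_inv_iff_mul_eq.1 hC'
  have hx : Commute D.x r := by
    have hk : D.x ∈ D.base.K := D.X_e0 ▸ D.N_mem_K (D.X_mem _)
    have := D.base.eq_K (D.conj_mem_K (pow_mem D.h_norm_Pq i) (pow_mem D.h_mem_NA i) hk) hk (hconj _)
    exact (mul_inv_eq_iff_eq_mul.1 this).symm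
  have ht : D.t * r * D.t⁻¹ = r⁻¹ := by rw [hr, ← conj_pow, D.t_h_t, inv_pow]
  have ht' : D.t⁻¹ * r * D.t = r⁻¹ := by
    have e : D.t * r⁻¹ * D.t⁻¹ = r := by
      rw [show D.t * r⁻¹ * D.t⁻¹ = (D.t * r * D.t⁻¹)⁻¹ by group, ht, inv_inv]
    calc D.t⁻¹ * r * D.t = D.t⁻¹ * (D.t * r⁻¹ * D.t⁻¹) * D.t := by rw [e]
      _ = _ := by group
  have hn : ∀ g : G, g * r * g⁻¹ ∈ Subgroup.zpowers r ∧ g⁻¹ * r * g ∈ Subgroup.zpowers r →
      g ∈ Subgroup.normalizer (Subgroup.zpowers r : Set G) := by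
    rintro g ⟨hg, hg'⟩
    refine Subgroup.mem_normalizer_iff.2 fun y => ⟨fun hy => ?_, fun hy => ?_⟩
    · obtain ⟨j, rfl⟩ := Subgroup.mem_zpowers_iff.1 hy
      rw [← conj_zpow]; exact Subgroup.zpow_mem _ hg j
    · obtain ⟨j, hj⟩ := Subgroup.mem_zpowers_iff.1 hy
      rw [show y = g⁻¹ * r ^ j * g⁻¹⁻¹ by rw [hj]; group, ← conj_zpow, inv_inv]
      exact Subgroup.zpow_mem _ hg' j
  have hc : ∀ g, Commute g r → g * r * g⁻¹ ∈ Subgroup.zpowers r ∧ g⁻¹ * r * g ∈ Subgroup.zpowers r := fun g hg =>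
    ⟨by rw [hg.eq, mul_inv_cancel_right]; exact Subgroup.mem_zpowers r,
      by rw [mul_assoc, ← hg.eq, inv_mul_cancel_left]; exact Subgroup.mem_zpowers r⟩
  have htop : Subgroup.normalizer (Subgroup.zpowers r : Set G) = ⊤ := by
    rw [eq_top_iff, ← D.gen, Subgroup.closure_le]
    rintro g (⟨C, rfl⟩ | rfl | rfl)
    · exact hn _ (hc _ (hA C))
    · exact hn _ (hc _ hx)
    · exact hn _ ⟨ht ▸ inv_mem (Subgroup.mem_zpowers r), ht' ▸ inv_mem (Subgroup.mem_zpowers r)⟩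
  refine hred r h1 (central_of_cyclic hperf r fun g => ?_)
  exact (Subgroup.mem_normalizer_iff.1 (htop ▸ Subgroup.mem_top g) r).1 (Subgroup.mem_zpowers r)

theorem t_dl_t (c : F) : c ≠ 0 → ∃ i : ℕ, D.t * D.A (Pm.dl c) * D.t⁻¹ = (D.h⁻¹ * D.A (Pm.dl Q.ζ)) ^ i := by
  intro hc
  obtain ⟨i, hi⟩ := Q.gen c hc
  refine ⟨i, ?_⟩
  have hdl : Pm.dl (k := k) c = Pm.dl Q.ζ ^ i := by
    refine Subtype.ext ?_
    rw [Matrix.SpecialLinearGroup.coe_pow, Pm.dl_coe hc, Pm.dl_coe Q.ζ_ne, Matrix.diagonal_pow]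
    congr 1
    funext a
    rw [Pi.pow_apply]
    split_ifs <;> simp [inv_pow, hi]
  rw [hdl, map_pow, ← conj_pow, D.td]

/-- The parabolic data. -/
noncomputable def par : ParData J (k + 1) 0 π where
  toBase := D.base
  hm := by have := D.hk; omega
  t := D.t
  πt := D.πt
  h := D.h
  ζ := Q.n0
  πh := D.exists_πh
  det_pow C μ hC := by
    have hd := hC.det
    rw [pow_zero, mul_one] at hd
    have hi : C.1.det * (C⁻¹).1.det = 1 := by rw [← det_mul, ← Units.val_mul, mul_inv_cancel, Units.val_one, det_one]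
    obtain ⟨i, hi⟩ := Q.n0_gen hC.det_ne (a := C.1.det) (by
      have h2 := congrArg J.σ hi
      rw [map_mul, map_one] at h2
      exact mul_right_cancel₀ (right_ne_zero_of_mul_eq_one hd) (h2.trans hd.symm))
    exact ⟨i, hi.symm⟩
  h_norm y hy := D.conj_mem_K D.h_norm_Pq D.h_mem_NA hy
  h_norm' y hy := by
    simpa using D.conj_mem_K (inv_mem D.h_norm_Pq) (inv_mem D.h_mem_NA) hy
  h_ord := D.h_ord
  sq := by
    obtain ⟨N, hN⟩ := D.sq
    rw [hN]; exact Subgroup.mem_sup_right (pow_mem (Subgroup.mem_zpowers _) N)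
  t_h1 h01 := by
    have e : wj (F := F) h01 = Pm.w01 := Subtype.ext (by
      rw [Pm.w01, wj_coe, wj_coe, show (⟨1, _⟩ : Fin (k + 1)) = 1 from
        Fin.ext (by rw [Fin.val_one', Nat.mod_eq_of_lt (by have := D.hk; omega)])])
    show Commute D.t (D.A (wj h01) * D.h * (D.A (wj h01))⁻¹)
    rw [e]; exact D.t_h1
  compat0 y hy H X hu C e hH hC0 hC := by
    have hy' : y ∈ D.Pq := D.mem_Pq.2 ⟨hy, H, X, hu, C, e, hH, fun e => e.elim0, fun b => by
      rcases eq_or_ne b 0 with rfl | hb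
      · rw [if_pos rfl]; exact hC0
      · rw [if_neg (Ne.symm hb)]; exact hC b hb⟩
    exact Subgroup.mem_sup_left (D.mem_Pq.1 (D.compat hy')).1
  corner C μ hC h0 hrow := by
    obtain ⟨i, hi⟩ := D.t_dl_t _ h0
    refine ⟨D.A (Pm.dl (C.1 0 0)), Subgroup.mem_sup_left (D.base.A_mem _), ?_, _, _,
      levOK_sl (Pm.dl (C.1 0 0)), D.πA _, ?_, fun b hb => ?_⟩
    · rw [hi]
      exact pow_mem (mul_mem (inv_mem (Subgroup.mem_sup_right (Subgroup.mem_zpowers _)))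
        (Subgroup.mem_sup_left (D.base.A_mem _))) i
    · show (Pm.dl (C.1 0 0)).1 0 0 = _
      rw [Pm.dl_coe h0]; simp
    · show (Pm.dl (C.1 0 0)).1 0 b = 0
      rw [Pm.dl_coe h0]; simp [Ne.symm hb]

theorem xa_mem_P (c : F) : Pm.xa D.A D.x c ∈ D.par.P := by
  rw [xa_eq]; exact D.par.K_le (D.N_mem_K (D.X_mem _))

theorem cell : ∀ u ∈ D.par.P, IsU 0 (π u) → π u ≠ 1 →
    ∃ a ∈ D.par.P, ∃ b ∈ D.par.P, IsU 0 (π b) ∧ D.t * u * D.t⁻¹ = a * D.t * b := by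
  intro u hu ⟨c, xv, hrel, eu⟩ hu1
  have hs : J.σ c = -c := by
    have h := congrFun (congrFun hrel 0) 0
    rw [rowM_mul, st_single] at h
    simp at h
    linear_combination h
  obtain ⟨β, hβ⟩ := Q.norm (c / J.η) (by rw [map_div₀, hs, J.η_skew, neg_div_neg_eq])
  have hc : c = J.η * (β * J.σ β) := by
    have := J.η_ne
    rw [mul_comm β, hβ]; field_simp
  have hβ0 : β ≠ 0 := fun e => hu1 (by
    rw [eu]; exact uM0_eq_one _ (by rw [hc, e]; simp))
  have hu' : u = D.X (Pi.single 0 β) := D.par.eq_P hu (D.par.K_le (D.N_mem_K (D.X_mem _))) (by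
    rw [eu, D.π_X]
    exact uM_congr _ _ (by rw [e_single, hc]) (Subsingleton.elim _ _))
  have hl : β * Q.ζ ≠ 0 := mul_ne_zero hβ0 Q.ζ_ne
  set T := D.A (Pm.dl (β * Q.ζ)) with hT
  set b := Pm.xa D.A D.x (Q.io * Q.ζ) with hb
  have hconj : ∀ e, T * Pm.xa D.A D.x e * T⁻¹ = D.X (Pi.single 0 (β * Q.ζ * e)) := fun e => by
    rw [hT, xa_eq, X_conj, show (Pi.single 0 e : Fin (k + 1) → F) = e • Pi.single 0 1 by
      rw [← Pi.single_smul, smul_eq_mul, mul_one], Matrix.mulVec_smul, Pm.dl_mulVec hl, ← Pi.single_smul,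
      smul_eq_mul, mul_comm e]
  have hu2 : u = T * Pm.xa D.A D.x Q.ζ⁻¹ * T⁻¹ := by
    rw [hconj, hu', mul_inv_cancel_right₀ Q.ζ_ne]
  obtain ⟨i, hi⟩ := D.t_dl_t _ hl
  have hTP : T ∈ D.par.P := D.par.K_le (D.base.A_mem _)
  have hp : D.t * T * D.t⁻¹ ∈ D.par.P := by
    rw [hT, hi]
    exact pow_mem (mul_mem (inv_mem D.par.h_mem) (D.par.K_le (D.base.A_mem _))) i
  set p := D.t * T * D.t⁻¹ with hpdef
  have hq : D.t * p⁻¹ * D.t⁻¹ ∈ D.par.P := by
    rw [hpdef, show D.t * (D.t * T * D.t⁻¹)⁻¹ * D.t⁻¹ = D.t * D.t * T⁻¹ * (D.t * D.t)⁻¹ by group]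
    exact mul_mem (mul_mem D.par.sq (inv_mem hTP)) (inv_mem D.par.sq)
  refine ⟨p * b * D.h * (D.t * p⁻¹ * D.t⁻¹), mul_mem (mul_mem (mul_mem hp (D.xa_mem_P _)) D.par.h_mem) hq,
    p * b * p⁻¹, mul_mem (mul_mem hp (D.xa_mem_P _)) (inv_mem hp), ?_, ?_⟩
  · obtain ⟨C, μ, hC, eC, ei⟩ : ∃ (C : GL (Fin (k + 1)) F) (μ : F) (hC : LevOK J 0 C μ),
        (∀ a b, a ≠ b → C.1 a b = 0) ∧ π p = lM hC := by
      obtain ⟨C₀, μ₀, hC₀, eC₀, e₀⟩ := D.exists_πh
      obtain ⟨h₁, e₁⟩ := lM_inv hC₀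
      obtain ⟨h₂, e₂⟩ := lM_mul h₁ (levOK_sl (J := J) (ε := 0) (Pm.dl (k := k) Q.ζ))
      obtain ⟨h₃, e₃⟩ := lM_pow h₂ i
      have hd : (C₀⁻¹).1 = d0 Q.n0⁻¹ := by
        calc (C₀⁻¹).1 = (C₀⁻¹).1 * (C₀.1 * d0 Q.n0⁻¹) := by
              rw [eC₀, d0_mul, mul_inv_cancel₀ Q.n0_ne, show d0 (m := k + 1) (1 : F) = 1 by simp [d0], Matrix.mul_one]
          _ = _ := by rw [← Matrix.mul_assoc, ← Units.val_mul, inv_mul_cancel, Units.val_one, Matrix.one_mul]
      refine ⟨_, _, h₃, fun a b hab => ?_, ?_⟩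
      · rw [Units.val_pow_eq_pow_val, Units.val_mul, hd]
        show ((d0 (m := k + 1) Q.n0⁻¹ * (Pm.dl (k := k) Q.ζ).1) ^ i : Matrix (Fin (k + 1)) (Fin (k + 1)) F) a b = 0
        rw [Pm.dl_coe Q.ζ_ne, d0, Matrix.diagonal_mul_diagonal, Matrix.diagonal_pow, Matrix.diagonal_apply_ne _ hab]
      · rw [hi, map_pow, map_mul, map_inv, e₀, D.πA, e₁]
        show (lM h₁ * lM (levOK_sl _)) ^ i = _
        rw [e₂, e₃]
    have hb' : π b = uM (erel (Pi.single (0 : Fin (k + 1)) (Q.io * Q.ζ))) := by rw [hb, xa_eq, D.π_X]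
    rw [map_mul, map_mul, map_inv, hb', ei, lM_uM, mul_inv_cancel_right]
    refine ⟨C.1 0 0 * (J.η * (Q.io * Q.ζ * J.σ (Q.io * Q.ζ))) * J.σ (C.1 0 0), Fin.elim0, ?_,
      uM_congr _ _ ?_ (Subsingleton.elim _ _)⟩
    · rw [rowM_mul, st_single, ← Matrix.single_add, ← Matrix.single_add]
      convert Matrix.single_zero (0 : Fin (k + 1)) (0 : Fin (k + 1)) using 2
      simp only [map_mul, J.η_skew, J.inv2, Finset.univ_eq_empty, Finset.sum_empty]
      ring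
    · rw [e_single]
      ext a d
      simp only [Matrix.mul_apply, Matrix.single_apply, st, Matrix.transpose_apply, Matrix.map_apply]
      rw [Finset.sum_eq_single 0 ?_ (by simp), Finset.sum_eq_single 0 ?_ (by simp)]
      · by_cases ha : a = 0 <;> by_cases hd : d = 0 <;> simp [ha, hd, Ne.symm, eC]
      · intro x _ hx; simp [Ne.symm hx]
      · intro x _ hx
        rw [Finset.sum_eq_zero fun y _ => by simp [Ne.symm hx], zero_mul]
  · rw [hu2, hpdef, hb, show D.h = Q.he D.A D.x D.t from rfl, Pm.he]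
    group

include D in
/-- A covering with the relations is faithful. -/
theorem injective : Function.Injective π := by
  haveI := Fintype.ofFinite F
  have hS : ∀ S : SpecialLinearGroup (Fin (k + 1)) F, (∀ b, S.1 0 b = if 0 = b then 1 else 0) →
      (∀ a, S.1 a 0 = if a = 0 then 1 else 0) → Commute (D.par.A S) D.par.t := fun S hr hc => by
    obtain ⟨S', rfl⟩ := exists_ext0 S hr hc
    exact D.tS S'
  have h01 : (0 : Fin (k + 1)) ≠ ⟨1, D.par.hm⟩ := by simp [Fin.ext_iff]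
  have ew : wj (F := F) h01 = Pm.w01 := Subtype.ext (by
    rw [Pm.w01, wj_coe, wj_coe, show (⟨1, _⟩ : Fin (k + 1)) = 1 from
      Fin.ext (by rw [Fin.val_one', Nat.mod_eq_of_lt (by have := D.hk; omega)])])
  have ht : Commute D.par.t (D.par.A (wj h01) * D.par.t * (D.par.A (wj h01))⁻¹) := by
    rw [ew]; exact D.tt1
  let core : Core J G π :=
    { hε := zero_le_one
      hm := D.par.hm
      P := D.par.P
      kfP := fun p hp => D.par.kf_P hp
      inj := fun p hp h => D.par.inj_P hp h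
      surj := D.par.surj_P
      t := D.t
      πt := D.πt
      sq := D.par.sq
      compat := fun p hp h => D.par.compat_P hp h
      cell := D.cell
      comm := fun j hj w hw e => D.par.comm_P h01 ht hS j hj hw e
      gen := by
        rw [eq_top_iff, ← D.gen, Subgroup.closure_le]
        rintro g (⟨C, rfl⟩ | rfl | rfl)
        · exact Subgroup.subset_closure (Or.inl (D.par.K_le (D.base.A_mem C)))
        · exact Subgroup.subset_closure (Or.inl (D.par.K_le (D.N_mem_K (D.X_e0 ▸ D.X_mem _))))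
        · exact Subgroup.subset_closure (Or.inr rfl) }
  exact (injective_iff_map_eq_one π).2 fun g hg => core.injective g hg

end Ev

end Cfsg.Lib.Linear.ShortPres.SUN
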