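import Cfsg.Agent.Lib.Linear.ShortPres.SUN.EvenA
import Cfsg.Agent.Lib.Linear.ShortPres.SUN.Cells

/-!
# Even dimension: the relations hold in the model
-/

set_option autoImplicit false
set_option linter.unusedSectionVars false

namespace Cfsg.Lib.Linear.ShortPres.SUN

open Matrix Cfsg.Lib.Linear.SUDegree Cfsg.Lib.Linear.Herm
open scoped commutatorElement

variable {F : Type*} [Field F] [Finite F] {J : Conj F} {k : ℕ} [NeZero k]

theorem d0_pow' {m : ℕ} [NeZero m] (c : F) (i : ℕ) : d0 (m := m) c ^ i = d0 (c ^ i) := by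
  rw [d0, Matrix.diagonal_pow, d0]
  congr 1
  funext a
  simp only [Pi.pow_apply]
  split_ifs <;> simp

variable (Q : Pm J)

theorem exs (C : SpecialLinearGroup (Fin (k + 1)) F) :
    Pm.xs (slM J (k + 1) 0) (xE J k) C = uM (erel (C.1 *ᵥ Pi.single 0 1)) :=
  slM_uM_e C _

theorem mhe_pow (i : ℕ) : ∃ (C : GL (Fin (k + 1)) F) (μ : F) (hC : LevOK J 0 C μ),
    C.1 = d0 (Q.n0 ^ i) ∧ Q.he (slM J (k + 1) 0) (xE J k) (tM J 0 0) ^ i = lM hC := by
  obtain ⟨C, μ, hC, eC, e⟩ := mhe (k := k) Q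
  obtain ⟨h', e'⟩ := lM_pow hC i
  exact ⟨_, _, h', by rw [Units.val_pow_eq_pow_val, eC, d0_pow'], by rw [e, e']⟩

theorem me_fix (C : SpecialLinearGroup (Fin (k + 1)) F) (hC : C.1 *ᵥ Pi.single 0 1 = Pi.single 0 1) :
    Commute (slM J (k + 1) 0 C) (xE J k) := by
  refine mul_inv_eq_iff_eq_mul.1 ((slM_uM_e C _).trans ?_)
  exact uM_congr _ _ (by rw [hC]) rfl

theorem me_fix1 : Commute (slM J (k + 1) 0 (Pm.dl Q.nu)) (xE J k) := by
  have hnu : Q.nu ≠ 0 := div_ne_zero Q.ζ_ne (by simpa using Q.ζ_ne)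
  have hn : Q.nu * J.σ Q.nu = 1 := by
    have h2 : J.σ Q.ζ ≠ 0 := by simpa using Q.ζ_ne
    have h1 := Q.ζ_ne
    rw [Pm.nu, map_div₀, J.inv2]; field_simp
  refine mul_inv_eq_iff_eq_mul.1 ((slM_uM_e _ _).trans ?_)
  exact uM_congr _ _ (by rw [Pm.dl_mulVec hnu, e_single, e_single, hn]; simp) rfl

theorem me_comm01 : Commute (xE J k) (Pm.xs (slM J (k + 1) 0) (xE J k) Pm.w10) := by
  rw [exs, xE]
  obtain ⟨h1, e1⟩ := uM_mul0 (erel (J := J) (Pi.single (0 : Fin (k + 1)) (1 : F)))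
    (erel ((Pm.w10 (F := F) (k := k)).1 *ᵥ Pi.single 0 1))
  obtain ⟨h2, e2⟩ := uM_mul0 (erel (J := J) ((Pm.w10 (F := F) (k := k)).1 *ᵥ Pi.single 0 1))
    (erel (Pi.single (0 : Fin (k + 1)) (1 : F)))
  exact e1.trans ((uM_congr _ _ (add_comm _ _) rfl).trans e2.symm)

theorem me_tS (S : SpecialLinearGroup (Fin k) F) :
    Commute (slM J (k + 1) 0 (ext0 S)) (tM J 0 (0 : Fin (k + 1))) :=
  slM_tM_comm _ _ (fun b => (ext0_apply S).1 b) (fun a => (ext0_apply S).2.1 a)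

theorem me_hW : slM J (k + 1) 0 (tv (Pm.h01 (k := k)).symm 1) * tM J 0 0 =
    tM J 0 0 * Pm.ph (slM J (k + 1) 0) (xE J k) := by
  obtain ⟨hu, e⟩ := tv_tM (J := J) (ε := 0) (Pm.h01 (k := k)).symm (1 : F)
  obtain ⟨h1, e1⟩ := uM_inv (erel (J := J) (Pi.single (0 : Fin (k + 1)) (1 : F)))
  obtain ⟨h2, e2⟩ := uM_inv (erel (J := J) ((Pm.w10 (F := F) (k := k)).1 *ᵥ Pi.single 0 1))
  obtain ⟨h3, e3⟩ := uM_mul0 h1 h2
  obtain ⟨h4, e4⟩ := uM_mul0 h3 (erel ((tv (Pm.h01 (k := k)).symm (1 : F)).1 *ᵥ Pi.single 0 1))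
  rw [e, Pm.ph, exs, exs, xE, e1, e2, e3, e4]
  congr 1
  refine uM_congr _ _ ?_ rfl
  have e5 : (tv (Pm.h01 (k := k)).symm (1 : F)).1 *ᵥ Pi.single 0 1 = Pi.single (0 : Fin (k + 1)) 1 + Pi.single 1 1 :=
    funext fun a => by
      rw [tv_mul_apply, Pi.add_apply]
      rcases eq_or_ne a 1 with rfl | ha <;> simp [*, Pm.h01, Pm.h01.symm]
  rw [e5, Pm.w10_mulVec]
  ext i j
  simp [Cfsg.Lib.Linear.SUDegree.st, Matrix.mul_apply, J.η_skew, J.inv2, Matrix.single_apply]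
  have hne := Pm.h01 (k := k)
  by_cases a1 : i = 0 <;> by_cases a2 : j = 0 <;> by_cases a3 : i = 1 <;> by_cases a4 : j = 1 <;>
    simp [a1, a2, a3, a4, hne, hne.symm, Ne.symm] <;> ring

theorem me_sq : ∃ N : ℕ, tM J 0 0 * tM J 0 0 = Q.he (slM J (k + 1) 0) (xE J k) (tM J 0 0) ^ N := by
  obtain ⟨N, hN⟩ := Q.n0_gen (neg_ne_zero.2 one_ne_zero) (by rw [map_neg, map_one])
  obtain ⟨C, μ, hC, eC, e⟩ := mhe_pow (k := k) Q N
  refine ⟨N, mat_inj ?_⟩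
  rw [e, tM_mul_self_entries, mat_lM]
  have eC' : C.1 = sg 0 := by rw [eC, hN, sg, d0]
  have eCi : (C⁻¹).1 = sg 0 := by
    calc (C⁻¹).1 = (C⁻¹).1 * (C.1 * sg 0) := by rw [eC', sg_sq, Matrix.mul_one]
      _ = _ := by rw [← Matrix.mul_assoc, ← Units.val_mul, inv_mul_cancel, Units.val_one, Matrix.one_mul]
  rw [eC', eCi]
  simp only [lMat]
  congr 1
  exact Subsingleton.elim _ _

theorem me_hσ : slM J (k + 1) 0 Pm.w01 * Q.he (slM J (k + 1) 0) (xE J k) (tM J 0 0) *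
    (slM J (k + 1) 0 Pm.w01)⁻¹ =
      Q.he (slM J (k + 1) 0) (xE J k) (tM J 0 0) * slM J (k + 1) 0 (Pm.dl Q.n0⁻¹) := by
  obtain ⟨C, μ, hC, eC, e⟩ := mhe (k := k) Q
  rw [mul_inv_eq_iff_eq_mul, e, mul_assoc, ← map_mul]
  show lM (levOK_sl _) * lM hC = lM hC * lM (levOK_sl _)
  obtain ⟨h1, e1⟩ := lM_mul (levOK_sl (J := J) (ε := 0) (Pm.w01 (F := F) (k := k))) hC
  obtain ⟨h2, e2⟩ := lM_mul hC (levOK_sl (J := J) (ε := 0) (Pm.dl (F := F) (k := k) Q.n0⁻¹ * Pm.w01))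
  rw [e1, e2]
  refine lM_congr zero_le_one _ _ ?_
  rw [Units.val_mul, Units.val_mul, eC]
  show Pm.w01.1 * d0 Q.n0 = d0 Q.n0 * (Pm.dl Q.n0⁻¹ * Pm.w01).1
  rw [Matrix.SpecialLinearGroup.coe_mul, ← Matrix.mul_assoc, Pm.dl_coe (inv_ne_zero Q.n0_ne), d0,
    Matrix.diagonal_mul_diagonal, Pm.w01, wj_coe]
  have hζ := Q.n0_ne
  ext a b
  rw [Matrix.mul_diagonal, Matrix.diagonal_mul]
  rcases eq_or_ne a 0 with rfl | ha
  · rcases eq_or_ne b 0 with rfl | hb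
    · simp [Matrix.single_apply, Pm.h01, Pm.h01.symm]
    · simp [Matrix.single_apply, Pm.h01, Pm.h01.symm, hb, hζ]
  · rcases eq_or_ne a 1 with rfl | ha1
    · rcases eq_or_ne b 0 with rfl | hb
      · simp [Matrix.single_apply, Pm.h01, Pm.h01.symm]
      · simp [Matrix.single_apply, Matrix.one_apply, Pm.h01, Pm.h01.symm, hb, Ne.symm hb]
    · rcases eq_or_ne b 0 with rfl | hb
      · simp [Matrix.single_apply, Matrix.one_apply, ha, ha1, Ne.symm ha, Ne.symm ha1, Pm.h01, Pm.h01.symm]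
      · simp [Matrix.single_apply, Matrix.one_apply, ha, ha1, Ne.symm ha, Ne.symm ha1, Pm.h01, Pm.h01.symm, hb, Ne.symm hb]

/-- Moving a diagonal element past the reflection. -/
theorem tM_diag {C C' : GL (Fin (k + 1)) F} {μ μ' : F} (h : LevOK J 0 C μ) (h' : LevOK J 0 C' μ')
    {f g f' g' : Fin (k + 1) → F} (ef : C.1 = diagonal f) (eg : (C⁻¹).1 = diagonal g)
    (ef' : C'.1 = diagonal f') (eg' : (C'⁻¹).1 = diagonal g') (h0 : f' 0 = J.σ (g 0)) (h1 : J.σ (g' 0) = f 0)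
    (hf : ∀ a, a ≠ 0 → f' a = f a) (hg : ∀ a, a ≠ 0 → g' a = g a) :
    tM J 0 0 * lM h = lM h' * tM J 0 0 := by
  have hst : ∀ v : Fin (k + 1) → F, st J.σ (diagonal v) = diagonal fun a => J.σ (v a) := fun v => by
    rw [st, Matrix.diagonal_map (map_zero _), Matrix.diagonal_transpose]
  refine mat_inj ?_
  rw [mat_mul, mat_mul, mat_tM, mat_lM, mat_lM, ef, eg, ef', eg', lMat, lMat, hst, hst]
  simp only [fromBlocks_multiply, Matrix.mul_zero, Matrix.zero_mul, add_zero, zero_add]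
  congr 1
  · congr 1 <;>
    · ext a b
      simp only [Matrix.sub_mul, Matrix.mul_sub, Matrix.smul_mul, Matrix.mul_smul, Matrix.one_mul, Matrix.mul_one,
        Matrix.sub_apply, Matrix.smul_apply, Matrix.mul_diagonal, Matrix.diagonal_mul, Matrix.diagonal_apply,
        Matrix.single_apply]
      rcases eq_or_ne a 0 with rfl | ha <;> rcases eq_or_ne b 0 with rfl | hb <;>
        simp [*, Ne.symm, mul_comm]
      all_goals exact (eq_or_ne a b).imp (fun h => by rw [h]) Matrix.one_apply_ne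
  all_goals exact Subsingleton.elim _ _

theorem me_td : tM J 0 0 * slM J (k + 1) 0 (Pm.dl Q.ζ) * (tM J 0 0)⁻¹ =
    (Q.he (slM J (k + 1) 0) (xE J k) (tM J 0 0))⁻¹ * slM J (k + 1) 0 (Pm.dl Q.ζ) := by
  obtain ⟨C, μ, hC, eC, e⟩ := mhe (k := k) Q
  obtain ⟨h1, e1⟩ := lM_inv hC
  obtain ⟨h2, e2⟩ := lM_mul h1 (levOK_sl (J := J) (ε := 0) (Pm.dl (k := k) Q.ζ))
  rw [mul_inv_eq_iff_eq_mul, e, e1]
  show tM J 0 0 * lM (levOK_sl _) = lM h1 * lM (levOK_sl _) * tM J 0 0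
  rw [e2]
  have hζ := Q.ζ_ne
  have hn := Q.n0_ne
  have hi : (C⁻¹).1 = d0 Q.n0⁻¹ := by
    calc (C⁻¹).1 = (C⁻¹).1 * (C.1 * d0 Q.n0⁻¹) := by
          rw [eC, d0_mul, mul_inv_cancel₀ hn, show d0 (m := k + 1) (1 : F) = 1 by simp [d0], Matrix.mul_one]
      _ = _ := by rw [← Matrix.mul_assoc, ← Units.val_mul, inv_mul_cancel, Units.val_one, Matrix.one_mul]
  have hinv : ((Pm.dl (k := k) Q.ζ)⁻¹).1 =
      diagonal fun i : Fin (k + 1) => if i = 0 then Q.ζ⁻¹ else if i = 1 then Q.ζ else 1 := by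
    calc ((Pm.dl (k := k) Q.ζ)⁻¹).1 = ((Pm.dl (k := k) Q.ζ)⁻¹).1 * ((Pm.dl (k := k) Q.ζ).1 *
        diagonal fun i : Fin (k + 1) => if i = 0 then Q.ζ⁻¹ else if i = 1 then Q.ζ else 1) := by
          rw [Pm.dl_coe hζ, Matrix.diagonal_mul_diagonal, show (fun i : Fin (k + 1) =>
            (if i = 0 then Q.ζ else if i = 1 then Q.ζ⁻¹ else 1) *
              (if i = 0 then Q.ζ⁻¹ else if i = 1 then Q.ζ else 1)) = fun _ => (1 : F) from
              funext fun i => by split_ifs <;> simp [hζ], Matrix.diagonal_one, Matrix.mul_one]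
      _ = _ := by rw [← Matrix.mul_assoc, ← Matrix.SpecialLinearGroup.coe_mul, inv_mul_cancel,
            Matrix.SpecialLinearGroup.coe_one, Matrix.one_mul]
  refine tM_diag _ h2 (f := fun i => if i = 0 then Q.ζ else if i = 1 then Q.ζ⁻¹ else 1)
    (g := fun i => if i = 0 then Q.ζ⁻¹ else if i = 1 then Q.ζ else 1)
    (f' := fun i => (if i = 0 then Q.n0⁻¹ else 1) * if i = 0 then Q.ζ else if i = 1 then Q.ζ⁻¹ else 1)
    (g' := fun i => (if i = 0 then Q.ζ⁻¹ else if i = 1 then Q.ζ else 1) * if i = 0 then Q.n0 else 1)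
    ?_ ?_ ?_ ?_ ?_ ?_ (fun a ha => by simp [ha]) (fun a ha => by simp [ha])
  · exact Pm.dl_coe hζ
  · rw [← map_inv]; exact hinv
  · rw [Units.val_mul, hi]
    show d0 Q.n0⁻¹ * (Pm.dl Q.ζ).1 = _
    rw [Pm.dl_coe hζ, d0, Matrix.diagonal_mul_diagonal]
  · rw [_root_.mul_inv_rev, inv_inv, Units.val_mul, ← map_inv, eC]
    show ((Pm.dl Q.ζ)⁻¹).1 * d0 Q.n0 = _
    rw [hinv, d0, Matrix.diagonal_mul_diagonal]
  · simp [Pm.n0, map_inv₀]; field_simp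
  · simp [Pm.n0, J.inv2]; field_simp; try exact div_self (by simpa using hζ)

theorem me_tt1 : Commute (tM J 0 0) (slM J (k + 1) 0 Pm.w01 * tM J 0 0 * (slM J (k + 1) 0 Pm.w01)⁻¹) := by
  rw [Pm.w01, wj_tM, Equiv.swap_apply_left, mul_inv_cancel_right]
  exact tM_comm Pm.h01

theorem me_tX1 : Commute (tM J 0 0) (Pm.xs (slM J (k + 1) 0) (xE J k) Pm.w10) := by
  refine IsU.tM_comm (i := 1) ⟨J.η, Fin.elim0, by
    rw [rowM_mul, st_single, ← Matrix.single_add, ← Matrix.single_add, J.η_skew]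
    simp, ?_⟩ Pm.h01
  rw [exs]
  refine uM_congr _ _ ?_ (Subsingleton.elim _ _)
  rw [Pm.w10_mulVec]
  ext i j
  rw [Matrix.smul_apply, col_mul_st, Matrix.single_apply]
  by_cases hi : i = 1 <;> by_cases hj : j = 1 <;> simp [hi, hj, Ne.symm]

end Cfsg.Lib.Linear.ShortPres.SUN
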