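import Cfsg.Agent.Lib.Linear.ShortPres.SUN.OddA
import Cfsg.Agent.Lib.Linear.ShortPres.SUN.Cells

/-!
# Odd dimension: the relations hold in the model
-/

set_option autoImplicit false
set_option linter.unusedSectionVars false

namespace Cfsg.Lib.Linear.ShortPres.SUN

open Matrix Cfsg.Lib.Linear.SUDegree Cfsg.Lib.Linear.Herm
open scoped commutatorElement

variable {F : Type*} [Field F] [Finite F] {J : Conj F} {k : ℕ} [NeZero k]

/-- The root element of the model. -/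
def xM (Q : Pm J) (k : ℕ) [NeZero k] : Mg J (k + 1) 1 := uM (xrel Q.hκ (Pi.single (0 : Fin (k + 1)) (1 : F)))

variable (Q : Pm J)

theorem mxs (C : SpecialLinearGroup (Fin (k + 1)) F) :
    Pm.xs (slM J (k + 1) 1) (xM Q k) C = uM (xrel Q.hκ (C.1 *ᵥ Pi.single 0 1)) :=
  slM_uM_x Q.hκ C _

theorem mxa (c : F) : Pm.xa (slM J (k + 1) 1) (xM Q k) c = uM (xrel Q.hκ (Pi.single (0 : Fin (k + 1)) c)) := by
  rw [Pm.xa]
  split_ifs with h
  · subst h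
    refine mat_inj ?_
    rw [mat_one, mat_uM, Pi.single_zero, show col (0 : Fin (k + 1) → F) = 0 from rfl]
    simp [Cfsg.Lib.Linear.SUDegree.st_zero, uMat_zero]
  · rw [mxs]; exact uM_congr _ _ (by rw [Pm.dl_mulVec h]) (by rw [Pm.dl_mulVec h])

theorem mzw {d : F} (hd : J.σ d = -d) :
    Q.zw (slM J (k + 1) 1) (xM Q k) d = uM (rel0 (m := k + 1) (v := fun _ : Fin 1 => (0 : F)) (c := d) (by simp [hd])) := by
  rw [Pm.zw, mxa, xM, π_comm_x Q.hκ]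
  refine uM_congr _ _ ?_ (by ext i j; simp [rowM])
  rw [Odd.col_single_mul, st_single, map_one, mul_one, map_mul, hd]
  ext i j
  simp only [Matrix.sub_apply, Matrix.single_apply]
  split_ifs
  · linear_combination -d * Q.hκ
  · ring

theorem muw {c v : F} (h : c + J.σ c + ∑ _e : Fin 1, v * J.σ v = 0) :
    Q.uw (slM J (k + 1) 1) (xM Q k) c v = uM (rel0 (m := k + 1) (v := fun _ : Fin 1 => v) (c := c) h) := by
  have h' : c + J.σ c + v * J.σ v = 0 := by simpa using h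
  rw [Pm.uw, mxa, mzw Q (by
    rw [map_sub, map_mul, map_mul, J.inv2]
    linear_combination h' - (v * J.σ v) * Q.hκ), uM_mul]
  refine uM_congr _ _ ?_ (by rw [col_single]; ext i j; simp [rowM])
  rw [Odd.col_single_mul, Matrix.smul_single, col_single, rowM_mul, Fin.sum_univ_one, map_zero, mul_zero,
    Matrix.single_zero, sub_zero, ← Matrix.single_add, smul_eq_mul, add_sub_cancel]

theorem mhw : ∃ (C : GL (Fin (k + 1)) F) (μ : F) (hC : LevOK J 1 C μ),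
    C.1 = d0 Q.ζ ∧ Q.hw (slM J (k + 1) 1) (xM Q k) (tM J 1 0) = lM hC := by
  have hc : Q.c0 ≠ 0 := Odd.c0_ne
  have hsc : J.σ Q.c0 ≠ 0 := by simpa using hc
  have hne := J.η_ne
  have hζ := Q.ζ_ne
  have h1 : Q.c0 + J.σ Q.c0 + Q.v0 * J.σ Q.v0 = 0 := by
    have e2 : J.σ Q.c0 = J.σ Q.κ * (Q.v0 * J.σ Q.v0) := by
      rw [Pm.c0, ← Q.hc0, map_mul, map_mul, J.inv2]; ring
    rw [e2, Pm.c0, ← Q.hc0]
    linear_combination (Q.v0 * J.σ Q.v0) * Q.hκ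
  have hlam : -J.η / J.σ Q.c0 = Q.ζ := by rw [Odd.sc0]; field_simp
  have hL : LevOK J 1 (g0 (m := k + 1) (-J.η / J.σ Q.c0)
      (div_ne_zero (neg_ne_zero.2 J.η_ne) (by simpa using hc))) (-J.σ Q.c0 / Q.c0) := ParData.levC hc
  have hab : ∀ d : F, d * J.σ d = Q.c0 * J.σ Q.c0 →
      -J.η ^ 2 / Q.c0 + J.σ (-J.η ^ 2 / Q.c0) + ∑ _e : Fin 1, J.η * Q.v0 / d * J.σ (J.η * Q.v0 / d) = 0 := by
    intro d hd
    have hd0 : d ≠ 0 := fun e => by rw [e, zero_mul] at hd; exact mul_ne_zero hc hsc hd.symm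
    have hd1 : J.σ d ≠ 0 := by simpa using hd0
    rw [Fin.sum_univ_one, map_div₀, map_div₀, map_mul, map_neg, map_pow, J.η_skew]
    field_simp
    linear_combination (J.η ^ 2 * Q.v0 * J.σ Q.v0) * hd - (J.η ^ 2 * d * J.σ d) * h1
  have ha := hab (J.σ Q.c0) (by rw [J.inv2, mul_comm])
  have hb := hab Q.c0 rfl
  have hx : Pm.xa (slM J (k + 1) 1) (xM Q k) Q.v0 =
      uM (rel0 (m := k + 1) (v := fun _ : Fin 1 => Q.v0) (c := Q.c0) (by simpa using h1)) := by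
    rw [mxa]
    refine uM_congr _ _ ?_ (col_single _)
    rw [Odd.col_single_mul, Matrix.smul_single, smul_eq_mul, Q.hc0, Pm.c0]
  refine ⟨_, _, hL, by rw [g0_coe, hlam], ?_⟩
  have e := cell_eq (J := J) (m := k + 1) (v := fun _ : Fin 1 => Q.v0) hc (by simpa using h1) (fun _ => rfl) hL le_rfl ha hb
  rw [Pm.hw, hx, e, muw Q ha, muw Q hb]
  group

theorem d0_pow {m : ℕ} [NeZero m] (c : F) (i : ℕ) : d0 (m := m) c ^ i = d0 (c ^ i) := by
  rw [d0, Matrix.diagonal_pow, d0]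
  congr 1
  funext a
  simp only [Pi.pow_apply]
  split_ifs <;> simp

theorem mhw_pow (i : ℕ) : ∃ (C : GL (Fin (k + 1)) F) (μ : F) (hC : LevOK J 1 C μ),
    C.1 = d0 (Q.ζ ^ i) ∧ Q.hw (slM J (k + 1) 1) (xM Q k) (tM J 1 0) ^ i = lM hC := by
  obtain ⟨C, μ, hC, eC, e⟩ := mhw (k := k) Q
  obtain ⟨h', e'⟩ := lM_pow hC i
  exact ⟨_, _, h', by rw [Units.val_pow_eq_pow_val, eC, d0_pow], by rw [e, e']⟩

theorem m_fix (C : SpecialLinearGroup (Fin (k + 1)) F) (hC : C.1 *ᵥ Pi.single 0 1 = Pi.single 0 1) :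
    Commute (slM J (k + 1) 1 C) (xM Q k) := by
  refine mul_inv_eq_iff_eq_mul.1 ((slM_uM_x Q.hκ C _).trans ?_)
  exact uM_congr _ _ (by rw [hC]) (by rw [hC])

theorem m_tS (S : SpecialLinearGroup (Fin k) F) :
    Commute (slM J (k + 1) 1 (ext0 S)) (tM J 1 (0 : Fin (k + 1))) :=
  slM_tM_comm _ _ (fun b => (ext0_apply S).1 b) (fun a => (ext0_apply S).2.1 a)

theorem m_hW : slM J (k + 1) 1 (tv (Pm.h01 (k := k)).symm J.η⁻¹) * tM J 1 0 =
    tM J 1 0 * ⁅xM Q k, Pm.xs (slM J (k + 1) 1) (xM Q k) Pm.w10⁆ := by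
  obtain ⟨hu, e⟩ := tv_tM (J := J) (ε := 1) (Pm.h01 (k := k)).symm J.η⁻¹
  rw [e, mxs, xM, π_comm_x Q.hκ]
  congr 1
  refine uM_congr _ _ ?_ rfl
  have hcol : col (Pi.single (0 : Fin (k + 1)) (1 : F)) * st J.σ (col ((Pm.w10 (F := F) (k := k)).1 *ᵥ Pi.single 0 1)) = Matrix.single 0 1 1 := by
    rw [Pm.w10_mulVec]
    ext i j
    rw [col_mul, Matrix.of_apply, Matrix.single_apply]
    by_cases hi : i = 0 <;> by_cases hj : j = 1 <;> simp [hi, hj, Ne.symm]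
  have hne := J.η_ne
  rw [hcol, st_single, map_one, map_inv₀, J.η_skew]
  ext i j
  simp only [Matrix.sub_apply, Matrix.add_apply, Matrix.single_apply]
  split_ifs <;> field_simp <;> ring

theorem m_hadd : xM Q k * Pm.xs (slM J (k + 1) 1) (xM Q k) Pm.w10 =
    Pm.xs (slM J (k + 1) 1) (xM Q k) (tv (Pm.h01 (k := k)).symm 1) *
      ⁅Pm.xa (slM J (k + 1) 1) (xM Q k) (-J.σ Q.κ), Pm.xs (slM J (k + 1) 1) (xM Q k) Pm.w10⁆ := by
  rw [mxs, mxs, mxa, xM, π_comm_x Q.hκ, uM_mul, uM_mul]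
  have e : (tv (Pm.h01 (k := k)).symm (1 : F)).1 *ᵥ Pi.single 0 1 = Pi.single (0 : Fin (k + 1)) 1 + Pi.single 1 1 :=
    funext fun a => by
      rw [tv_mul_apply, Pi.add_apply]
      rcases eq_or_ne a 1 with rfl | ha <;> simp [*, Pm.h01, Pm.h01.symm]
  have hs : (Pi.single (0 : Fin (k + 1)) (-J.σ Q.κ) : Fin (k + 1) → F) = (-J.σ Q.κ) • Pi.single 0 1 := by
    rw [← Pi.single_smul, smul_eq_mul, mul_one]
  refine uM_congr _ _ ?_ ?_
  · ext i j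
    rw [e, Pm.w10_mulVec, hs]
    simp [Matrix.mul_apply, st, J.inv2]
    linear_combination (-((Pi.single 0 1 : Fin (k + 1) → F) i * J.σ ((Pi.single 1 1 : Fin (k + 1) → F) j))) * Q.hκ
  · ext i j
    rw [e, Pm.w10_mulVec]
    simp

theorem m_zcell : tM J 1 0 * Q.zw (slM J (k + 1) 1) (xM Q k) J.η * (tM J 1 0)⁻¹ =
    Q.zw (slM J (k + 1) 1) (xM Q k) (-J.η) * tM J 1 0 * Q.zw (slM J (k + 1) 1) (xM Q k) (-J.η) := by
  have hne := J.η_ne
  have h0 : J.η + J.σ J.η + (0 : F) * J.σ 0 = 0 := by rw [J.η_skew]; simp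
  obtain ⟨ha, hb, e⟩ := ParData.cell_u0 (m := k + 1) h0 hne
  rw [mzw Q J.η_skew, mzw Q (show J.σ (-J.η) = -(-J.η) by rw [map_neg, J.η_skew])]
  refine e.trans ?_
  have h1 : lM (ParData.levC (J := J) (m := k + 1) hne) = (1 : Mg J (k + 1) 1) := by
    rw [lM_congr le_rfl _ (levOK_sl 1) (show (g0 (-J.η / J.σ J.η) _).1 =
      (SpecialLinearGroup.toGL (1 : SpecialLinearGroup (Fin (k + 1)) F)).1 by
        rw [g0_coe, map_one, Units.val_one, J.η_skew, div_self (neg_ne_zero.2 hne), d0, ← Matrix.diagonal_one]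
        congr 1; funext a; split_ifs <;> rfl)]
    exact map_one (slM J (k + 1) 1)
  rw [h1, mul_one]
  have eη : -J.η ^ 2 / J.η = -J.η := by field_simp
  exact congrArg₂ (· * ·) (congrArg (· * tM J 1 0) (uM_congr _ _ (by rw [eη]) (by ext i j; simp [rowM])))
    (uM_congr _ _ (by rw [eη]) (by ext i j; simp [rowM]))

theorem m_sq : ∃ N : ℕ, tM J 1 0 * tM J 1 0 = Q.hw (slM J (k + 1) 1) (xM Q k) (tM J 1 0) ^ N := by
  obtain ⟨N, hN⟩ := Q.gen (-1) (neg_ne_zero.2 one_ne_zero)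
  obtain ⟨C, μ, hC, eC, e⟩ := mhw_pow (k := k) Q N
  refine ⟨N, mat_inj ?_⟩
  rw [e, tM_mul_self_entries, mat_lM]
  have eC' : C.1 = sg 0 := by rw [eC, hN, sg, d0]
  have eCi : (C⁻¹).1 = sg 0 := by
    calc (C⁻¹).1 = (C⁻¹).1 * (C.1 * sg 0) := by rw [eC', sg_sq, Matrix.mul_one]
      _ = _ := by rw [← Matrix.mul_assoc, ← Units.val_mul, inv_mul_cancel, Units.val_one, Matrix.one_mul]
  have hd := hC.det
  rw [eC', eCi, pow_one, sg, Matrix.det_diagonal, Finset.prod_ite_eq'] at hd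
  simp at hd
  rw [eC', eCi, hd]

theorem m_hσ : slM J (k + 1) 1 Pm.w01 * Q.hw (slM J (k + 1) 1) (xM Q k) (tM J 1 0) *
    (slM J (k + 1) 1 Pm.w01)⁻¹ =
      Q.hw (slM J (k + 1) 1) (xM Q k) (tM J 1 0) * slM J (k + 1) 1 (Pm.dl Q.ζ⁻¹) := by
  obtain ⟨C, μ, hC, eC, e⟩ := mhw (k := k) Q
  rw [mul_inv_eq_iff_eq_mul, e, mul_assoc, ← map_mul]
  show lM (levOK_sl _) * lM hC = lM hC * lM (levOK_sl _)
  obtain ⟨h1, e1⟩ := lM_mul (levOK_sl (J := J) (ε := 1) (Pm.w01 (F := F) (k := k))) hC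
  obtain ⟨h2, e2⟩ := lM_mul hC (levOK_sl (J := J) (ε := 1) (Pm.dl (F := F) (k := k) Q.ζ⁻¹ * Pm.w01))
  rw [e1, e2]
  refine lM_congr le_rfl _ _ ?_
  rw [Units.val_mul, Units.val_mul, eC]
  show Pm.w01.1 * d0 Q.ζ = d0 Q.ζ * (Pm.dl Q.ζ⁻¹ * Pm.w01).1
  rw [Matrix.SpecialLinearGroup.coe_mul, ← Matrix.mul_assoc, Pm.dl_coe (inv_ne_zero Q.ζ_ne), d0,
    Matrix.diagonal_mul_diagonal, Pm.w01, wj_coe]
  have hζ := Q.ζ_ne
  ext a b
  rw [Matrix.mul_diagonal, Matrix.diagonal_mul]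
  rcases eq_or_ne a 0 with rfl | ha
  · rcases eq_or_ne b 0 with rfl | hb
    · simp [Matrix.single_apply, Pm.h01, Pm.h01.symm]
    · simp [Matrix.single_apply, Pm.h01, Pm.h01.symm, hb, hζ]
  · rcases eq_or_ne a 1 with rfl | ha1
    · rcases eq_or_ne b 0 with rfl | hb
      · simp [Matrix.single_apply, Pm.h01, Pm.h01.symm]
      · simp [Matrix.single_apply, Matrix.one_apply, Pm.h01, Pm.h01.symm, hb, Ne.symm hb]
    · rcases eq_or_ne b 0 with rfl | hb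
      · simp [Matrix.single_apply, Matrix.one_apply, ha, ha1, Ne.symm ha, Ne.symm ha1, Pm.h01, Pm.h01.symm]
      · simp [Matrix.single_apply, Matrix.one_apply, ha, ha1, Ne.symm ha, Ne.symm ha1, Pm.h01, Pm.h01.symm, hb, Ne.symm hb]

theorem m_tht' : ∃ e : ℕ, Q.ζ ^ e = (J.σ Q.ζ)⁻¹ ∧ tM J 1 0 * Q.hw (slM J (k + 1) 1) (xM Q k) (tM J 1 0) * (tM J 1 0)⁻¹ =
    Q.hw (slM J (k + 1) 1) (xM Q k) (tM J 1 0) ^ e := by
  have hζ := Q.ζ_ne
  have hsζ : J.σ Q.ζ ≠ 0 := by simpa using Q.ζ_ne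
  obtain ⟨e, he⟩ := Q.gen (J.σ Q.ζ)⁻¹ (inv_ne_zero hsζ)
  obtain ⟨C, μ, hC, eC, e1⟩ := mhw (k := k) Q
  obtain ⟨C', μ', hC', eC', e2⟩ := mhw_pow (k := k) Q e
  refine ⟨e, he, ?_⟩
  rw [mul_inv_eq_iff_eq_mul, e2, e1]
  refine mat_inj ?_
  rw [mat_mul, mat_mul, mat_tM, mat_lM, mat_lM]
  have inv0 : ∀ (c : F), c ≠ 0 → ∀ D : GL (Fin (k + 1)) F, D.1 = d0 c → (D⁻¹).1 = d0 c⁻¹ := fun c hc D hD => by
    calc (D⁻¹).1 = (D⁻¹).1 * (D.1 * d0 c⁻¹) := by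
          rw [hD, d0_mul, mul_inv_cancel₀ hc, show d0 (m := k + 1) (1 : F) = 1 by simp [d0], Matrix.mul_one]
      _ = _ := by rw [← Matrix.mul_assoc, ← Units.val_mul, inv_mul_cancel, Units.val_one, Matrix.one_mul]
  have i1 := inv0 _ hζ C eC
  have i2 := inv0 _ (by rw [he]; exact inv_ne_zero hsζ) C' eC'
  have hd := hC.det
  have hd' := hC'.det
  rw [eC, i1, d0_det, d0_det, pow_one] at hd
  rw [eC', i2, d0_det, d0_det, pow_one, he, inv_inv, J.inv2] at hd'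
  have hμ : μ' = μ := by
    rw [map_inv₀] at hd
    exact mul_left_cancel₀ (left_ne_zero_of_mul_eq_one hd') (hd'.trans (by rw [mul_comm (J.σ Q.ζ)⁻¹]; exact hd.symm))
  subst hμ
  rw [eC, i1, eC', i2, he, inv_inv]
  have hst : ∀ c : F, st J.σ (d0 (m := k + 1) c) = d0 (J.σ c) := fun c => by
    rw [st, d0, Matrix.diagonal_map (map_zero _), Matrix.diagonal_transpose, d0]
    congr 1
    funext a
    show J.σ _ = _
    split_ifs <;> simp
  rw [lMat, lMat, hst, hst, map_inv₀, J.inv2]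
  simp only [fromBlocks_multiply, Matrix.mul_zero, Matrix.zero_mul, add_zero, zero_add, Matrix.one_mul, Matrix.mul_one]
  congr 2 <;>
    · ext a b
      simp only [d0, Matrix.sub_mul, Matrix.mul_sub, Matrix.smul_mul, Matrix.mul_smul, Matrix.one_mul, Matrix.mul_one,
        Matrix.sub_apply, Matrix.smul_apply, Matrix.mul_diagonal, Matrix.diagonal_mul, Matrix.diagonal_apply,
        Matrix.single_apply]
      rcases eq_or_ne a 0 with rfl | ha <;> rcases eq_or_ne b 0 with rfl | hb <;>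
        simp [*, Ne.symm, Matrix.one_apply, mul_comm]

theorem m_tht : ∃ e : ℕ, tM J 1 0 * Q.hw (slM J (k + 1) 1) (xM Q k) (tM J 1 0) * (tM J 1 0)⁻¹ =
    Q.hw (slM J (k + 1) 1) (xM Q k) (tM J 1 0) ^ e :=
  let ⟨e, _, h⟩ := m_tht' (k := k) Q
  ⟨e, h⟩

theorem m_tt1 : Commute (tM J 1 0) (slM J (k + 1) 1 Pm.w01 * tM J 1 0 * (slM J (k + 1) 1 Pm.w01)⁻¹) := by
  rw [Pm.w01, wj_tM, Equiv.swap_apply_left, mul_inv_cancel_right]
  exact tM_comm Pm.h01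

theorem m_tX1 : Commute (tM J 1 0) (Pm.xs (slM J (k + 1) 1) (xM Q k) Pm.w10) := by
  refine IsU.tM_comm (i := 1) ⟨Q.κ, fun _ => 1, by
    rw [rowM_mul, Fin.sum_univ_one, st_single, ← Matrix.single_add, ← Matrix.single_add, map_one, mul_one, Q.hκ,
      Matrix.single_zero], ?_⟩ Pm.h01
  rw [mxs]
  refine uM_congr _ _ ?_ ?_
  · rw [Pm.w10_mulVec]
    ext i j
    by_cases hi : i = 1 <;> by_cases hj : j = 1 <;> simp [Matrix.mul_apply, st, Matrix.single_apply, hi, hj, Ne.symm]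
  · rw [Pm.w10_mulVec]
    ext i j
    by_cases hi : i = 1 <;> simp [rowM, hi]

end Cfsg.Lib.Linear.ShortPres.SUN
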