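import Cfsg.Agent.Lib.Linear.ShortPres.SUN.OddB
import Cfsg.Agent.Lib.Linear.ShortPres.SUN.OddModel
import Cfsg.Agent.Lib.Linear.ShortPres.On
import Cfsg.Agent.Lib.Linear.SLPerfect

/-!
# Odd dimension: thirteen relations present the model
-/

set_option autoImplicit false
set_option linter.unusedSectionVars false

universe u

namespace Cfsg.Lib.Linear.ShortPres.SUN

open Matrix Cfsg.Lib.Linear.SUDegree Cfsg.Lib.Linear.Herm
open scoped commutatorElement

variable {F : Type u} [Field F] {J : Conj F} {k : ℕ}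

/-- Inverse transpose. -/
def itr {ι : Type*} [Fintype ι] [DecidableEq ι] :
    SpecialLinearGroup ι F →* SpecialLinearGroup ι F :=
  MonoidHom.mk' (fun C => ⟨(C⁻¹).1ᵀ, by rw [Matrix.det_transpose]; exact (C⁻¹).2⟩) fun C D =>
    Subtype.ext (show ((C * D)⁻¹).1ᵀ = (C⁻¹).1ᵀ * (D⁻¹).1ᵀ by
      rw [_root_.mul_inv_rev, Matrix.SpecialLinearGroup.coe_mul, Matrix.transpose_mul])

theorem itr_coe {ι : Type*} [Fintype ι] [DecidableEq ι] (C : SpecialLinearGroup ι F) :
    (itr C).1 = (C⁻¹).1ᵀ := rfl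

theorem itr_itr {ι : Type*} [Fintype ι] [DecidableEq ι] (C : SpecialLinearGroup ι F) : itr (itr C) = C := by
  refine Subtype.ext ?_
  rw [itr_coe, ← map_inv, itr_coe, inv_inv, Matrix.transpose_transpose]

theorem itr_tv {m : ℕ} {i j : Fin m} (h : i ≠ j) (c : F) : itr (tv h c) = tv h.symm (-c) := by
  refine Subtype.ext ?_
  rw [itr_coe, tv_inv, tv_coe, tv_coe, Matrix.transpose_add, Matrix.transpose_one, Matrix.transpose_single]

variable [NeZero k]

/-- The vectors fixed by the special linear group away from the first index. -/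
theorem stab_le (hk : 2 ≤ k) (T : Subgroup (SpecialLinearGroup (Fin (k + 1)) F))
    (hS : ∀ S, ext0 S ∈ T) (h1 : tv (Pm.h01 (k := k)) (1 : F) ∈ T) {C : SpecialLinearGroup (Fin (k + 1)) F}
    (hC : C.1 *ᵥ Pi.single 0 1 = Pi.single 0 1) : C ∈ T := by
  have hmem : itr C ∈ T.comap itr := by
    refine mem_of_row (itr C) (fun b => ?_) (T.comap itr) ?_ fun S => ?_
    · have h : (C⁻¹).1 *ᵥ Pi.single 0 1 = Pi.single 0 1 := by
        have h := congrArg (fun v => (C⁻¹).1 *ᵥ v) hC
        simp only [Matrix.mulVec_mulVec, ← Matrix.SpecialLinearGroup.coe_mul, inv_mul_cancel,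
          Matrix.SpecialLinearGroup.coe_one, Matrix.one_mulVec] at h
        exact h.symm
      have := congrFun h b
      rw [Matrix.mulVec_single_one, Matrix.col_apply] at this
      rw [itr_coe, Matrix.transpose_apply, this, Pi.single_apply]
      exact if_congr eq_comm rfl rfl
    · intro j hj x
      have hext : ∀ S, ext0 S ∈ T.comap itr := fun S => by
        obtain ⟨h1, h2, -⟩ := ext0_apply S
        obtain ⟨h1', h2', -⟩ := ext0_apply S⁻¹
        rw [map_inv] at h1' h2'
        obtain ⟨S', hS'⟩ := exists_ext0 (itr (ext0 S)) (fun b => by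
          rw [itr_coe, Matrix.transpose_apply, h2']
          exact if_congr eq_comm rfl rfl) fun a => by
          rw [itr_coe, Matrix.transpose_apply, h1']
          exact if_congr eq_comm rfl rfl
        show itr (ext0 S) ∈ T
        rw [← hS']; exact hS S'
      rcases eq_or_ne x 0 with rfl | hx
      · have : tv hj (0 : F) = 1 := Subtype.ext (by rw [tv_coe]; simp)
        rw [this]; exact one_mem _
      obtain ⟨S, hS'⟩ := exists_move_tail hk (v := Pi.single 1 (1 : F)) (w := Pi.single j (-x)) (by simp)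
        (by simpa using hx) (Pi.single_eq_of_ne Pm.h01 _) (Pi.single_eq_of_ne (Ne.symm hj) _)
      have hcol : ∀ a, (ext0 S).1 a 1 = (Pi.single j (-x) : Fin (k + 1) → F) a := fun a => by
        have := congrFun hS' a
        rwa [Matrix.mulVec_single_one, Matrix.col_apply] at this
      have e : tv hj x = ext0 S * tv (Pm.h01 (k := k)).symm (-1) * (ext0 S)⁻¹ := by
        rw [eq_mul_inv_iff_mul_eq]
        refine Subtype.ext ?_
        rw [Matrix.SpecialLinearGroup.coe_mul, Matrix.SpecialLinearGroup.coe_mul, tv_coe, tv_coe, Matrix.add_mul,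
          Matrix.mul_add, Matrix.one_mul, Matrix.mul_one]
        congr 1
        ext a b
        simp [Matrix.mul_apply, Matrix.single_apply, hcol, (ext0_apply S).1, Pi.single_apply, ite_and]
        by_cases ha : a = j <;> by_cases hb : b = 0 <;> simp [ha, hb, Ne.symm]
      rw [e]
      refine mul_mem (mul_mem (hext S) ?_) (inv_mem (hext S))
      show itr (tv _ (-1)) ∈ T
      rw [itr_tv, neg_neg]
      exact h1
    · obtain ⟨h1, h2, -⟩ := ext0_apply S
      obtain ⟨h1', h2', -⟩ := ext0_apply S⁻¹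
      rw [map_inv] at h1' h2'
      obtain ⟨S', hS'⟩ := exists_ext0 (itr (ext0 S)) (fun b => by
        rw [itr_coe, Matrix.transpose_apply, h2']
        exact if_congr eq_comm rfl rfl) fun a => by
        rw [itr_coe, Matrix.transpose_apply, h1']
        exact if_congr eq_comm rfl rfl
      show itr (ext0 S) ∈ T
      rw [← hS']; exact hS S'
  have := hmem
  rw [Subgroup.mem_comap, itr_itr] at this
  exact this

/-- The integers used by the relations and two generators of the smaller group. -/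
structure OddCode (F : Type u) [Field F] (k : ℕ) where
  s : Fin 2 → SpecialLinearGroup (Fin k) F
  hs : Subgroup.closure (Set.range s) = ⊤
  N : ℕ
  e : ℕ

section Rels

variable (Q : Pm J) (P : OddCode F k) {G : Type*} [Group G]

/-- The thirteen relations. -/
noncomputable def oRels (A : SpecialLinearGroup (Fin (k + 1)) F → G) (x t : G) : List (G × G) :=
  [(A (ext0 (P.s 0)) * x, x * A (ext0 (P.s 0))), (A (ext0 (P.s 1)) * x, x * A (ext0 (P.s 1))),
    (A (tv (Pm.h01 (k := k)) 1) * x, x * A (tv (Pm.h01 (k := k)) 1)),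
    (A (ext0 (P.s 0)) * t, t * A (ext0 (P.s 0))), (A (ext0 (P.s 1)) * t, t * A (ext0 (P.s 1))),
    (A (tv (Pm.h01 (k := k)).symm J.η⁻¹) * t, t * ⁅x, Pm.xs A x Pm.w10⁆),
    (x * Pm.xs A x Pm.w10,
      Pm.xs A x (tv (Pm.h01 (k := k)).symm 1) * ⁅Pm.xa A x (-J.σ Q.κ), Pm.xs A x Pm.w10⁆),
    (t * t, Q.hw A x t ^ P.N),
    (t * Q.zw A x J.η * t⁻¹, Q.zw A x (-J.η) * t * Q.zw A x (-J.η)),
    (A Pm.w01 * Q.hw A x t * (A Pm.w01)⁻¹, Q.hw A x t * A (Pm.dl Q.ζ⁻¹)),
    (t * Q.hw A x t * t⁻¹, Q.hw A x t ^ P.e),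
    (t * (A Pm.w01 * t * (A Pm.w01)⁻¹), A Pm.w01 * t * (A Pm.w01)⁻¹ * t),
    (t * Pm.xs A x Pm.w10, Pm.xs A x Pm.w10 * t)]

theorem oRels_map {H : Type*} [Group H] (f : G →* H) (A : SpecialLinearGroup (Fin (k + 1)) F → G) (x t : G) :
    oRels Q P (fun C => f (A C)) (f x) (f t) = (oRels Q P A x t).map fun e => (f e.1, f e.2) := by
  have hxs : ∀ C, Pm.xs (fun C => f (A C)) (f x) C = f (Pm.xs A x C) := fun C => by simp [Pm.xs]
  have hxa : ∀ c, Pm.xa (k := k) (fun C => f (A C)) (f x) c = f (Pm.xa A x c) := fun c => by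
    rw [Pm.xa, Pm.xa]; split_ifs <;> simp [hxs]
  simp only [oRels, List.map, hxs, hxa, Pm.hw, Pm.uw, Pm.zw, map_mul, map_inv, map_pow, map_commutatorElement]

/-- The relations and the images of the generators give the hypotheses. -/
theorem Odd.of_rels (hk : 2 ≤ k) [Finite F] {π : G →* Mg J (k + 1) 1} (A : SpecialLinearGroup (Fin (k + 1)) F →* G)
    (hA : ∀ C, π (A C) = slM J (k + 1) 1 C) (x : G) (hx : π x = xM Q k) (t : G) (ht : π t = tM J 1 0)
    (gen : Subgroup.closure (Set.range A ∪ {x, t}) = ⊤) (rel : ∀ e ∈ oRels Q P A x t, e.1 = e.2) :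
    commutator G = ⊤ ∧
      ((∀ g, π g = 1 → g ∈ Subgroup.center G → g = 1) ∨ (∀ i : ℕ, Q.ζ ^ i = 1 → Q.hw A x t ^ i = 1) → Nonempty (Odd J k π Q)) := by
  haveI := Fintype.ofFinite F
  simp only [oRels, List.forall_mem_cons, List.not_mem_nil, IsEmpty.forall_iff, implies_true, and_true] at rel
  obtain ⟨c1, c2, c3, d1, d2, hW, hadd, sq, zcell, hσ, tht, tt1, tX1⟩ := rel
  have hperfect : commutator G = ⊤ := by
    have hA' : ∀ C, A C ∈ commutator G := fun C => by
      have hC : C ∈ commutator (SpecialLinearGroup (Fin (k + 1)) F) := by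
        rw [Cfsg.Lib.Linear.commutator_SL_eq_top' (Or.inl (by simp; omega))]; trivial
      have := Subgroup.mem_map_of_mem A hC
      rw [commutator_def, Subgroup.map_commutator] at this
      exact Subgroup.commutator_mono le_top le_top this
    let f : G →* Abelianization G := Abelianization.of
    have hker : ∀ g, g ∈ commutator G ↔ f g = 1 := fun g =>
      ⟨fun h => (Abelianization.ker_of G).ge h, fun h => (Abelianization.ker_of G).le h⟩
    have hfA : ∀ C, f (A C) = 1 := fun C => (hker _).1 (hA' C)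
    have hfs : ∀ C, f (Pm.xs A x C) = f x := fun C => by simp [Pm.xs, hfA]
    have hc : ∀ a b : Abelianization G, ⁅a, b⁆ = 1 := fun a b => by
      rw [commutatorElement_def, mul_comm a b]; group
    have hfx : f x = 1 := by
      have h := congrArg f hadd
      simp only [map_mul, map_commutatorElement, hfs] at h
      rw [hc, mul_one] at h
      exact mul_left_cancel (h.trans (mul_one _).symm)
    have hft : f t = 1 := by
      have h := congrArg f zcell
      simp only [Pm.zw, map_mul, map_inv, map_commutatorElement, hc,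
        mul_one, one_mul, mul_inv_cancel] at h
      exact h.symm
    rw [eq_top_iff, ← gen, Subgroup.closure_le]
    rintro g (⟨C, rfl⟩ | rfl | rfl)
    · exact hA' C
    · exact (hker _).2 hfx
    · exact (hker _).2 hft
  refine ⟨hperfect, fun red => ?_⟩
  have hext : ∀ y : G, Commute (A (ext0 (P.s 0))) y → Commute (A (ext0 (P.s 1))) y → ∀ S, Commute (A (ext0 S)) y := by
    intro y h0 h1 S
    have : Subgroup.closure (Set.range P.s) ≤ (Subgroup.centralizer ({y} : Set G)).comap (A.comp ext0) := by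
      rw [Subgroup.closure_le]
      rintro _ ⟨i, rfl⟩
      refine Subgroup.mem_centralizer_singleton_iff.2 ?_
      fin_cases i
      · exact h0
      · exact h1
    rw [P.hs] at this
    exact Subgroup.mem_centralizer_singleton_iff.1 (this (Subgroup.mem_top S))
  exact ⟨
    { kind := Or.inl hk
      A := A
      πA := hA
      x := x
      πx := hx
      t := t
      πt := ht
      gen := gen
      red := red.imp_left fun h => ⟨hperfect, h⟩
      fix := fun C hC => by
        have hC' := stab_le hk ((Subgroup.centralizer ({x} : Set G)).comap A)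
          (fun S => Subgroup.mem_centralizer_singleton_iff.2 (hext x c1 c2 S))
          (Subgroup.mem_centralizer_singleton_iff.2 c3) hC
        exact Subgroup.mem_centralizer_singleton_iff.1 hC'
      tS := hext t d1 d2
      hW := hW
      hadd := hadd
      sq := ⟨P.N, sq⟩
      zcell := zcell
      hσ := hσ
      tht := ⟨P.e, tht⟩
      tt1 := tt1
      tX1 := tX1 }⟩

end Rels

/-- The relations hold in the model for suitable integers. -/
theorem exists_code [Finite F] (Q : Pm J) (s : Fin 2 → SpecialLinearGroup (Fin k) F) (hs : Subgroup.closure (Set.range s) = ⊤) :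
    ∃ P : OddCode F k, ∀ e ∈ oRels Q P (slM J (k + 1) 1) (xM Q k) (tM J 1 0), e.1 = e.2 := by
  obtain ⟨N, hN⟩ := m_sq (k := k) Q
  obtain ⟨e, he⟩ := m_tht (k := k) Q
  refine ⟨⟨s, hs, N, e⟩, ?_⟩
  simp only [oRels, List.forall_mem_cons, List.not_mem_nil, IsEmpty.forall_iff, implies_true, and_true]
  exact ⟨(m_fix Q _ (Odd.ext0_e _ 1)).eq, (m_fix Q _ (Odd.ext0_e _ 1)).eq, (m_fix Q _ (funext fun a => by
      rw [tv_mul_apply, Pi.single_eq_of_ne Pm.h01.symm]; simp)).eq,
    (m_tS _).eq, (m_tS _).eq, m_hW Q, m_hadd Q, hN, m_zcell Q, m_hσ Q, he, m_tt1.eq, (m_tX1 Q).eq⟩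

/-- The special linear group and two elements generate the model. -/
theorem gen_model [Finite F] (hk : 2 ≤ k) (Q : Pm J) (P : OddCode F k)
    (hP : ∀ e ∈ oRels Q P (slM J (k + 1) 1) (xM Q k) (tM J 1 0), e.1 = e.2) :
    Subgroup.closure (Set.range (slM J (k + 1) 1) ∪ {xM Q k, tM J 1 0}) = ⊤ := by
  haveI := Fintype.ofFinite F
  set W := Subgroup.closure (Set.range (slM J (k + 1) 1) ∪ {xM Q k, tM J 1 0}) with hW
  have hs : ∀ C, slM J (k + 1) 1 C ∈ W := fun C => Subgroup.subset_closure (Or.inl ⟨C, rfl⟩)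
  have hx : xM Q k ∈ W := Subgroup.subset_closure (Or.inr (Or.inl rfl))
  have ht : tM J 1 0 ∈ W := Subgroup.subset_closure (Or.inr (Or.inr rfl))
  let A : SpecialLinearGroup (Fin (k + 1)) F →* W := (slM J (k + 1) 1).codRestrict W hs
  have gen : Subgroup.closure (Set.range A ∪ {⟨xM Q k, hx⟩, ⟨tM J 1 0, ht⟩}) = ⊤ := by
    refine Subgroup.map_injective W.subtype_injective ?_
    rw [MonoidHom.map_closure, ← MonoidHom.range_eq_map, Subgroup.range_subtype, Set.image_union, Set.image_pair,
      ← Set.range_comp]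
    exact hW.symm
  have rel : ∀ e ∈ oRels Q P A (⟨xM Q k, hx⟩ : W) ⟨tM J 1 0, ht⟩, e.1 = e.2 := fun e he => by
    refine W.subtype_injective (hP (W.subtype e.1, W.subtype e.2) ?_)
    show _ ∈ oRels Q P (fun C => W.subtype (A C)) (W.subtype ⟨xM Q k, hx⟩) (W.subtype ⟨tM J 1 0, ht⟩)
    rw [oRels_map]
    exact List.mem_map.2 ⟨e, he, rfl⟩
  obtain ⟨D⟩ := (Odd.of_rels Q P hk (π := W.subtype) A (fun _ => rfl) _ rfl _ rfl gen rel).2
    (Or.inl fun g hg _ => W.subtype_injective hg)
  refine gen_top (by omega) le_rfl W (fun H X h => ?_) (fun C μ h => ?_) ht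
  · obtain ⟨p, -, e⟩ := D.par.surj_P _ (kf_uM h)
    exact e ▸ p.2
  · obtain ⟨p, -, e⟩ := D.par.surj_P _ (kf_lM h)
    exact e ▸ p.2

theorem oRels_lift (Q : Pm J) (P : OddCode F k) {G : Type*} [Group G] (A : SpecialLinearGroup (Fin (k + 1)) F → G)
    (b : Fin 2 → G) :
    (∀ e ∈ oRels Q P (fun C => FreeGroup.of (Sum.inl C)) (FreeGroup.of (Sum.inr (0 : Fin 2)))
          (FreeGroup.of (Sum.inr (1 : Fin 2))),
        FreeGroup.lift (Sum.elim A b) e.1 = FreeGroup.lift (Sum.elim A b) e.2) ↔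
      ∀ e ∈ oRels Q P A (b 0) (b 1), e.1 = e.2 := by
  have h := oRels_map Q P (FreeGroup.lift (Sum.elim A b)) (fun C => FreeGroup.of (Sum.inl C))
    (FreeGroup.of (Sum.inr (0 : Fin 2))) (FreeGroup.of (Sum.inr (1 : Fin 2)))
  simp only [FreeGroup.lift_apply_of, Sum.elim_inl, Sum.elim_inr] at h
  rw [h, List.forall_mem_map]

/-- Thirteen relations more than the special linear group present the model. -/
theorem bddOn_odd [Finite F] [Finite (Mg J (k + 1) 1)] (hk : 2 ≤ k) (hM : NoStem (Mg J (k + 1) 1)) (Q : Pm J)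
    (s : Fin 2 → SpecialLinearGroup (Fin k) F) (hs : Subgroup.closure (Set.range s) = ⊤) {n r : ℕ}
    {u : Fin n → SpecialLinearGroup (Fin (k + 1)) F} (hu : BddOn u r) :
    BddOn (Fin.append (fun i => slM J (k + 1) 1 (u i)) ![xM Q k, tM J 1 0]) (r + 13) := by
  obtain ⟨P, hP⟩ := exists_code Q s hs
  have hgen := gen_model hk Q P hP
  have hgen' : Subgroup.closure (Set.range (slM J (k + 1) 1) ∪ Set.range ![xM Q k, tM J 1 0]) = ⊤ := by
    rw [Matrix.range_cons_cons_empty]; exact hgen
  let A₀ : SpecialLinearGroup (Fin (k + 1)) F → FreeGroup (SpecialLinearGroup (Fin (k + 1)) F ⊕ Fin 2) :=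
    fun C => FreeGroup.of (Sum.inl C)
  have h := hu.extend (slM J (k + 1) 1) ![xM Q k, tM J 1 0] hgen'
    (oRels Q P A₀ (FreeGroup.of (Sum.inr 0)) (FreeGroup.of (Sum.inr 1))) ?_ ?_
  · exact h
  · exact (oRels_lift Q P _ _).2 (by simpa using hP)
  · intro G _ A b φ hgA hφA hφb hr
    have rel := (oRels_lift Q P A b).1 hr
    have hgb : Subgroup.closure (Set.range A ∪ {b 0, b 1}) = ⊤ := by
      rw [eq_top_iff, ← hgA]
      refine Subgroup.closure_mono (Set.union_subset_union_right _ ?_)
      rintro _ ⟨i, rfl⟩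
      fin_cases i <;> simp
    have hA' : ∀ C, φ (A C) = slM J (k + 1) 1 C := fun C => DFunLike.congr_fun hφA C
    have hperf := (Odd.of_rels Q P hk A hA' (b 0) (hφb 0) (b 1) (hφb 1) hgb rel).1
    have hsurj : Function.Surjective φ := by
      rw [← MonoidHom.range_eq_top, eq_top_iff, ← hgen, Subgroup.closure_le]
      rintro g (⟨C, rfl⟩ | rfl | rfl)
      · exact ⟨A C, hA' C⟩
      · exact ⟨b 0, hφb 0⟩
      · exact ⟨b 1, hφb 1⟩
    refine injective_of_reduced hM φ hsurj hperf fun G' _ f π' hf hπ' _ red => ?_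
    have hπ'' : ∀ g, π' (f g) = φ g := fun g => DFunLike.congr_fun hπ' g
    have gen' : Subgroup.closure (Set.range (f.comp A) ∪ {f (b 0), f (b 1)}) = ⊤ := by
      rw [MonoidHom.coe_comp, Set.range_comp, ← Set.image_pair, ← Set.image_union, ← MonoidHom.map_closure, hgb,
        Subgroup.map_top_of_surjective _ hf]
    have rel' : ∀ e ∈ oRels Q P (f.comp A) (f (b 0)) (f (b 1)), e.1 = e.2 := by
      show ∀ e ∈ oRels Q P (fun C => f (A C)) (f (b 0)) (f (b 1)), e.1 = e.2
      rw [oRels_map, List.forall_mem_map]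
      exact fun e he => congrArg f (rel e he)
    obtain ⟨D⟩ := (Odd.of_rels Q P hk (π := π') (f.comp A) (fun C => by simp [hπ'', hA']) (f (b 0))
      (by rw [hπ'']; exact hφb 0) (f (b 1)) (by rw [hπ'']; exact hφb 1) gen' rel').2 (Or.inl red)
    exact D.injective

end Cfsg.Lib.Linear.ShortPres.SUN
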