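import Cfsg.Agent.Lib.Linear.ShortPres.SUN.EvenB
import Cfsg.Agent.Lib.Linear.ShortPres.SUN.EvenModel
import Cfsg.Agent.Lib.Linear.ShortPres.SUN.OddPres

/-!
# Even dimension: thirteen relations present the model
-/

set_option autoImplicit false
set_option linter.unusedSectionVars false

universe u

namespace Cfsg.Lib.Linear.ShortPres.SUN

open Matrix Cfsg.Lib.Linear.SUDegree Cfsg.Lib.Linear.Herm
open scoped commutatorElement

variable {F : Type u} [Field F] {J : Conj F} {k : ℕ} [NeZero k]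

section Rels

variable (Q : Pm J) (s : Fin 2 → SpecialLinearGroup (Fin k) F) (N : ℕ) {G : Type*} [Group G]

/-- The thirteen relations. -/
noncomputable def eRels (A : SpecialLinearGroup (Fin (k + 1)) F → G) (x t : G) : List (G × G) :=
  [(A (ext0 (s 0)) * x, x * A (ext0 (s 0))), (A (ext0 (s 1)) * x, x * A (ext0 (s 1))),
    (A (tv (Pm.h01 (k := k)) 1) * x, x * A (tv (Pm.h01 (k := k)) 1)),
    (A (Pm.dl Q.nu) * x, x * A (Pm.dl Q.nu)),
    (x * Pm.xs A x Pm.w10, Pm.xs A x Pm.w10 * x),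
    (A (tv (Pm.h01 (k := k)).symm 1) * t, t * Pm.ph A x),
    (A (ext0 (s 0)) * t, t * A (ext0 (s 0))), (A (ext0 (s 1)) * t, t * A (ext0 (s 1))),
    (t * t, Q.he A x t ^ N),
    (t * A (Pm.dl Q.ζ) * t⁻¹, (Q.he A x t)⁻¹ * A (Pm.dl Q.ζ)),
    (A Pm.w01 * Q.he A x t * (A Pm.w01)⁻¹, Q.he A x t * A (Pm.dl Q.n0⁻¹)),
    (t * (A Pm.w01 * t * (A Pm.w01)⁻¹), A Pm.w01 * t * (A Pm.w01)⁻¹ * t),
    (t * Pm.xs A x Pm.w10, Pm.xs A x Pm.w10 * t)]

theorem eRels_map {H : Type*} [Group H] (f : G →* H) (A : SpecialLinearGroup (Fin (k + 1)) F → G) (x t : G) :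
    eRels Q s N (fun C => f (A C)) (f x) (f t) = (eRels Q s N A x t).map fun e => (f e.1, f e.2) := by
  have hxs : ∀ C, Pm.xs (fun C => f (A C)) (f x) C = f (Pm.xs A x C) := fun C => by simp [Pm.xs]
  have hxa : ∀ c, Pm.xa (k := k) (fun C => f (A C)) (f x) c = f (Pm.xa A x c) := fun c => by
    rw [Pm.xa, Pm.xa]; split_ifs <;> simp [hxs]
  simp only [eRels, List.map, hxs, hxa, Pm.he, Pm.ph, map_mul, map_inv, map_pow]

/-- The relations and the images of the generators give the hypotheses. -/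
theorem Ev.of_rels (hk : 2 ≤ k) [Finite F] (hs : Subgroup.closure (Set.range s) = ⊤)
    {π : G →* Mg J (k + 1) 0} (A : SpecialLinearGroup (Fin (k + 1)) F →* G)
    (hA : ∀ C, π (A C) = slM J (k + 1) 0 C) (x : G) (hx : π x = xE J k) (t : G) (ht : π t = tM J 0 0)
    (gen : Subgroup.closure (Set.range A ∪ {x, t}) = ⊤) (rel : ∀ e ∈ eRels Q s N A x t, e.1 = e.2) :
    commutator G = ⊤ ∧
      ((∀ g, π g = 1 → g ∈ Subgroup.center G → g = 1) ∨ (∀ i : ℕ, Q.n0 ^ i = 1 → Q.he A x t ^ i = 1) → Nonempty (Ev J k π Q)) := by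
  haveI := Fintype.ofFinite F
  simp only [eRels, List.forall_mem_cons, List.not_mem_nil, IsEmpty.forall_iff, implies_true, and_true] at rel
  obtain ⟨c1, c2, c3, f1, comm, hW, d1, d2, sq, td, hσ, tt1, tX1⟩ := rel
  have hperfect : commutator G = ⊤ := by
    have hA' : ∀ C, A C ∈ commutator G := fun C => by
      have hC : C ∈ commutator (SpecialLinearGroup (Fin (k + 1)) F) := by
        rw [Cfsg.Lib.Linear.commutator_SL_eq_top' (Or.inl (by simp; omega))]; trivial
      have := Subgroup.mem_map_of_mem A hC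
      rw [commutator_def, Subgroup.map_commutator] at this
      exact Subgroup.commutator_mono le_top le_top this
    let f : G →* Abelianization G := Abelianization.of
    have hker : ∀ g, g ∈ commutator G ↔ f g = 1 := fun g =>
      ⟨fun h => (Abelianization.ker_of G).ge h, fun h => (Abelianization.ker_of G).le h⟩
    have hfA : ∀ C, f (A C) = 1 := fun C => (hker _).1 (hA' C)
    have hfs : ∀ C, f (Pm.xs A x C) = f x := fun C => by simp [Pm.xs, hfA]
    have hfx : f x = 1 := by
      have h := congrArg f hW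
      simp only [Pm.ph, map_mul, map_inv, hfs, hfA, one_mul, inv_mul_cancel_right] at h
      exact inv_eq_one.1 (mul_eq_left.1 h.symm)
    have hfa : ∀ c, f (Pm.xa (k := k) A x c) = 1 := fun c => by
      rw [Pm.xa]; split_ifs <;> simp [hfs, hfx]
    have hft : f t = 1 := by
      have h := congrArg f td
      simp only [Pm.he, map_mul, map_inv, hfa, hfA, mul_one, one_mul, inv_one, mul_inv_cancel, inv_inv] at h
      exact h.symm
    rw [eq_top_iff, ← gen, Subgroup.closure_le]
    rintro g (⟨C, rfl⟩ | rfl | rfl)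
    · exact hA' C
    · exact (hker _).2 hfx
    · exact (hker _).2 hft
  refine ⟨hperfect, fun red => ?_⟩
  have hext : ∀ y : G, Commute (A (ext0 (s 0))) y → Commute (A (ext0 (s 1))) y → ∀ S, Commute (A (ext0 S)) y := by
    intro y h0 h1 S
    have : Subgroup.closure (Set.range s) ≤ (Subgroup.centralizer ({y} : Set G)).comap (A.comp ext0) := by
      rw [Subgroup.closure_le]
      rintro _ ⟨i, rfl⟩
      refine Subgroup.mem_centralizer_singleton_iff.2 ?_
      fin_cases i
      · exact h0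
      · exact h1
    rw [hs] at this
    exact Subgroup.mem_centralizer_singleton_iff.1 (this (Subgroup.mem_top S))
  exact ⟨
    { kind := Or.inl hk
      A := A
      πA := hA
      x := x
      πx := hx
      t := t
      πt := ht
      gen := gen
      red := red.imp_left fun h => ⟨hperfect, h⟩
      fix := fun C hC => by
        have hC' := stab_le hk ((Subgroup.centralizer ({x} : Set G)).comap A)
          (fun S => Subgroup.mem_centralizer_singleton_iff.2 (hext x c1 c2 S))
          (Subgroup.mem_centralizer_singleton_iff.2 c3) hC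
        exact Subgroup.mem_centralizer_singleton_iff.1 hC'
      fix1 := f1
      comm01 := comm
      hW := hW
      tS := hext t d1 d2
      sq := ⟨N, sq⟩
      td := td
      hσ := hσ
      tt1 := tt1
      tX1 := tX1 }⟩

end Rels

/-- The relations hold in the model for a suitable integer. -/
theorem exists_code_even [Finite F] (Q : Pm J) (s : Fin 2 → SpecialLinearGroup (Fin k) F) :
    ∃ N : ℕ, ∀ e ∈ eRels Q s N (slM J (k + 1) 0) (xE J k) (tM J 0 0), e.1 = e.2 := by
  obtain ⟨N, hN⟩ := me_sq (k := k) Q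
  refine ⟨N, ?_⟩
  simp only [eRels, List.forall_mem_cons, List.not_mem_nil, IsEmpty.forall_iff, implies_true, and_true]
  exact ⟨(me_fix _ (Odd.ext0_e _ 1)).eq, (me_fix _ (Odd.ext0_e _ 1)).eq, (me_fix _ (funext fun a => by
      rw [tv_mul_apply, Pi.single_eq_of_ne Pm.h01.symm]; simp)).eq, (me_fix1 Q).eq, me_comm01.eq, me_hW,
    (me_tS _).eq, (me_tS _).eq, hN, me_td Q, me_hσ Q, me_tt1.eq, me_tX1.eq⟩

/-- The special linear group and two elements generate the model. -/
theorem gen_model_even [Finite F] (hk : 2 ≤ k) (Q : Pm J) (s : Fin 2 → SpecialLinearGroup (Fin k) F)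
    (hs : Subgroup.closure (Set.range s) = ⊤) (N : ℕ)
    (hP : ∀ e ∈ eRels Q s N (slM J (k + 1) 0) (xE J k) (tM J 0 0), e.1 = e.2) :
    Subgroup.closure (Set.range (slM J (k + 1) 0) ∪ {xE J k, tM J 0 0}) = ⊤ := by
  haveI := Fintype.ofFinite F
  set W := Subgroup.closure (Set.range (slM J (k + 1) 0) ∪ {xE J k, tM J 0 0}) with hW
  have hs' : ∀ C, slM J (k + 1) 0 C ∈ W := fun C => Subgroup.subset_closure (Or.inl ⟨C, rfl⟩)
  have hx : xE J k ∈ W := Subgroup.subset_closure (Or.inr (Or.inl rfl))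
  have ht : tM J 0 0 ∈ W := Subgroup.subset_closure (Or.inr (Or.inr rfl))
  let A : SpecialLinearGroup (Fin (k + 1)) F →* W := (slM J (k + 1) 0).codRestrict W hs'
  have gen : Subgroup.closure (Set.range A ∪ {⟨xE J k, hx⟩, ⟨tM J 0 0, ht⟩}) = ⊤ := by
    refine Subgroup.map_injective W.subtype_injective ?_
    rw [MonoidHom.map_closure, ← MonoidHom.range_eq_map, Subgroup.range_subtype, Set.image_union, Set.image_pair,
      ← Set.range_comp]
    exact hW.symm
  have rel : ∀ e ∈ eRels Q s N A (⟨xE J k, hx⟩ : W) ⟨tM J 0 0, ht⟩, e.1 = e.2 := fun e he => by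
    refine W.subtype_injective (hP (W.subtype e.1, W.subtype e.2) ?_)
    show _ ∈ eRels Q s N (fun C => W.subtype (A C)) (W.subtype ⟨xE J k, hx⟩) (W.subtype ⟨tM J 0 0, ht⟩)
    rw [eRels_map]
    exact List.mem_map.2 ⟨e, he, rfl⟩
  obtain ⟨D⟩ := (Ev.of_rels Q s N hk hs (π := W.subtype) A (fun _ => rfl) _ rfl _ rfl gen rel).2
    (Or.inl fun g hg _ => W.subtype_injective hg)
  refine gen_top (by omega) zero_le_one W (fun H X h => ?_) (fun C μ h => ?_) ht
  · obtain ⟨p, -, e⟩ := D.par.surj_P _ (kf_uM h)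
    exact e ▸ p.2
  · obtain ⟨p, -, e⟩ := D.par.surj_P _ (kf_lM h)
    exact e ▸ p.2

theorem eRels_lift (Q : Pm J) (s : Fin 2 → SpecialLinearGroup (Fin k) F) (N : ℕ) {G : Type*} [Group G]
    (A : SpecialLinearGroup (Fin (k + 1)) F → G) (b : Fin 2 → G) :
    (∀ e ∈ eRels Q s N (fun C => FreeGroup.of (Sum.inl C)) (FreeGroup.of (Sum.inr (0 : Fin 2)))
          (FreeGroup.of (Sum.inr (1 : Fin 2))),
        FreeGroup.lift (Sum.elim A b) e.1 = FreeGroup.lift (Sum.elim A b) e.2) ↔
      ∀ e ∈ eRels Q s N A (b 0) (b 1), e.1 = e.2 := by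
  have h := eRels_map Q s N (FreeGroup.lift (Sum.elim A b)) (fun C => FreeGroup.of (Sum.inl C))
    (FreeGroup.of (Sum.inr (0 : Fin 2))) (FreeGroup.of (Sum.inr (1 : Fin 2)))
  simp only [FreeGroup.lift_apply_of, Sum.elim_inl, Sum.elim_inr] at h
  rw [h, List.forall_mem_map]

/-- A covering of the model in which the relations hold is faithful when no stem is left. -/
theorem bddOn_even [Finite F] [Finite (Mg J (k + 1) 0)] (hk : 2 ≤ k) (hM : NoStem (Mg J (k + 1) 0)) (Q : Pm J)
    (s : Fin 2 → SpecialLinearGroup (Fin k) F) (hs : Subgroup.closure (Set.range s) = ⊤) {n r : ℕ}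
    {u : Fin n → SpecialLinearGroup (Fin (k + 1)) F} (hu : BddOn u r) :
    BddOn (Fin.append (fun i => slM J (k + 1) 0 (u i)) ![xE J k, tM J 0 0]) (r + 13) := by
  obtain ⟨N, hP⟩ := exists_code_even Q s
  have hgen := gen_model_even hk Q s hs N hP
  have hgen' : Subgroup.closure (Set.range (slM J (k + 1) 0) ∪ Set.range ![xE J k, tM J 0 0]) = ⊤ := by
    rw [Matrix.range_cons_cons_empty]; exact hgen
  let A₀ : SpecialLinearGroup (Fin (k + 1)) F → FreeGroup (SpecialLinearGroup (Fin (k + 1)) F ⊕ Fin 2) :=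
    fun C => FreeGroup.of (Sum.inl C)
  have h := hu.extend (slM J (k + 1) 0) ![xE J k, tM J 0 0] hgen'
    (eRels Q s N A₀ (FreeGroup.of (Sum.inr 0)) (FreeGroup.of (Sum.inr 1))) ?_ ?_
  · exact h
  · exact (eRels_lift Q s N _ _).2 (by simpa using hP)
  · intro G _ A b φ hgA hφA hφb hr
    have rel := (eRels_lift Q s N A b).1 hr
    have hgb : Subgroup.closure (Set.range A ∪ {b 0, b 1}) = ⊤ := by
      rw [eq_top_iff, ← hgA]
      refine Subgroup.closure_mono (Set.union_subset_union_right _ ?_)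
      rintro _ ⟨i, rfl⟩
      fin_cases i <;> simp
    have hA' : ∀ C, φ (A C) = slM J (k + 1) 0 C := fun C => DFunLike.congr_fun hφA C
    have hperf := (Ev.of_rels Q s N hk hs A hA' (b 0) (hφb 0) (b 1) (hφb 1) hgb rel).1
    have hsurj : Function.Surjective φ := by
      rw [← MonoidHom.range_eq_top, eq_top_iff, ← hgen, Subgroup.closure_le]
      rintro g (⟨C, rfl⟩ | rfl | rfl)
      · exact ⟨A C, hA' C⟩
      · exact ⟨b 0, hφb 0⟩
      · exact ⟨b 1, hφb 1⟩
    refine injective_of_reduced hM φ hsurj hperf fun G' _ f π' hf hπ' _ red => ?_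
    have hπ'' : ∀ g, π' (f g) = φ g := fun g => DFunLike.congr_fun hπ' g
    have gen' : Subgroup.closure (Set.range (f.comp A) ∪ {f (b 0), f (b 1)}) = ⊤ := by
      rw [MonoidHom.coe_comp, Set.range_comp, ← Set.image_pair, ← Set.image_union, ← MonoidHom.map_closure, hgb,
        Subgroup.map_top_of_surjective _ hf]
    have rel' : ∀ e ∈ eRels Q s N (f.comp A) (f (b 0)) (f (b 1)), e.1 = e.2 := by
      show ∀ e ∈ eRels Q s N (fun C => f (A C)) (f (b 0)) (f (b 1)), e.1 = e.2
      rw [eRels_map, List.forall_mem_map]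
      exact fun e he => congrArg f (rel e he)
    obtain ⟨D⟩ := (Ev.of_rels Q s N hk hs (π := π') (f.comp A) (fun C => by simp [hπ'', hA']) (f (b 0))
      (by rw [hπ'']; exact hφb 0) (f (b 1)) (by rw [hπ'']; exact hφb 1) gen' rel').2 (Or.inl red)
    exact D.injective

end Cfsg.Lib.Linear.ShortPres.SUN
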