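import Cfsg.Agent.Lib.Linear.ShortPres.SUN.EvenA

/-!
# Even dimension: the radical of the covering
-/

set_option autoImplicit false
set_option linter.unusedSectionVars false

namespace Cfsg.Lib.Linear.ShortPres.SUN

open Matrix Cfsg.Lib.Linear.SUDegree Cfsg.Lib.Linear.Herm
open scoped commutatorElement

variable {F : Type*} [Field F] [Finite F] {J : Conj F}

namespace Ev

variable {k : ℕ} [NeZero k] {G : Type*} [Group G] {π : G →* Mg J (k + 1) 0} {Q : Pm J} (D : Ev J k π Q)

/-- The radical. -/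
def N : Subgroup G := Subgroup.closure (Set.range D.X)

theorem X_mem (v : Fin (k + 1) → F) : D.X v ∈ D.N := Subgroup.subset_closure ⟨v, rfl⟩

theorem Φ_mem (v w : Fin (k + 1) → F) : D.Φ v w ∈ D.N :=
  mul_mem (mul_mem (inv_mem (D.X_mem v)) (inv_mem (D.X_mem w))) (D.X_mem _)

theorem N_comm {a b : G} (ha : a ∈ D.N) (hb : b ∈ D.N) : Commute a b := by
  have h1 : D.N ≤ Subgroup.centralizer (Set.range D.X) := by
    rw [N, Subgroup.closure_le]
    rintro _ ⟨v, rfl⟩
    rw [SetLike.mem_coe, Subgroup.mem_centralizer_iff]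
    rintro _ ⟨w, rfl⟩
    exact D.comm_all w v
  have h2 : D.N ≤ Subgroup.centralizer ({a} : Set G) := by
    rw [N, Subgroup.closure_le]
    rintro _ ⟨v, rfl⟩
    exact Subgroup.mem_centralizer_singleton_iff.2 (Subgroup.mem_centralizer_iff.1 (h1 ha) _ ⟨v, rfl⟩)
  exact (Subgroup.mem_centralizer_singleton_iff.1 (h2 hb)).symm

noncomputable instance nCommGroup : CommGroup D.N :=
  { (inferInstance : Group D.N) with mul_comm := fun a b => Subtype.ext (D.N_comm a.2 b.2).eq }

/-- A root element, additively. -/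
noncomputable def xz (v : Fin (k + 1) → F) : Additive D.N := Additive.ofMul ⟨D.X v, D.X_mem v⟩

/-- A mixed element, additively. -/
noncomputable def cz (v w : Fin (k + 1) → F) : Additive D.N := Additive.ofMul ⟨D.Φ v w, D.Φ_mem v w⟩

theorem coe_inj {a b : Additive D.N} (h : ((a.toMul : D.N) : G) = ((b.toMul : D.N) : G)) : a = b :=
  Additive.toMul.injective (Subtype.ext h)

/-- Conjugation by a special linear element on the radical. -/
noncomputable def act (C : SpecialLinearGroup (Fin (k + 1)) F) : Additive D.N →+ Additive D.N :=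
  MonoidHom.toAdditive
    { toFun := fun n => ⟨D.A C * n.1 * (D.A C)⁻¹, by
        have : D.N ≤ D.N.comap (MulAut.conj (D.A C)).toMonoidHom := by
          conv_lhs => rw [N]
          rw [Subgroup.closure_le]
          rintro _ ⟨v, rfl⟩
          show D.A C * D.X v * (D.A C)⁻¹ ∈ D.N
          rw [D.X_conj]
          exact D.X_mem _
        exact this n.2⟩
      map_one' := Subtype.ext (by simp)
      map_mul' := fun a b => Subtype.ext (by simp [mul_assoc]) }

theorem act_xz (C : SpecialLinearGroup (Fin (k + 1)) F) (v : Fin (k + 1) → F) : D.act C (D.xz v) = D.xz (C.1 *ᵥ v) :=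
  D.coe_inj (D.X_conj C v)

theorem act_cz (C : SpecialLinearGroup (Fin (k + 1)) F) (v w : Fin (k + 1) → F) :
    D.act C (D.cz v w) = D.cz (C.1 *ᵥ v) (C.1 *ᵥ w) :=
  D.coe_inj (D.Φ_conj C v w)

theorem xz_zero : D.xz 0 = 0 := D.coe_inj D.X_zero

theorem xz_add (v w : Fin (k + 1) → F) : D.xz (v + w) = D.xz v + D.xz w + D.cz v w := by
  refine D.coe_inj ?_
  show D.X (v + w) = D.X v * D.X w * D.Φ v w
  rw [Φ, (D.comm_all v w).eq]; group

theorem cz_comm (v w : Fin (k + 1) → F) : D.cz v w = D.cz w v := by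
  have h1 := D.xz_add v w
  rw [add_comm v w, D.xz_add w v, add_comm (D.xz w)] at h1
  exact (add_left_cancel h1).symm

theorem xz_norm {l : F} (hl : l * J.σ l = 1) (v : Fin (k + 1) → F) : D.xz (l • v) = D.xz v :=
  D.coe_inj (D.X_norm hl v)

/-- The image of a mixed element as a matrix. -/
def cim (v w : Fin (k + 1) → F) : Matrix (Fin (k + 1)) (Fin (k + 1)) F :=
  col v * st J.σ (col w) + st J.σ (col v * st J.σ (col w))

theorem cim_apply (v w : Fin (k + 1) → F) (i j : Fin (k + 1)) :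
    cim (J := J) v w i j = v i * J.σ (w j) + w i * J.σ (v j) := by
  simp [cim, Cfsg.Lib.Linear.SUDegree.st, Matrix.mul_apply, J.inv2, mul_comm]

theorem axis0_add_right (α : F) {u u' : Fin (k + 1) → F} (hu : u 0 = 0) (hu' : u' 0 = 0) :
    D.cz (Pi.single 0 α) (u + u') = D.cz (Pi.single 0 α) u + D.cz (Pi.single 0 α) u' := by
  refine D.coe_inj (D.InW_eq (D.inW_tail α (by simp [hu, hu'])) (mul_mem (D.inW_tail α hu) (D.inW_tail α hu')) ?_)
  show π (D.Φ _ _) = π (D.Φ _ _ * D.Φ _ _)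
  obtain ⟨h', e'⟩ := uM_mul0 (srel (J := J) (col (Pi.single (0 : Fin (k + 1)) α) * st J.σ (col u)))
    (srel (col (Pi.single (0 : Fin (k + 1)) α) * st J.σ (col u')))
  rw [map_mul, π_Φ, π_Φ, π_Φ, e']
  refine uM_congr _ _ ?_ rfl
  ext i j
  simp [Cfsg.Lib.Linear.SUDegree.st, Matrix.mul_apply]
  ring

theorem axis0_add_left (α β : F) {u : Fin (k + 1) → F} (hu : u 0 = 0) :
    D.cz (Pi.single 0 (α + β)) u = D.cz (Pi.single 0 α) u + D.cz (Pi.single 0 β) u := by
  refine D.coe_inj (D.InW_eq (D.inW_tail _ hu) (mul_mem (D.inW_tail α hu) (D.inW_tail β hu)) ?_)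
  show π (D.Φ _ _) = π (D.Φ _ _ * D.Φ _ _)
  obtain ⟨h', e'⟩ := uM_mul0 (srel (J := J) (col (Pi.single (0 : Fin (k + 1)) α) * st J.σ (col u)))
    (srel (col (Pi.single (0 : Fin (k + 1)) β) * st J.σ (col u)))
  rw [map_mul, π_Φ, π_Φ, π_Φ, e']
  refine uM_congr _ _ ?_ rfl
  ext i j
  simp [Cfsg.Lib.Linear.SUDegree.st, Matrix.mul_apply, Pi.single_add]
  ring

theorem axis0_semi (α c : F) {u : Fin (k + 1) → F} (hu : u 0 = 0) :
    D.cz (Pi.single 0 (c * α)) u = D.cz (Pi.single 0 α) (J.σ c • u) := by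
  refine D.coe_inj (D.InW_eq (D.inW_tail _ hu) (D.inW_tail α (by simp [hu])) ?_)
  show π (D.Φ _ _) = π (D.Φ _ _)
  rw [π_Φ, π_Φ]
  refine uM_congr _ _ ?_ rfl
  have hs : (Pi.single 0 (c * α) : Fin (k + 1) → F) = c • Pi.single 0 α := by rw [← Pi.single_smul, smul_eq_mul]
  rw [hs]
  ext i j
  simp [Cfsg.Lib.Linear.SUDegree.st, Matrix.mul_apply, J.inv2]
  left; ring

theorem exists_axis (i : Fin (k + 1)) : ∃ C : SpecialLinearGroup (Fin (k + 1)) F,
    (∀ a : F, C.1 *ᵥ Pi.single 0 a = Pi.single i a) ∧ ∀ w, (C.1 *ᵥ w) i = w 0 := by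
  rcases eq_or_ne i 0 with rfl | hi
  · exact ⟨1, fun a => by rw [Matrix.SpecialLinearGroup.coe_one, Matrix.one_mulVec], fun w => by simp⟩
  refine ⟨wj (F := F) hi, fun a => ?_, fun w => ?_⟩
  · funext b
    rw [Matrix.mulVec_single, Pi.smul_apply, Matrix.col_apply, wj_coe]
    rcases eq_or_ne b i with rfl | hb
    · simp [Matrix.single_apply, hi, Ne.symm hi]
    · rcases eq_or_ne b 0 with rfl | hb0
      · simp [Matrix.single_apply, hi, Ne.symm hi]
      · simp [Matrix.single_apply, Matrix.one_apply, hb, hb0, Ne.symm hb, Ne.symm hb0]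
  · rw [Matrix.mulVec, dotProduct, Finset.sum_eq_single 0 ?_ (by simp), wj_coe]
    · simp [Matrix.single_apply, hi, Ne.symm hi]
    · intro b _ hb
      rw [wj_coe]
      rcases eq_or_ne b i with rfl | hbi
      · simp [Matrix.single_apply, hi, Ne.symm hi]
      · simp [Matrix.single_apply, Matrix.one_apply, hbi, Ne.symm hbi, hb, Ne.symm hb, hi, Ne.symm hi]

theorem axis_pull {i : Fin (k + 1)} {C : SpecialLinearGroup (Fin (k + 1)) F} (h : ∀ w, (C.1 *ᵥ w) i = w 0)
    {u : Fin (k + 1) → F} (hu : u i = 0) : ∃ u', u' 0 = 0 ∧ C.1 *ᵥ u' = u := by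
  have e : C.1 *ᵥ ((C⁻¹).1 *ᵥ u) = u := by
    rw [Matrix.mulVec_mulVec, ← Matrix.SpecialLinearGroup.coe_mul, mul_inv_cancel]; simp
  have h' := h ((C⁻¹).1 *ᵥ u)
  rw [e] at h'
  exact ⟨_, h'.symm.trans hu, e⟩

theorem axis_add_right (i : Fin (k + 1)) (α : F) {u u' : Fin (k + 1) → F} (hu : u i = 0) (hu' : u' i = 0) :
    D.cz (Pi.single i α) (u + u') = D.cz (Pi.single i α) u + D.cz (Pi.single i α) u' := by
  obtain ⟨C, h0, h⟩ := exists_axis (F := F) i
  obtain ⟨v, hv, rfl⟩ := axis_pull h hu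
  obtain ⟨v', hv', rfl⟩ := axis_pull h hu'
  have e := congrArg (D.act C) (D.axis0_add_right α hv hv')
  simpa [map_add, act_cz, h0, Matrix.mulVec_add] using e

theorem axis_add_left (i : Fin (k + 1)) (α β : F) {u : Fin (k + 1) → F} (hu : u i = 0) :
    D.cz (Pi.single i (α + β)) u = D.cz (Pi.single i α) u + D.cz (Pi.single i β) u := by
  obtain ⟨C, h0, h⟩ := exists_axis (F := F) i
  obtain ⟨v, hv, rfl⟩ := axis_pull h hu
  have e := congrArg (D.act C) (D.axis0_add_left α β hv)
  simpa [map_add, act_cz, h0] using e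

theorem axis_semi (i : Fin (k + 1)) (α c : F) {u : Fin (k + 1) → F} (hu : u i = 0) :
    D.cz (Pi.single i (c * α)) u = D.cz (Pi.single i α) (J.σ c • u) := by
  obtain ⟨C, h0, h⟩ := exists_axis (F := F) i
  obtain ⟨v, hv, rfl⟩ := axis_pull h hu
  have e := congrArg (D.act C) (D.axis0_semi α c hv)
  simpa [act_cz, h0, Matrix.mulVec_smul] using e

theorem cz_single {i j : Fin (k + 1)} (hij : i ≠ j) (a b : F) :
    D.cz (Pi.single i a) (Pi.single j b) = D.cz (Pi.single i (a * J.σ b)) (Pi.single j 1) := by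
  have h := D.axis_semi i a (J.σ b) (u := Pi.single j 1) (Pi.single_eq_of_ne hij _)
  rw [J.inv2, ← Pi.single_smul, smul_eq_mul, mul_one, mul_comm] at h
  exact h.symm

theorem cz_swap_single {i j : Fin (k + 1)} (hij : i ≠ j) (a : F) :
    D.cz (Pi.single j (J.σ a)) (Pi.single i 1) = D.cz (Pi.single i a) (Pi.single j 1) := by
  rw [D.cz_comm, D.cz_single hij, one_mul, J.inv2]

/-- The action of a transvection on a mixed element. -/
noncomputable def E (γ : F) : Additive D.N :=
  D.act (tv (Pm.h01 (k := k)).symm 1) (D.cz (Pi.single 0 γ) (Pi.single 1 1)) - D.cz (Pi.single 0 γ) (Pi.single 1 1)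

theorem E_add (γ δ : F) : D.E (γ + δ) = D.E γ + D.E δ := by
  rw [E, E, E, D.axis_add_left 0 γ δ (Pi.single_eq_of_ne Pm.h01 _), map_add]
  abel

theorem tv10_single (a : F) : (tv (Pm.h01 (k := k)).symm (1 : F)).1 *ᵥ Pi.single 0 a =
    Pi.single (0 : Fin (k + 1)) a + Pi.single 1 a ∧
      (tv (Pm.h01 (k := k)).symm (1 : F)).1 *ᵥ Pi.single 1 a = Pi.single (1 : Fin (k + 1)) a := by
  constructor <;>
    (funext b; rw [tv_mul_apply]; rcases eq_or_ne b 1 with rfl | hb <;> simp [*, Pm.h01, Pm.h01.symm])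

theorem quad (β μ : F) : D.xz (Pi.single 1 (β + β * μ)) =
    D.xz (Pi.single 1 β) + D.xz (Pi.single 1 (β * μ)) + D.E (β * J.σ (β * μ)) := by
  have hP : ∀ a b : F, D.cz (Pi.single 0 a) (Pi.single (1 : Fin (k + 1)) b) =
      D.cz (Pi.single 0 (a * J.σ b)) (Pi.single 1 1) := fun a b => D.cz_single Pm.h01 a b
  set T := tv (Pm.h01 (k := k)).symm (1 : F) with hT
  have e1 := D.xz_add (Pi.single 0 β) (Pi.single 1 (β + β * μ))
  have e2 := D.xz_add (Pi.single 0 β + Pi.single 1 β) (Pi.single 1 (β * μ))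
  rw [add_assoc, ← Pi.single_add, e1, D.xz_add (Pi.single 0 β) (Pi.single 1 β)] at e2
  have e3 : D.cz (Pi.single 0 β + Pi.single 1 β) (Pi.single 1 (β * μ)) =
      D.E (β * J.σ (β * μ)) + D.cz (Pi.single 0 (β * J.σ (β * μ))) (Pi.single 1 1) := by
    rw [E, sub_add_cancel, ← hP, act_cz, (tv10_single β).1, (tv10_single (β * μ)).2]
  rw [e3, hP β β, hP β (β + β * μ),
    show β * J.σ (β + β * μ) = β * J.σ β + β * J.σ (β * μ) by rw [map_add, mul_add],
    D.axis_add_left 0 _ _ (Pi.single_eq_of_ne Pm.h01 _)] at e2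
  have e4 : D.xz (Pi.single 0 β) + D.xz (Pi.single 1 (β + β * μ)) =
      D.xz (Pi.single 0 β) + (D.xz (Pi.single 1 β) + D.xz (Pi.single 1 (β * μ)) + D.E (β * J.σ (β * μ))) := by
    refine add_right_cancel (b := D.cz (Pi.single 0 (β * J.σ β)) (Pi.single 1 1) +
      D.cz (Pi.single 0 (β * J.σ (β * μ))) (Pi.single 1 1)) (e2.trans ?_)
    abel
  exact add_left_cancel e4

theorem E_zero : D.E 0 = 0 := by rw [← add_eq_left (a := D.E 0), ← D.E_add, add_zero]

theorem E_conj (a : F) : D.E (J.σ a) = D.E a := by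
  have h1 := D.quad 1 a
  have h2 := D.quad 1 (J.σ a)
  simp only [one_mul, J.inv2] at h1 h2
  have key : D.xz (Pi.single 1 (1 + J.σ a)) = D.xz (Pi.single 1 (1 + a)) := by
    rcases eq_or_ne (1 + a) 0 with h | h
    · have h' : 1 + J.σ a = 0 := by rw [← map_one J.σ, ← map_add, h, map_zero]
      rw [h, h']
    · have hl : (1 + J.σ a) / (1 + a) * J.σ ((1 + J.σ a) / (1 + a)) = 1 := by
        have h' : J.σ (1 + a) ≠ 0 := (map_ne_zero J.σ).2 h
        simp only [map_div₀, map_add, map_one, J.inv2]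
        rw [map_add, map_one] at h'
        field_simp
      rw [← D.xz_norm hl (Pi.single 1 (1 + a)), ← Pi.single_smul, smul_eq_mul, div_mul_cancel₀ _ h]
  have key2 : D.xz (Pi.single 1 (J.σ a)) = D.xz (Pi.single 1 a) := by
    rcases eq_or_ne a 0 with rfl | h
    · rw [map_zero]
    · have h' : J.σ a ≠ 0 := (map_ne_zero J.σ).2 h
      have hl : J.σ a / a * J.σ (J.σ a / a) = 1 := by rw [map_div₀, J.inv2]; field_simp
      rw [← D.xz_norm hl (Pi.single 1 a), ← Pi.single_smul, smul_eq_mul, div_mul_cancel₀ _ h]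
  rw [key, key2, h1] at h2
  exact add_left_cancel h2

theorem E_skew {a : F} (ha : J.σ a = -a) : D.E a = 0 := by
  obtain ⟨v, hv⟩ : ∃ v, v - J.σ v = a := ⟨a * -Q.κ, by
    rw [map_mul, map_neg, ha]; linear_combination -a * Q.hκ⟩
  have h := D.E_add (J.σ v) a
  rw [show J.σ v + a = v by rw [← hv]; ring, D.E_conj] at h
  simpa using h

theorem E_trace {a b : F} (h : a + J.σ a = b + J.σ b) : D.E a = D.E b := by
  have h2 := D.E_add b (a - b)
  rw [add_sub_cancel, D.E_skew (a := a - b) (by rw [map_sub]; linear_combination h), add_zero] at h2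
  exact h2

/-- The root elements at an index are given by the action of the transvection. -/
theorem xz_single_one (β : F) : D.xz (Pi.single 1 β) = D.E (-Q.κ * (β * J.σ β)) := by
  let δ : F → Additive D.N := fun β => D.xz (Pi.single 1 β) - D.E (-Q.κ * (β * J.σ β))
  have hδ : ∀ β μ, δ (β + β * μ) = δ β + δ (β * μ) := fun β μ => by
    have e1 : D.E (-Q.κ * ((β + β * μ) * J.σ (β + β * μ))) =
        D.E (-Q.κ * (β * J.σ β)) + D.E (-Q.κ * (β * μ * J.σ (β * μ))) + D.E (β * J.σ (β * μ)) := by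
      rw [← D.E_add, ← D.E_add]
      refine D.E_trace ?_
      simp only [map_add, map_mul, map_neg, J.inv2]
      linear_combination -(β * (J.σ β * J.σ μ) + J.σ β * (β * μ)) * Q.hκ
    simp only [δ, D.quad β μ, e1]
    abel
  have hn : ∀ (l b : F), l * J.σ l = 1 → δ (l * b) = δ b := fun l b hl => by
    simp only [δ]
    rw [show (Pi.single 1 (l * b) : Fin (k + 1) → F) = l • Pi.single 1 b by rw [← Pi.single_smul, smul_eq_mul],
      D.xz_norm hl, map_mul, show l * b * (J.σ l * J.σ b) = l * J.σ l * (b * J.σ b) by ring, hl, one_mul]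
  have h0 : δ 0 = 0 := by
    simp only [δ, Pi.single_zero, D.xz_zero, zero_mul, mul_zero, D.E_zero, sub_zero]
  have h2 : ∀ b, δ b + δ b = 0 := fun b => by
    have := hδ b (-1)
    rw [show b + b * -1 = 0 by ring, h0, mul_comm b, hn (-1) b (by simp)] at this
    exact this.symm
  obtain ⟨l, hl, hl1⟩ : ∃ l : F, l * J.σ l = 1 ∧ 1 + l ≠ 0 := by
    by_cases h2' : (1 : F) + 1 = 0
    · have hsζ : J.σ Q.ζ ≠ 0 := (map_ne_zero J.σ).2 Q.ζ_ne
      refine ⟨Q.nu, by rw [Pm.nu, map_div₀, J.inv2, div_mul_div_comm, mul_comm (J.σ Q.ζ), div_self (mul_ne_zero Q.ζ_ne hsζ)], fun h => ?_⟩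
      -- otherwise the conjugation would be trivial
      have hfix : J.σ Q.ζ = Q.ζ := by
        rw [Pm.nu] at h; field_simp at h; linear_combination h - Q.ζ * h2'
      have hall : ∀ a, J.σ a = a := fun a => by
        rcases eq_or_ne a 0 with rfl | ha
        · simp
        · obtain ⟨i, rfl⟩ := Q.gen a ha; rw [map_pow, hfix]
      have := Q.hκ
      rw [hall] at this
      exact one_ne_zero (α := F) (by linear_combination this - Q.κ * h2')
    · exact ⟨1, by simp, h2'⟩
  obtain ⟨b, rfl⟩ : ∃ b, b + b * l = β := ⟨β / (1 + l), by field_simp⟩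
  have := hδ b l
  rw [mul_comm b l, hn l b hl, h2] at this
  rw [mul_comm b l]
  exact sub_eq_zero.1 this

theorem cz_diag_one (a : F) : D.cz (Pi.single 1 a) (Pi.single 1 1) = D.E a := by
  have h := D.xz_add (Pi.single 1 a) (Pi.single 1 1)
  rw [← Pi.single_add, D.xz_single_one, D.xz_single_one, D.xz_single_one] at h
  have e : D.E (-Q.κ * ((a + 1) * J.σ (a + 1))) =
      D.E (-Q.κ * (a * J.σ a)) + D.E (-Q.κ * (1 * J.σ 1)) + D.E a := by
    rw [← D.E_add, ← D.E_add]
    refine D.E_trace ?_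
    simp only [map_add, map_mul, map_neg, map_one, J.inv2]
    linear_combination -(a + J.σ a) * Q.hκ
  rw [e] at h
  exact (add_left_cancel h).symm

theorem exists_axis_one (i : Fin (k + 1)) : ∃ C : SpecialLinearGroup (Fin (k + 1)) F,
    ∀ a : F, C.1 *ᵥ Pi.single 1 a = Pi.single i a := by
  obtain ⟨C, h0, -⟩ := exists_axis (F := F) i
  obtain ⟨C', h1, -⟩ := exists_axis (F := F) (1 : Fin (k + 1))
  refine ⟨C * C'⁻¹, fun a => ?_⟩
  rw [← h1 a, Matrix.SpecialLinearGroup.coe_mul, ← Matrix.mulVec_mulVec, Matrix.mulVec_mulVec _ (C'⁻¹).1 C'.1,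
    ← Matrix.SpecialLinearGroup.coe_mul, inv_mul_cancel, Matrix.SpecialLinearGroup.coe_one, Matrix.one_mulVec, h0]

theorem single_add_left (i j : Fin (k + 1)) (a b : F) :
    D.cz (Pi.single i (a + b)) (Pi.single j 1) = D.cz (Pi.single i a) (Pi.single j 1) + D.cz (Pi.single i b) (Pi.single j 1) := by
  rcases eq_or_ne i j with rfl | hij
  · obtain ⟨C, hC⟩ := exists_axis_one (F := F) i
    have h := congrArg (D.act C) (D.E_add a b)
    simp only [← D.cz_diag_one, map_add, act_cz, hC] at h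
    exact h
  · exact D.axis_add_left i a b (Pi.single_eq_of_ne hij _)

theorem diag_skew (i : Fin (k + 1)) {a : F} (ha : J.σ a = -a) : D.cz (Pi.single i a) (Pi.single i 1) = 0 := by
  obtain ⟨C, hC⟩ := exists_axis_one (F := F) i
  have h := congrArg (D.act C) (D.E_skew ha)
  simpa only [← D.cz_diag_one, act_cz, hC, map_zero] using h

/-- The additive parametrisation of the radical. -/
noncomputable def lam : Matrix (Fin (k + 1)) (Fin (k + 1)) F →+ Additive D.N :=
  AddMonoidHom.mk' (fun M => ∑ p : Fin (k + 1) × Fin (k + 1), D.cz (Pi.single p.1 (M p.1 p.2)) (Pi.single p.2 1))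
    fun M M' => by simp only [Matrix.add_apply, D.single_add_left, Finset.sum_add_distrib]

theorem lam_single (i j : Fin (k + 1)) (a : F) : D.lam (Matrix.single i j a) = D.cz (Pi.single i a) (Pi.single j 1) := by
  classical
  show ∑ p : Fin (k + 1) × Fin (k + 1), _ = _
  rw [Finset.sum_eq_single (i, j) ?_ (by simp)]
  · simp
  · rintro ⟨a', b'⟩ _ hp
    rw [Matrix.single_apply, if_neg (fun h => hp (by rw [h.1, h.2])), Pi.single_zero]
    exact D.coe_inj (D.Φ_zero_left _)

theorem lam_skew {M : Matrix (Fin (k + 1)) (Fin (k + 1)) F} (hM : M + st J.σ M = 0) : D.lam M = 0 := by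
  classical
  show ∑ p : Fin (k + 1) × Fin (k + 1), _ = _
  refine Finset.sum_ninvolution (fun p => (p.2, p.1)) (fun p => ?_) (fun p hp => ?_) (fun p => Finset.mem_univ _)
    (fun p => rfl)
  · obtain ⟨i, j⟩ := p
    show D.cz (Pi.single i (M i j)) (Pi.single j 1) + D.cz (Pi.single j (M j i)) (Pi.single i 1) = 0
    have e : M j i = -J.σ (M i j) := eq_neg_of_add_eq_zero_left (congrFun (congrFun hM j) i)
    rcases eq_or_ne i j with rfl | hij
    · rw [D.diag_skew i (a := M i i) (by linear_combination e), add_zero]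
    · rw [e, ← D.cz_swap_single hij (M i j), ← D.single_add_left, add_neg_cancel, Pi.single_zero]
      exact D.coe_inj (D.Φ_zero_left _)
  · obtain ⟨i, j⟩ := p
    intro e
    obtain rfl : j = i := congrArg Prod.fst e
    have e' : M j j = -J.σ (M j j) := eq_neg_of_add_eq_zero_left (congrFun (congrFun hM j) j)
    exact hp (D.diag_skew j (a := M j j) (by linear_combination e'))

theorem xz_axis (i : Fin (k + 1)) (a : F) : D.xz (Pi.single i a) = D.lam (Matrix.single i i (-Q.κ * (a * J.σ a))) := by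
  obtain ⟨C, hC⟩ := exists_axis_one (F := F) i
  have h := congrArg (D.act C) (D.xz_single_one a)
  rw [← D.cz_diag_one, act_xz, act_cz, hC, hC, hC] at h
  rw [lam_single, h]

theorem exists_lam_X (v : Fin (k + 1) → F) : ∃ M, D.lam M = D.xz v := by
  classical
  suffices key : ∀ (s : Finset (Fin (k + 1))), ∃ M, D.lam M = D.xz (∑ i ∈ s, Pi.single i (v i)) by
    obtain ⟨M, hM⟩ := key Finset.univ
    exact ⟨M, by rw [hM, Finset.univ_sum_single]⟩
  intro s
  induction s using Finset.induction with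
  | empty => exact ⟨0, by rw [map_zero, Finset.sum_empty, D.xz_zero]⟩
  | insert a s ha ih =>
    obtain ⟨M, hM⟩ := ih
    have htail : ∀ t : Finset (Fin (k + 1)), a ∉ t → (∑ i ∈ t, Pi.single i (v i) : Fin (k + 1) → F) a = 0 ∧
        ∃ M', D.lam M' = D.cz (Pi.single a (v a)) (∑ i ∈ t, Pi.single i (v i)) := by
      intro t
      induction t using Finset.induction with
      | empty => exact fun _ => ⟨by simp, 0, by rw [map_zero, Finset.sum_empty]; exact (D.coe_inj (a := D.cz (Pi.single a (v a)) 0) (b := 0) (D.Φ_zero_right _)).symm⟩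
      | insert b t hb iht =>
        intro hab
        rw [Finset.mem_insert, not_or] at hab
        obtain ⟨h0, M', hM'⟩ := iht hab.2
        rw [Finset.sum_insert hb]
        refine ⟨by rw [Pi.add_apply, Pi.single_eq_of_ne hab.1, h0, add_zero],
          Matrix.single a b (v a * J.σ (v b)) + M', ?_⟩
        rw [map_add, D.lam_single, hM', ← D.cz_single hab.1,
          D.axis_add_right a (v a) (Pi.single_eq_of_ne hab.1 _) h0]
    obtain ⟨-, M', hM'⟩ := htail s ha
    refine ⟨Matrix.single a a (-Q.κ * (v a * J.σ (v a))) + M + M', ?_⟩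
    rw [map_add, map_add, ← D.xz_axis, hM, hM', Finset.sum_insert ha, D.xz_add]

theorem exists_lam {n : G} (hn : n ∈ D.N) : ∃ M, ((D.lam M).toMul : D.N) = n := by
  induction hn using Subgroup.closure_induction'' with
  | mem x hx =>
    obtain ⟨v, rfl⟩ := hx
    obtain ⟨M, hM⟩ := D.exists_lam_X v
    exact ⟨M, by rw [hM]; rfl⟩
  | one => exact ⟨0, by rw [map_zero]; rfl⟩
  | inv_mem x hx =>
    obtain ⟨v, rfl⟩ := hx
    obtain ⟨M, hM⟩ := D.exists_lam_X v
    exact ⟨-M, by rw [map_neg, hM]; rfl⟩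
  | mul x y _ _ ihx ihy =>
    obtain ⟨M, rfl⟩ := ihx
    obtain ⟨M', rfl⟩ := ihy
    exact ⟨M + M', by rw [map_add]; rfl⟩

theorem π_lam (M : Matrix (Fin (k + 1)) (Fin (k + 1)) F) : π ((D.lam M).toMul : D.N) = uM (srel M) := by
  induction M using Matrix.induction_on' with
  | h_zero =>
    rw [map_zero]
    exact (map_one π).trans (uM0_eq_one _ (by simp [Cfsg.Lib.Linear.SUDegree.st_zero])).symm
  | h_add M M' ih ih' =>
    rw [map_add, toMul_add, Subgroup.coe_mul, map_mul, ih, ih']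
    obtain ⟨h', e'⟩ := uM_mul0 (srel (J := J) M) (srel M')
    rw [e']
    refine uM_congr _ _ ?_ rfl
    rw [Cfsg.Lib.Linear.SUDegree.st_add, ← smul_add]
    congr 1
    abel
  | h_std_basis i j a =>
    rw [D.lam_single]
    show π (D.Φ _ _) = _
    rw [D.π_Φ]
    refine uM_congr _ _ ?_ rfl
    have e : col (Pi.single i a) * st J.σ (col (Pi.single j (1 : F))) = Matrix.single i j a := by
      ext i' j'
      rw [col_mul_st, Matrix.single_apply]
      by_cases h1 : i = i' <;> by_cases h2 : j = j' <;> simp [h1, h2, Ne.symm]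
    rw [e]

/-- The radical maps injectively. -/
theorem N_inj {n : G} (hn : n ∈ D.N) (h : π n = 1) : n = 1 := by
  obtain ⟨M, rfl⟩ := D.exists_lam hn
  rw [D.π_lam] at h
  have h1 := (uM_eq_one h).1
  rw [smul_eq_zero, or_iff_right J.η_ne] at h1
  rw [D.lam_skew h1]
  rfl

/-- Every element of the radical is an image. -/
theorem N_surj {H : Matrix (Fin (k + 1)) (Fin (k + 1)) F} {X : Matrix (Fin (k + 1)) (Fin 0) F}
    (h : H + st J.σ H + X * st J.σ X = 0) : ∃ n ∈ D.N, π n = uM h := by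
  obtain rfl : X = 0 := Subsingleton.elim _ _
  have hs : st J.σ H = -H := by
    rw [Matrix.zero_mul, add_zero] at h
    exact eq_neg_of_add_eq_zero_right h
  refine ⟨_, (D.lam ((-Q.κ * J.η⁻¹) • H)).toMul.2, ?_⟩
  rw [D.π_lam]
  refine uM_congr _ _ ?_ rfl
  rw [Cfsg.Lib.Linear.SUDegree.st_smul, hs, smul_neg, ← sub_eq_add_neg, ← sub_smul, smul_smul]
  convert one_smul F H using 2
  rw [map_mul, map_neg, map_inv₀, J.η_skew]
  have := J.η_ne
  field_simp
  linear_combination -Q.hκ

end Ev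

end Cfsg.Lib.Linear.ShortPres.SUN
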