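import Cfsg.Agent.Lib.Linear.ShortPres.SLN.Seven.Main
import Cfsg.Agent.Lib.Linear.ShortPres.SLThree.Main

/-!
# Special linear groups on four generators
-/

set_option autoImplicit false

namespace Cfsg.Lib.Linear.ShortPres.SUN

open Equiv Matrix Cfsg.Lib.Linear.ShortPres.SLN
open scoped MatrixGroups

variable {F : Type*} [Field F] [Fintype F]

/-- Permutation matrices and one further element generate. -/
theorem closure_four (d : ℕ) {ν : F} (hν : ν ≠ 0) (hgen : ∀ a : F, a ≠ 0 → ∃ i : ℕ, ν ^ i = a)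
    (W : Subgroup (SpecialLinearGroup (Pt d) F)) (hpm : ∀ π, pm π ∈ W)
    (hg : T (show (Sum.inl 0 : Pt d) ≠ Sum.inl 1 by simp) (1 : F) *
      SpecialLinearGroup.diag2n (show (Sum.inl 2 : Pt d) ≠ Sum.inr 0 by simp) ν hν ∈ W) : W = ⊤ := by
  classical
  have n01 : (Sum.inl 0 : Pt d) ≠ Sum.inl 1 := by simp
  have n2r : (Sum.inl 2 : Pt d) ≠ Sum.inr 0 := by simp
  have n20 : (Sum.inl 2 : Pt d) ≠ Sum.inl 0 := by simp
  set D := SpecialLinearGroup.diag2n n2r ν hν with hD
  set U := T n01 (1 : F) with hU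
  have hcom : Commute U D := Subtype.ext (by
    rw [Matrix.SpecialLinearGroup.coe_mul, Matrix.SpecialLinearGroup.coe_mul, hD, SpecialLinearGroup.diag2n_coe, T_coe]
    ext a b
    rw [Matrix.mul_diagonal, Matrix.diagonal_mul]
    by_cases h : (Sum.inl 0 : Pt d) = a ∧ (Sum.inl 1 : Pt d) = b
    · obtain ⟨rfl, rfl⟩ := h; simp
    · rw [Matrix.add_apply, Matrix.single_apply, if_neg h, add_zero]
      by_cases hab : a = b
      · subst hab; ring
      · simp [hab])
  have hUQ : U ^ Fintype.card F = 1 := by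
    have h : ∀ i : ℕ, U ^ i = T n01 (i : F) := fun i => by
      induction i with
      | zero => exact Subtype.ext (by simp [T_coe])
      | succ i ih => rw [pow_succ, ih, hU, T_add, Nat.cast_succ]
    rw [h, FiniteField.cast_card_eq_zero]
    exact Subtype.ext (by simp [T_coe])
  have hDQ : D ^ Fintype.card F = D := by
    refine Subtype.ext ?_
    rw [Matrix.SpecialLinearGroup.coe_pow, hD, SpecialLinearGroup.diag2n_coe, Matrix.diagonal_pow]
    congr 1
    funext a
    rw [Pi.pow_apply, FiniteField.pow_card]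
  have hDW : D ∈ W := by
    have h := pow_mem hg (Fintype.card F)
    rwa [hcom.mul_pow, hUQ, hDQ, one_mul] at h
  have hUW : U ∈ W := by
    have h := mul_mem hg (inv_mem hDW)
    rwa [mul_inv_cancel_right] at h
  have hmove : ∀ (i j : Pt d) (hij : i ≠ j) (i' j' : Pt d) (hij' : i' ≠ j') (t : F), T hij t ∈ W → T hij' t ∈ W := by
    intro i j hij i' j' hij' t h
    obtain ⟨x, y, hxy, hxi, hxj, hyi, hyj⟩ : ∃ x y : Pt d, x ≠ y ∧ x ≠ i ∧ x ≠ j ∧ y ≠ i ∧ y ≠ j := by
      have hc : 1 < (({i, j} : Finset (Pt d))ᶜ).card := by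
        rw [Finset.card_compl, Finset.card_pair hij]
        simp only [Fintype.card_sum, Fintype.card_fin]
        omega
      obtain ⟨x, hx, y, hy, hxy⟩ := Finset.one_lt_card.1 hc
      simp only [Finset.mem_compl, Finset.mem_insert, Finset.mem_singleton, not_or] at hx hy
      exact ⟨x, y, hxy, hx.1, hx.2, hy.1, hy.2⟩
    let π₁ : Perm (Pt d) := swap (swap i i' j) j' * swap i i'
    have hne : swap i i' j ≠ i' := fun e => hij ((swap i i').injective (e.trans (swap_apply_left i i').symm)).symm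
    have e0 : π₁ i = i' := by
      simp only [π₁, Perm.mul_apply, swap_apply_left]
      exact swap_apply_of_ne_of_ne hne.symm hij'
    have e1 : π₁ j = j' := by
      simp only [π₁, Perm.mul_apply, swap_apply_left]
    obtain ⟨π, hπ⟩ := exists_even π₁ hxy
    have ei : π.1 i = i' := by
      rcases hπ with h | h <;> rw [h]
      · exact e0
      · rw [Perm.mul_apply, swap_apply_of_ne_of_ne hxi.symm hyi.symm, e0]
    have ej : π.1 j = j' := by
      rcases hπ with h | h <;> rw [h]
      · exact e1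
      · rw [Perm.mul_apply, swap_apply_of_ne_of_ne hxj.symm hyj.symm, e1]
    have h2 := mul_mem (mul_mem (hpm π) h) (inv_mem (hpm π))
    rw [pm_conj_T] at h2
    rwa [T_congr _ t ei ej] at h2
  have hscale : ∀ n : ℕ, T n20 (ν ^ n) ∈ W := by
    intro n
    induction n with
    | zero => rw [pow_zero]; exact hmove _ _ n01 _ _ _ 1 hUW
    | succ n ih =>
      have h2 := mul_mem (mul_mem hDW ih) (inv_mem hDW)
      convert h2 using 1
      rw [eq_mul_inv_iff_mul_eq]
      refine Subtype.ext ?_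
      rw [Matrix.SpecialLinearGroup.coe_mul, Matrix.SpecialLinearGroup.coe_mul, hD, SpecialLinearGroup.diag2n_coe,
        T_coe, T_coe]
      ext a b
      rw [Matrix.mul_diagonal, Matrix.diagonal_mul, Matrix.add_apply, Matrix.add_apply, Matrix.single_apply,
        Matrix.single_apply]
      by_cases h : (Sum.inl 2 : Pt d) = a ∧ (Sum.inl 0 : Pt d) = b
      · obtain ⟨rfl, rfl⟩ := h; simp [pow_succ, mul_comm]
      · rw [if_neg h, if_neg h, add_zero]
        by_cases hab : a = b
        · subst hab; ring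
        · simp [hab]
  rw [eq_top_iff, ← Cfsg.Lib.Linear.closure_transvection_eq_top (ι := Pt d) (F := F), Subgroup.closure_le]
  rintro _ ⟨i, j, hij, t, rfl⟩
  rcases eq_or_ne t 0 with rfl | ht
  · have : (SpecialLinearGroup.transvection hij (0 : F)) = 1 := Subtype.ext (Matrix.transvection_zero i j)
    rw [this]; exact one_mem _
  obtain ⟨n, rfl⟩ := hgen t ht
  exact hmove _ _ n20 _ _ hij _ (hscale n)

theorem exists_four {d k r : ℕ} (h : Seven.SLBase F d k r) (hk : k = 2 ∨ k = 3) :
    ∃ v : Fin 4 → SpecialLinearGroup (Pt d) F, BddOn v (r + 1) := by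
  classical
  obtain ⟨va, hva, w, hw⟩ := h
  obtain ⟨ν, hν⟩ := IsCyclic.exists_generator (α := Fˣ)
  have hgen : ∀ a : F, a ≠ 0 → ∃ i : ℕ, (ν : F) ^ i = a := fun a ha => by
    obtain ⟨i, hi⟩ := mem_powers_iff_mem_zpowers.2 (hν (Units.mk0 a ha))
    exact ⟨i, by simpa using congrArg Units.val hi⟩
  obtain ⟨g, hg⟩ : ∃ g, g = T (show (Sum.inl 0 : Pt d) ≠ Sum.inl 1 by simp) (1 : F) *
      SpecialLinearGroup.diag2n (show (Sum.inl 2 : Pt d) ≠ Sum.inr 0 by simp) (ν : F) ν.ne_zero := ⟨_, rfl⟩
  have h1 := hw.snoc g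
  let sel : Fin 4 → Fin (4 + k + 1) := fun i =>
    if h : i.val < k then Fin.castAdd 1 (Fin.natAdd 4 ⟨i.val, h⟩)
    else if i.val = k then Fin.natAdd (4 + k) 0 else Fin.castAdd 1 (Fin.castAdd k 0)
  refine ⟨_, h1.sub (g := sel) ?_ (closure_four d ν.ne_zero hgen _ (fun π => ?_) ?_)⟩
  · rcases hk with rfl | rfl <;> intro a b e <;> fin_cases a <;> fin_cases b <;> simp [sel, Fin.ext_iff] at e ⊢
  · have hle : Subgroup.closure (Set.range va) ≤ (Subgroup.closure (Set.range
        (Fin.append (Fin.append w fun i => pm (va i)) (fun _ : Fin 1 => g) ∘ sel))).comap pm := by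
      rw [Subgroup.closure_le]
      rintro _ ⟨i, rfl⟩
      have hi : i.val < 4 := by rcases hk with rfl | rfl <;> omega
      refine Subgroup.subset_closure ⟨⟨i.val, hi⟩, ?_⟩
      simp only [Function.comp_apply, sel, dif_pos i.isLt, Fin.append_left, Fin.append_right]
    rw [hva] at hle
    exact hle (Subgroup.mem_top π)
  · refine Subgroup.subset_closure ⟨⟨k, by omega⟩, ?_⟩
    simp [sel, hg]

/-- Special linear groups have presentations on four generators with at most twenty-six relators. -/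
theorem exists_slBase {n : ℕ} (hn : 3 ≤ n) :
    ∃ v : Fin 4 → SpecialLinearGroup (Fin n) F, BddOn v 26 := by
  classical
  obtain rfl | hn4 := eq_or_lt_of_le hn
  · obtain ⟨p, hp⟩ := CharP.exists F
    haveI : Fact p.Prime := ⟨CharP.char_is_prime F p⟩
    have h3 : BddG SL(3, F) 4 14 := Three.present_SL_three p
    obtain ⟨v, hv⟩ := h3.exists_on
    exact ⟨v, hv.mono (by norm_num)⟩
  obtain ⟨d, rfl⟩ := Nat.exists_eq_add_of_le (show 4 ≤ n by omega)
  have e : Pt d ≃ Fin (4 + d) := Fintype.equivFinOfCardEq (by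
    simp only [Fintype.card_sum, Fintype.card_fin]; omega)
  obtain ⟨v, hv⟩ : ∃ v : Fin 4 → SpecialLinearGroup (Pt d) F, BddOn v 26 := by
    rcases d with _ | _ | d
    · obtain ⟨v, hv⟩ := exists_four (Seven.slBase_four (F := F)) (Or.inl rfl)
      exact ⟨v, hv.mono (by norm_num)⟩
    · obtain ⟨v, hv⟩ := exists_four (Seven.slBase_five (F := F)) (Or.inl rfl)
      exact ⟨v, hv.mono (by norm_num)⟩
    · exact exists_four (Seven.slBase_large (F := F) (d + 2) (by omega)) (Or.inr rfl)
  exact ⟨_, hv.map (rex e)⟩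

end Cfsg.Lib.Linear.ShortPres.SUN
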