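import Cfsg.Agent.Lib.Linear.ShortPres.SUN.Field
import Cfsg.Agent.Lib.Linear.ShortPres.SUN.SLBase
import Cfsg.Agent.Lib.Linear.ShortPres.SUN.EvenPres
import Cfsg.Agent.Lib.Linear.ShortPres.OmegaPlus.Main

/-!
# Even dimensional special unitary groups on six generators
-/

set_option autoImplicit false

universe u

namespace Cfsg.Lib.Linear.ShortPres.SUN

variable {F : Type u} [Field F] [Fintype F] {q : ℕ}

/-- At most thirty-nine relators in even dimension at least six. -/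
theorem bddG_even (hF : Fintype.card F = q ^ 2) (k : ℕ) (hk : 2 ≤ k) (h62 : ¬ (k = 2 ∧ q = 2)) :
    BddG ↥(Cfsg.SU (k + 1 + (k + 1)) F q) 6 39 := by
  haveI : NeZero k := ⟨by omega⟩
  obtain ⟨J, hJ⟩ := exists_conj hF
  obtain ⟨Q⟩ := exists_pm hF hJ
  obtain ⟨e⟩ := equiv_SU hF hJ (m := k + 1) (ε := 0) (n := k + 1 + (k + 1)) rfl
  haveI : Finite ↥(Cfsg.SU (k + 1 + (k + 1)) F q) := Subtype.finite
  haveI : Finite ↥(Mg J (k + 1) 0) := Finite.of_equiv _ e.symm.toEquiv
  have hM : NoStem ↥(Mg J (k + 1) 0) :=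
    (noStem_SU hF (by omega) (by omega) (by omega) (by omega) (by omega)).of_equiv e
  obtain ⟨s, hs⟩ : ∃ s : Fin 2 → Matrix.SpecialLinearGroup (Fin k) F, Subgroup.closure (Set.range s) = ⊤ := by
    obtain ⟨j, rfl⟩ := Nat.exists_eq_add_of_le' hk
    exact OmegaPlus.two_gen j
  obtain ⟨v, hv⟩ := exists_slBase (F := F) (n := k + 1) (by omega)
  exact ((bddOn_even hk hM Q s hs hv).bddG.of_equiv e).mono (by norm_num)

end Cfsg.Lib.Linear.ShortPres.SUN
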