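import Cfsg.Agent.Lib.Linear.ShortPres.SUN.EvenPres

/-!
# Four dimensions: twenty relations present the model
-/

set_option autoImplicit false
set_option linter.unusedSectionVars false

universe u

namespace Cfsg.Lib.Linear.ShortPres.SUN

open Matrix Cfsg.Lib.Linear.SUDegree Cfsg.Lib.Linear.Herm
open scoped commutatorElement

variable {F : Type u} [Field F] {J : Conj F}

theorem d0_inv_mul {m : ℕ} [NeZero m] {c : F} (hc : c ≠ 0) : d0 (m := m) c⁻¹ * d0 c = 1 := by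
  rw [d0_mul, inv_mul_cancel₀ hc]; simp [d0]

/-- Conjugation by the torus matrix. -/
def cj {m : ℕ} [NeZero m] (c : F) (hc : c ≠ 0) : SpecialLinearGroup (Fin m) F →* SpecialLinearGroup (Fin m) F :=
  MonoidHom.mk' (fun C => ⟨d0 c * C.1 * d0 c⁻¹, by
      rw [det_mul, det_mul, d0_det, d0_det, C.2, mul_one, mul_inv_cancel₀ hc]⟩) fun C D =>
    Subtype.ext (show d0 c * (C * D).1 * d0 c⁻¹ = d0 c * C.1 * d0 c⁻¹ * (d0 c * D.1 * d0 c⁻¹) by
      rw [Matrix.SpecialLinearGroup.coe_mul]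
      calc d0 c * (C.1 * D.1) * d0 c⁻¹ = d0 c * C.1 * (d0 c⁻¹ * d0 c) * D.1 * d0 c⁻¹ := by
            rw [d0_inv_mul hc]; simp [Matrix.mul_assoc]
        _ = _ := by simp [Matrix.mul_assoc])

theorem cj_coe {m : ℕ} [NeZero m] {c : F} (hc : c ≠ 0) (C : SpecialLinearGroup (Fin m) F) :
    (cj c hc C).1 = d0 c * C.1 * d0 c⁻¹ := rfl

theorem cj_cj {m : ℕ} [NeZero m] {c : F} (hc : c ≠ 0) (C : SpecialLinearGroup (Fin m) F) :
    cj c hc (cj c⁻¹ (inv_ne_zero hc) C) = C := by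
  refine Subtype.ext ?_
  have h : d0 (m := m) c * d0 c⁻¹ = 1 := by rw [d0_mul, mul_inv_cancel₀ hc]; simp [d0]
  rw [cj_coe, cj_coe, inv_inv]
  calc d0 c * (d0 c⁻¹ * C.1 * d0 c) * d0 c⁻¹ = (d0 c * d0 c⁻¹) * C.1 * (d0 c * d0 c⁻¹) := by
        simp [Matrix.mul_assoc]
    _ = C.1 := by rw [h, Matrix.one_mul, Matrix.mul_one]

theorem cj_tv {m : ℕ} [NeZero m] {c : F} (hc : c ≠ 0) {b : Fin m} (h : (0 : Fin m) ≠ b) (x : F) :
    cj c hc (tv h x) = tv h (c * x) := by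
  refine Subtype.ext ?_
  rw [cj_coe, tv_coe, tv_coe, Matrix.mul_add, Matrix.add_mul, Matrix.mul_one, d0_mul, mul_inv_cancel₀ hc]
  congr 1
  · simp [d0]
  · ext i j
    rw [d0, d0, Matrix.mul_diagonal, Matrix.diagonal_mul, Matrix.single_apply, Matrix.single_apply]
    by_cases hij : 0 = i ∧ b = j
    · obtain ⟨rfl, rfl⟩ := hij; simp [h.symm]
    · simp [hij]

theorem dl_tv {k : ℕ} [NeZero k] {d : F} (hd : d ≠ 0) (x : F) :
    Pm.dl (k := k) d * tv (Pm.h01 (k := k)) x * (Pm.dl (k := k) d)⁻¹ = tv Pm.h01 (d * d * x) := by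
  rw [mul_inv_eq_iff_eq_mul]
  refine Subtype.ext ?_
  rw [Matrix.SpecialLinearGroup.coe_mul, Matrix.SpecialLinearGroup.coe_mul, Pm.dl_coe hd, tv_coe, tv_coe,
    Matrix.mul_add, Matrix.add_mul, Matrix.mul_one, Matrix.one_mul]
  congr 1
  ext i j
  rw [Matrix.mul_diagonal, Matrix.diagonal_mul, Matrix.single_apply, Matrix.single_apply]
  by_cases hij : (0 : Fin (k + 1)) = i ∧ 1 = j
  · obtain ⟨rfl, rfl⟩ := hij; simp [Pm.h01.symm]; field_simp
  · simp [hij]

theorem two_shear (C : SpecialLinearGroup (Fin (1 + 1)) F) (h : C.1 *ᵥ Pi.single 0 1 = Pi.single 0 1) :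
    C = tv (Pm.h01 (k := 1)) (C.1 0 1) := by
  have h00 : C.1 0 0 = 1 := by
    have := congrFun h 0
    rwa [Matrix.mulVec_single_one, Matrix.col_apply, Pi.single_eq_same] at this
  have h10 : C.1 1 0 = 0 := by
    have := congrFun h 1
    rwa [Matrix.mulVec_single_one, Matrix.col_apply, Pi.single_eq_of_ne (by simp)] at this
  have hd : C.1.det = 1 := C.2
  erw [Matrix.det_fin_two, h00, h10] at hd
  refine Subtype.ext ?_
  rw [tv_coe]
  ext i j
  fin_cases i <;> fin_cases j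
  · simpa using h00
  · simp
  · simpa using h10
  · simpa using hd

section Model

variable [Finite F] (Q : Pm J)

theorem me_h_A {k : ℕ} [NeZero k] (C : SpecialLinearGroup (Fin (k + 1)) F) :
    Q.he (slM J (k + 1) 0) (xE J k) (tM J 0 0) * slM J (k + 1) 0 C *
      (Q.he (slM J (k + 1) 0) (xE J k) (tM J 0 0))⁻¹ = slM J (k + 1) 0 (cj Q.n0 Q.n0_ne C) := by
  obtain ⟨L, μ, hL, eL, e⟩ := mhe (k := k) Q
  obtain ⟨h1, e1⟩ := lM_mul hL (levOK_sl (J := J) (ε := 0) C)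
  obtain ⟨h2, e2⟩ := lM_mul (levOK_sl (J := J) (ε := 0) (cj Q.n0 Q.n0_ne C)) hL
  rw [mul_inv_eq_iff_eq_mul, e]
  show lM hL * lM (levOK_sl C) = lM (levOK_sl _) * lM hL
  rw [e1, e2]
  refine lM_congr zero_le_one _ _ ?_
  rw [Units.val_mul, Units.val_mul, eL]
  show d0 Q.n0 * C.1 = d0 Q.n0 * C.1 * d0 Q.n0⁻¹ * d0 Q.n0
  rw [Matrix.mul_assoc _ _ (d0 Q.n0), d0_inv_mul Q.n0_ne, Matrix.mul_one]

theorem me_h_e {k : ℕ} [NeZero k] (v : Fin (k + 1) → F) :
    Q.he (slM J (k + 1) 0) (xE J k) (tM J 0 0) * uM (erel v) *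
      (Q.he (slM J (k + 1) 0) (xE J k) (tM J 0 0))⁻¹ = uM (erel (d0 Q.n0 *ᵥ v)) := by
  obtain ⟨L, μ, hL, eL, e⟩ := mhe (k := k) Q
  rw [mul_inv_eq_iff_eq_mul, e, lM_uM]
  congr 1
  refine uM_congr _ _ ?_ (Subsingleton.elim _ _)
  have hcol : L.1 * col v = col (d0 Q.n0 *ᵥ v) := by
    rw [eL]; ext i j; simp [Matrix.mul_apply, Matrix.mulVec, dotProduct]
  rw [← hcol, Cfsg.Lib.Linear.SUDegree.st_mul, Matrix.mul_smul, Matrix.smul_mul]
  simp only [Matrix.mul_assoc]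

theorem me_hx {k : ℕ} [NeZero k] : Q.he (slM J (k + 1) 0) (xE J k) (tM J 0 0) * xE J k *
    (Q.he (slM J (k + 1) 0) (xE J k) (tM J 0 0))⁻¹ = Pm.xa (slM J (k + 1) 0) (xE J k) Q.n0 := by
  rw [exa]
  refine (me_h_e Q _).trans ?_
  exact uM_congr _ _ (by rw [d0_single, if_pos rfl, mul_one]) rfl

theorem me_hX {k : ℕ} [NeZero k] : Commute (Q.he (slM J (k + 1) 0) (xE J k) (tM J 0 0))
    (Pm.xs (slM J (k + 1) 0) (xE J k) Pm.w10) := by
  refine mul_inv_eq_iff_eq_mul.1 ?_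
  rw [exs]
  refine (me_h_e Q _).trans ?_
  exact uM_congr _ _ (by rw [Pm.w10_mulVec, d0_single, if_neg Pm.h01.symm, mul_one]) rfl

theorem me_comm {k : ℕ} [NeZero k] (C : SpecialLinearGroup (Fin (k + 1)) F) :
    Commute (xE J k) (Pm.xs (slM J (k + 1) 0) (xE J k) C) := by
  rw [exs, xE]
  obtain ⟨h1, e1⟩ := uM_mul0 (erel (J := J) (Pi.single (0 : Fin (k + 1)) (1 : F))) (erel (C.1 *ᵥ Pi.single 0 1))
  obtain ⟨h2, e2⟩ := uM_mul0 (erel (J := J) (C.1 *ᵥ Pi.single 0 1)) (erel (Pi.single (0 : Fin (k + 1)) (1 : F)))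
  exact e1.trans ((uM_congr _ _ (add_comm _ _) rfl).trans e2.symm)

theorem me_phc {k : ℕ} [NeZero k] {c : F} (hc : c ≠ 0) :
    tM J 0 0 * Pm.phc (slM J (k + 1) 0) (xE J k) c * (tM J 0 0)⁻¹ =
      slM J (k + 1) 0 (tv (Pm.h01 (k := k)).symm c) := by
  obtain ⟨hu, e⟩ := tv_tM (J := J) (ε := 0) (Pm.h01 (k := k)).symm c
  obtain ⟨h1, e1⟩ := uM_inv (erel (J := J) (Pi.single (0 : Fin (k + 1)) (1 : F)))
  obtain ⟨h2, e2⟩ := uM_inv (erel (J := J) ((Pm.w10 * Pm.dl c : SpecialLinearGroup (Fin (k + 1)) F).1 *ᵥ Pi.single 0 1))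
  obtain ⟨h3, e3⟩ := uM_mul0 h1 h2
  obtain ⟨h4, e4⟩ := uM_mul0 h3 (erel ((tv (Pm.h01 (k := k)).symm c).1 *ᵥ Pi.single 0 1))
  rw [mul_inv_eq_iff_eq_mul, e, Pm.phc, exs, exs, xE, e1, e2, e3, e4]
  congr 1
  refine uM_congr _ _ ?_ rfl
  have e5 : (tv (Pm.h01 (k := k)).symm c).1 *ᵥ Pi.single 0 1 = Pi.single (0 : Fin (k + 1)) 1 + Pi.single 1 c :=
    funext fun a => by
      rw [tv_mul_apply, Pi.add_apply]
      rcases eq_or_ne a 1 with rfl | ha
      · simp [Pm.h01, Pm.h01.symm]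
      · simp [ha]
  rw [e5, w10_dl_mulVec hc]
  ext i j
  simp [Cfsg.Lib.Linear.SUDegree.st, Matrix.mul_apply, J.η_skew, J.inv2, Matrix.single_apply]
  have hne := Pm.h01 (k := k)
  by_cases a1 : i = 0 <;> by_cases a2 : j = 0 <;> by_cases a3 : i = 1 <;> by_cases a4 : j = 1 <;>
    simp [a1, a2, a3, a4, hne, hne.symm, Ne.symm, J.inv2] <;> ring

theorem me_ord {k : ℕ} [NeZero k] :
    Q.he (slM J (k + 1) 0) (xE J k) (tM J 0 0) ^ orderOf Q.n0 = 1 := by
  obtain ⟨C, μ, hC, eC, e⟩ := mhe_pow (k := k) Q (orderOf Q.n0)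
  rw [e]
  refine (lM_congr zero_le_one hC (levOK_sl 1) ?_).trans (map_one (slM J (k + 1) 0))
  rw [eC, pow_orderOf_eq_one, map_one, Units.val_one]
  simp [d0]

end Model

section Rels

variable (Q : Pm J) (u : Fin 3 → SpecialLinearGroup (Fin (1 + 1)) F) (N : ℕ) {G : Type*} [Group G]

/-- The twenty relations. -/
noncomputable def e2Rels (A : SpecialLinearGroup (Fin (1 + 1)) F → G) (x t : G) : List (G × G) :=
  [(A (tv (Pm.h01 (k := 1)) 1) * x, x * A (tv (Pm.h01 (k := 1)) 1)),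
    (A (tv (Pm.h01 (k := 1)) Q.ζ) * x, x * A (tv (Pm.h01 (k := 1)) Q.ζ)),
    (A (Pm.dl Q.nu) * x, x * A (Pm.dl Q.nu)),
    (x * Pm.xs A x Pm.w10, Pm.xs A x Pm.w10 * x),
    (x * Pm.xs A x (Pm.w10 * Pm.dl Q.ζ), Pm.xs A x (Pm.w10 * Pm.dl Q.ζ) * x),
    (t * Pm.phc A x (Q.ζ ^ 0) * t⁻¹, A (tv (Pm.h01 (k := 1)).symm (Q.ζ ^ 0))),
    (t * Pm.phc A x (Q.ζ ^ 1) * t⁻¹, A (tv (Pm.h01 (k := 1)).symm (Q.ζ ^ 1))),
    (t * Pm.phc A x (Q.ζ ^ 2) * t⁻¹, A (tv (Pm.h01 (k := 1)).symm (Q.ζ ^ 2))),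
    (t * Pm.phc A x (Q.ζ ^ 3) * t⁻¹, A (tv (Pm.h01 (k := 1)).symm (Q.ζ ^ 3))),
    (t * t, Q.he A x t ^ N),
    (t * A (Pm.dl Q.ζ) * t⁻¹, (Q.he A x t)⁻¹ * A (Pm.dl Q.ζ)),
    (A Pm.w01 * Q.he A x t * (A Pm.w01)⁻¹, Q.he A x t * A (Pm.dl Q.n0⁻¹)),
    (t * (A Pm.w01 * t * (A Pm.w01)⁻¹), A Pm.w01 * t * (A Pm.w01)⁻¹ * t),
    (t * Pm.xs A x Pm.w10, Pm.xs A x Pm.w10 * t),
    (Q.he A x t * x * (Q.he A x t)⁻¹, Pm.xa A x Q.n0),
    (Q.he A x t * Pm.xs A x Pm.w10, Pm.xs A x Pm.w10 * Q.he A x t),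
    (Q.he A x t * A (u 0) * (Q.he A x t)⁻¹, A (cj Q.n0 Q.n0_ne (u 0))),
    (Q.he A x t * A (u 1) * (Q.he A x t)⁻¹, A (cj Q.n0 Q.n0_ne (u 1))),
    (Q.he A x t * A (u 2) * (Q.he A x t)⁻¹, A (cj Q.n0 Q.n0_ne (u 2))),
    (Q.he A x t ^ orderOf Q.n0, 1)]

theorem e2Rels_map {H : Type*} [Group H] (f : G →* H) (A : SpecialLinearGroup (Fin (1 + 1)) F → G) (x t : G) :
    e2Rels Q u N (fun C => f (A C)) (f x) (f t) = (e2Rels Q u N A x t).map fun e => (f e.1, f e.2) := by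
  have hxs : ∀ C, Pm.xs (fun C => f (A C)) (f x) C = f (Pm.xs A x C) := fun C => by simp [Pm.xs]
  have hxa : ∀ c, Pm.xa (k := 1) (fun C => f (A C)) (f x) c = f (Pm.xa A x c) := fun c => by
    rw [Pm.xa, Pm.xa]; split_ifs <;> simp [hxs]
  have hph : ∀ c, Pm.phc (k := 1) (fun C => f (A C)) (f x) c = f (Pm.phc A x c) := fun c => by
    simp [Pm.phc, hxs]
  simp only [e2Rels, List.map, hph, hxs, hxa, Pm.he, map_mul, map_inv, map_pow, map_one]

/-- The relations and the images of the generators give the hypotheses. -/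
theorem Ev.of_two [Finite F] (hu : Subgroup.closure (Set.range u) = ⊤)
    {π : G →* Mg J (1 + 1) 0} (A : SpecialLinearGroup (Fin (1 + 1)) F →* G)
    (hA : ∀ C, π (A C) = slM J (1 + 1) 0 C) (x : G) (hx : π x = xE J 1) (t : G) (ht : π t = tM J 0 0)
    (gen : Subgroup.closure (Set.range A ∪ {x, t}) = ⊤) (rel : ∀ e ∈ e2Rels Q u N A x t, e.1 = e.2) :
    Nonempty (Ev J 1 π Q) := by
  simp only [e2Rels, List.forall_mem_cons, List.not_mem_nil, IsEmpty.forall_iff, implies_true, and_true] at rel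
  obtain ⟨c1, cζ, f1, comm, comm1, p0, p1, p2, p3, sq, td, hσ, tt1, tX1, hhx, hhX, n0, n1, n2, hord⟩ := rel
  set h := Q.he A x t with hh
  have hn0 := Q.n0_ne
  have hact : ∀ C, h * A C * h⁻¹ = A (cj Q.n0 hn0 C) := by
    have e : (MulAut.conj h).toMonoidHom.comp A = A.comp (cj Q.n0 hn0) :=
      MonoidHom.eq_of_eqOn_dense hu (by
        rintro _ ⟨i, rfl⟩
        fin_cases i
        · exact n0
        · exact n1
        · exact n2)
    exact fun C => DFunLike.congr_fun e C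
  have hNA : h ∈ Subgroup.normalizer (A.range : Set G) := by
    refine Subgroup.mem_normalizer_iff.2 fun y => ⟨?_, fun hy => ?_⟩
    · rintro ⟨C, rfl⟩; exact ⟨_, (hact C).symm⟩
    · obtain ⟨C, hC⟩ := hy
      refine ⟨cj Q.n0⁻¹ (inv_ne_zero hn0) C, ?_⟩
      have := hact (cj Q.n0⁻¹ (inv_ne_zero hn0) C)
      rw [cj_cj, hC] at this
      exact mul_left_cancel (mul_right_cancel this)
  have hxaA : ∀ c, c ≠ 0 → Pm.xa A x c = A (Pm.dl c) * x * (A (Pm.dl c))⁻¹ := fun c hc => by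
    rw [Pm.xa]
    split_ifs with h
    · exact absurd h hc
    · rfl
  -- the stabiliser of the first vector fixes the root element
  set d : SpecialLinearGroup (Fin (1 + 1)) F := Pm.dl Q.n0⁻¹ with hd
  have hdh : h * A d * h⁻¹ = A d := by
    rw [hact]; congr 1
    refine Subtype.ext ?_
    rw [cj_coe, hd, Pm.dl_coe (inv_ne_zero hn0), d0, d0, Matrix.diagonal_mul_diagonal, Matrix.diagonal_mul_diagonal]
    congr 1
    funext a
    split_ifs <;> field_simp
  have hz : Commute (h * A d) x := by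
    refine mul_inv_eq_iff_eq_mul.1 ?_
    have hdd : A d * A (Pm.dl Q.n0) = 1 := by
      rw [← map_mul, show d * Pm.dl Q.n0 = 1 from Subtype.ext (by
        rw [hd, Matrix.SpecialLinearGroup.coe_mul, Pm.dl_coe (inv_ne_zero hn0), Pm.dl_coe hn0,
          Matrix.diagonal_mul_diagonal, Matrix.SpecialLinearGroup.coe_one, ← Matrix.diagonal_one]
        congr 1
        funext a
        split_ifs <;> simp [hn0]), map_one]
    rw [hxaA _ hn0] at hhx
    calc h * A d * x * (h * A d)⁻¹ = h * A d * h⁻¹ * (h * x * h⁻¹) * (h * A d * h⁻¹)⁻¹ := by group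
      _ = (A d * A (Pm.dl Q.n0)) * x * (A d * A (Pm.dl Q.n0))⁻¹ := by rw [hdh, hhx]; group
      _ = x := by rw [hdd]; group
  have hzt : ∀ c, h * A d * A (tv (Pm.h01 (k := 1)) c) * (h * A d)⁻¹ = A (tv Pm.h01 (Q.n0⁻¹ * c)) := fun c => by
    rw [show h * A d * A (tv (Pm.h01 (k := 1)) c) * (h * A d)⁻¹ =
      h * (A d * A (tv Pm.h01 c) * (A d)⁻¹) * h⁻¹ by group, ← map_inv A, ← map_mul, ← map_mul, hd,
      dl_tv (inv_ne_zero hn0), hact, cj_tv hn0]
    congr 2
    field_simp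
  have hfix : ∀ C : SpecialLinearGroup (Fin (1 + 1)) F, C.1 *ᵥ Pi.single 0 1 = Pi.single 0 1 → Commute (A C) x := by
    intro C hC
    rw [two_shear C hC]
    have hadd : ∀ a b, Commute (A (tv (Pm.h01 (k := 1)) a)) x → Commute (A (tv (Pm.h01 (k := 1)) b)) x →
        Commute (A (tv (Pm.h01 (k := 1)) (a + b))) x := fun a b ha hb => by
      rw [show tv (Pm.h01 (k := 1)) (a + b) = tv Pm.h01 a * tv Pm.h01 b from Subtype.ext (by
        rw [Matrix.SpecialLinearGroup.coe_mul, tv_coe, tv_coe, tv_coe, Matrix.single_add]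
        simp [Matrix.add_mul, Matrix.mul_add, Matrix.single_mul_single_of_ne _ _ _ _ Pm.h01.symm]
        abel), map_mul]
      exact ha.mul_left hb
    have hdn : ∀ (n : ℕ) a, Commute (A (tv (Pm.h01 (k := 1)) a)) x →
        Commute (A (tv (Pm.h01 (k := 1)) ((Q.n0⁻¹) ^ n * a))) x := by
      intro n a ha
      induction n with
      | zero => simpa using ha
      | succ n ih =>
        have h2 := (hz.mul_left ih).mul_left hz.inv_left
        rwa [hzt, ← mul_assoc, ← pow_succ'] at h2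
    have hscal : ∀ a p : F, J.σ p = p → Commute (A (tv (Pm.h01 (k := 1)) a)) x →
        Commute (A (tv (Pm.h01 (k := 1)) (p * a))) x := by
      intro a p hp ha
      rcases eq_or_ne p 0 with rfl | hp0
      · rw [zero_mul, show tv (Pm.h01 (k := 1)) (0 : F) = 1 from Subtype.ext (by rw [tv_coe]; simp), map_one]
        exact Commute.one_left _
      · obtain ⟨n, hn⟩ := Q.n0_gen (inv_ne_zero hp0) (by rw [map_inv₀, hp])
        have := hdn n a ha
        rwa [inv_pow, hn, inv_inv] at this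
    have hne : Q.ζ - J.σ Q.ζ ≠ 0 := by
      intro e
      have hid : ∀ a : F, J.σ a = a := fun a => by
        rcases eq_or_ne a 0 with rfl | ha
        · exact map_zero _
        · obtain ⟨i, rfl⟩ := Q.gen a ha
          rw [map_pow, ← sub_eq_zero.1 e]
      have h1 := Q.hκ
      have h2 := J.η_skew
      rw [hid] at h1 h2
      have h3 : J.η = 0 := by linear_combination J.η * h1 - Q.κ * h2
      exact J.η_ne h3
    obtain ⟨c, hc⟩ : ∃ c, c = C.1 0 1 := ⟨_, rfl⟩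
    obtain ⟨r, hr⟩ : ∃ r, r = (c - J.σ c) / (Q.ζ - J.σ Q.ζ) := ⟨_, rfl⟩
    have hrc : r * (Q.ζ - J.σ Q.ζ) = c - J.σ c := by rw [hr]; field_simp
    have hsr : J.σ r = r := by
      have h1 := congrArg J.σ hrc
      rw [map_mul, map_sub, map_sub, J.inv2, J.inv2] at h1
      exact mul_right_cancel₀ hne (by linear_combination -h1 - hrc)
    have hp : J.σ (c - r * Q.ζ) = c - r * Q.ζ := by
      rw [map_sub, map_mul, hsr]; linear_combination hrc
    rw [← hc, show c = (c - r * Q.ζ) * 1 + r * Q.ζ by ring]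
    exact hadd _ _ (hscal _ _ hp c1) (hscal _ _ hsr cζ)
  have hS1 : ∀ S : SpecialLinearGroup (Fin 1) F, S = 1 := fun S => Subtype.ext (by
    have hd : S.1.det = 1 := S.2
    rw [Matrix.det_fin_one] at hd
    ext i j
    rw [Fin.fin_one_eq_zero i, Fin.fin_one_eq_zero j, hd]; simp)
  exact ⟨
    { A := A
      πA := hA
      x := x
      πx := hx
      t := t
      πt := ht
      gen := gen
      kind := Or.inr
        { one := rfl
          hNA := hNA
          hx := hhx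
          hX := hhX
          comm1 := comm1
          hW4 := fun j hj => by
            interval_cases j
            · exact ⟨_, p0.symm⟩
            · exact ⟨_, p1.symm⟩
            · exact ⟨_, p2.symm⟩
            · exact ⟨_, p3.symm⟩ }
      red := Or.inr fun i hi => by
        obtain ⟨l, rfl⟩ := orderOf_dvd_of_pow_eq_one hi
        rw [pow_mul, hord, one_pow]
      fix := hfix
      fix1 := f1
      comm01 := comm
      hW := by
        have e : Pm.phc A x (Q.ζ ^ 0) = Pm.ph (k := 1) A x := by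
          rw [pow_zero, Pm.phc, Pm.ph, show (Pm.dl (1 : F) : SpecialLinearGroup (Fin (1 + 1)) F) = 1 from Subtype.ext (by
            rw [Pm.dl_coe one_ne_zero, Matrix.SpecialLinearGroup.coe_one, ← Matrix.diagonal_one]
            congr 1
            funext a
            split_ifs <;> simp), mul_one]
        rw [e, pow_zero] at p0
        exact (mul_inv_eq_iff_eq_mul.1 p0).symm
      tS := fun S => by rw [hS1 S, map_one, map_one]; exact Commute.one_left _
      sq := ⟨N, sq⟩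
      td := td
      hσ := hσ
      tt1 := tt1
      tX1 := tX1 }⟩

end Rels

/-- The relations hold in the model for a suitable integer. -/
theorem exists_code_two [Finite F] (Q : Pm J) (u : Fin 3 → SpecialLinearGroup (Fin (1 + 1)) F) :
    ∃ N : ℕ, ∀ e ∈ e2Rels Q u N (slM J (1 + 1) 0) (xE J 1) (tM J 0 0), e.1 = e.2 := by
  obtain ⟨N, hN⟩ := me_sq (k := 1) Q
  refine ⟨N, ?_⟩
  have hζ := Q.ζ_ne
  simp only [e2Rels, List.forall_mem_cons, List.not_mem_nil, IsEmpty.forall_iff, implies_true, and_true]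
  refine ⟨(me_fix _ ?_).eq, (me_fix _ ?_).eq, (me_fix1 Q).eq, me_comm01.eq, (me_comm _).eq,
    me_phc (pow_ne_zero _ hζ), me_phc (pow_ne_zero _ hζ), me_phc (pow_ne_zero _ hζ), me_phc (pow_ne_zero _ hζ),
    hN, me_td Q, me_hσ Q, me_tt1.eq, me_tX1.eq, me_hx Q, (me_hX Q).eq, me_h_A Q _, me_h_A Q _, me_h_A Q _,
    me_ord Q⟩ <;>
    exact funext fun a => by rw [tv_mul_apply, Pi.single_eq_of_ne Pm.h01.symm]; simp

theorem e2Rels_lift (Q : Pm J) (u : Fin 3 → SpecialLinearGroup (Fin (1 + 1)) F) (N : ℕ) {G : Type*} [Group G]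
    (A : SpecialLinearGroup (Fin (1 + 1)) F → G) (b : Fin 2 → G) :
    (∀ e ∈ e2Rels Q u N (fun C => FreeGroup.of (Sum.inl C)) (FreeGroup.of (Sum.inr (0 : Fin 2)))
          (FreeGroup.of (Sum.inr (1 : Fin 2))),
        FreeGroup.lift (Sum.elim A b) e.1 = FreeGroup.lift (Sum.elim A b) e.2) ↔
      ∀ e ∈ e2Rels Q u N A (b 0) (b 1), e.1 = e.2 := by
  have h := e2Rels_map Q u N (FreeGroup.lift (Sum.elim A b)) (fun C => FreeGroup.of (Sum.inl C))
    (FreeGroup.of (Sum.inr (0 : Fin 2))) (FreeGroup.of (Sum.inr (1 : Fin 2)))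
  simp only [FreeGroup.lift_apply_of, Sum.elim_inl, Sum.elim_inr] at h
  rw [h, List.forall_mem_map]

/-- Twenty relations more than the special linear group present the model. -/
theorem bddOn_two [Finite F] (Q : Pm J) {r : ℕ} {u : Fin 3 → SpecialLinearGroup (Fin (1 + 1)) F} (hu : BddOn u r) :
    BddOn (Fin.append (fun i => slM J (1 + 1) 0 (u i)) ![xE J 1, tM J 0 0]) (r + 20) := by
  haveI := Fintype.ofFinite F
  obtain ⟨N, hP⟩ := exists_code_two Q u
  set W := Subgroup.closure (Set.range (slM J (1 + 1) 0) ∪ {xE J 1, tM J 0 0}) with hW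
  have hs' : ∀ C, slM J (1 + 1) 0 C ∈ W := fun C => Subgroup.subset_closure (Or.inl ⟨C, rfl⟩)
  have hx : xE J 1 ∈ W := Subgroup.subset_closure (Or.inr (Or.inl rfl))
  have ht : tM J 0 0 ∈ W := Subgroup.subset_closure (Or.inr (Or.inr rfl))
  have htop : W = ⊤ := by
    let A : SpecialLinearGroup (Fin (1 + 1)) F →* W := (slM J (1 + 1) 0).codRestrict W hs'
    have gen : Subgroup.closure (Set.range A ∪ {⟨xE J 1, hx⟩, ⟨tM J 0 0, ht⟩}) = ⊤ := by
      refine Subgroup.map_injective W.subtype_injective ?_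
      rw [MonoidHom.map_closure, ← MonoidHom.range_eq_map, Subgroup.range_subtype, Set.image_union, Set.image_pair,
        ← Set.range_comp]
      exact hW.symm
    have rel : ∀ e ∈ e2Rels Q u N A (⟨xE J 1, hx⟩ : W) ⟨tM J 0 0, ht⟩, e.1 = e.2 := fun e he => by
      refine W.subtype_injective (hP (W.subtype e.1, W.subtype e.2) ?_)
      show _ ∈ e2Rels Q u N (fun C => W.subtype (A C)) (W.subtype ⟨xE J 1, hx⟩) (W.subtype ⟨tM J 0 0, ht⟩)
      rw [e2Rels_map]
      exact List.mem_map.2 ⟨e, he, rfl⟩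
    obtain ⟨D⟩ := Ev.of_two Q u N hu.closure (π := W.subtype) A (fun _ => rfl) _ rfl _ rfl gen rel
    refine gen_top (by omega) zero_le_one W (fun H X h => ?_) (fun C μ h => ?_) ht
    · obtain ⟨p, -, e⟩ := D.par.surj_P _ (kf_uM h)
      exact e ▸ p.2
    · obtain ⟨p, -, e⟩ := D.par.surj_P _ (kf_lM h)
      exact e ▸ p.2
  have hgen' : Subgroup.closure (Set.range (slM J (1 + 1) 0) ∪ Set.range ![xE J 1, tM J 0 0]) = ⊤ := by
    rw [Matrix.range_cons_cons_empty]; exact htop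
  let A₀ : SpecialLinearGroup (Fin (1 + 1)) F → FreeGroup (SpecialLinearGroup (Fin (1 + 1)) F ⊕ Fin 2) :=
    fun C => FreeGroup.of (Sum.inl C)
  have h := hu.extend (slM J (1 + 1) 0) ![xE J 1, tM J 0 0] hgen'
    (e2Rels Q u N A₀ (FreeGroup.of (Sum.inr 0)) (FreeGroup.of (Sum.inr 1))) ?_ ?_
  · exact h
  · exact (e2Rels_lift Q u N _ _).2 (by simpa using hP)
  · intro G _ A b φ hgA hφA hφb hr
    have hgb : Subgroup.closure (Set.range A ∪ {b 0, b 1}) = ⊤ := by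
      rw [eq_top_iff, ← hgA]
      refine Subgroup.closure_mono (Set.union_subset_union_right _ ?_)
      rintro _ ⟨i, rfl⟩
      fin_cases i <;> simp
    obtain ⟨D⟩ := Ev.of_two Q u N hu.closure A (fun C => DFunLike.congr_fun hφA C) (b 0) (hφb 0) (b 1) (hφb 1) hgb
      ((e2Rels_lift Q u N A b).1 hr)
    exact D.injective

theorem he_lift (Q : Pm J) {k : ℕ} [NeZero k] {G : Type*} [Group G]
    (A : SpecialLinearGroup (Fin (k + 1)) F → G) (b : Fin 2 → G) :
    FreeGroup.lift (Sum.elim A b) (Pm.he Q (k := k) (fun C => FreeGroup.of (Sum.inl C))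
      (FreeGroup.of (Sum.inr (0 : Fin 2))) (FreeGroup.of (Sum.inr (1 : Fin 2)))) = Pm.he Q (k := k) A (b 0) (b 1) := by
  simp only [Pm.he, Pm.xa, map_mul, map_inv]
  split_ifs <;> simp [Pm.xs]

/-- Fourteen relations more than the special linear group present the model, without further hypotheses. -/
theorem bddOn_even_ord [Finite F] {k : ℕ} [NeZero k] (hk : 2 ≤ k) (Q : Pm J)
    (s : Fin 2 → SpecialLinearGroup (Fin k) F) (hs : Subgroup.closure (Set.range s) = ⊤) {n r : ℕ}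
    {u : Fin n → SpecialLinearGroup (Fin (k + 1)) F} (hu : BddOn u r) :
    BddOn (Fin.append (fun i => slM J (k + 1) 0 (u i)) ![xE J k, tM J 0 0]) (r + 14) := by
  obtain ⟨N, hP⟩ := exists_code_even Q s
  have hgen := gen_model_even hk Q s hs N hP
  have hgen' : Subgroup.closure (Set.range (slM J (k + 1) 0) ∪ Set.range ![xE J k, tM J 0 0]) = ⊤ := by
    rw [Matrix.range_cons_cons_empty]; exact hgen
  let A₀ : SpecialLinearGroup (Fin (k + 1)) F → FreeGroup (SpecialLinearGroup (Fin (k + 1)) F ⊕ Fin 2) :=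
    fun C => FreeGroup.of (Sum.inl C)
  have h := hu.extend (slM J (k + 1) 0) ![xE J k, tM J 0 0] hgen'
    (eRels Q s N A₀ (FreeGroup.of (Sum.inr 0)) (FreeGroup.of (Sum.inr 1)) ++
      [(Pm.he Q (k := k) A₀ (FreeGroup.of (Sum.inr 0)) (FreeGroup.of (Sum.inr 1)) ^ orderOf Q.n0, 1)]) ?_ ?_
  · exact h
  · simp only [List.forall_mem_append, List.forall_mem_singleton, map_pow, map_one, A₀, he_lift]
    exact ⟨(eRels_lift Q s N _ _).2 (by simpa using hP), by simpa using me_ord Q⟩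
  · intro G _ A b φ hgA hφA hφb hr
    simp only [List.forall_mem_append, List.forall_mem_singleton, map_pow, map_one, A₀, he_lift] at hr
    have hgb : Subgroup.closure (Set.range A ∪ {b 0, b 1}) = ⊤ := by
      rw [eq_top_iff, ← hgA]
      refine Subgroup.closure_mono (Set.union_subset_union_right _ ?_)
      rintro _ ⟨i, rfl⟩
      fin_cases i <;> simp
    obtain ⟨D⟩ := (Ev.of_rels Q s N hk hs A (fun C => DFunLike.congr_fun hφA C) (b 0) (hφb 0) (b 1) (hφb 1) hgb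
      ((eRels_lift Q s N A b).1 hr.1)).2 (Or.inr fun i hi => by
        obtain ⟨l, rfl⟩ := orderOf_dvd_of_pow_eq_one hi
        rw [pow_mul, hr.2, one_pow])
    exact D.injective

end Cfsg.Lib.Linear.ShortPres.SUN
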