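import Cfsg.Agent.Lib.Linear.ShortPres.SUN.OddPres
import Cfsg.Agent.Lib.UnitMult.Cross
import Cfsg.Agent.Lib.Linear.UnitaryCenter
import Cfsg.Agent.Lib.Linear.ShortPres.SLN.Seven.Main

/-!
# The finite field setting
-/

set_option autoImplicit false

universe u

namespace Cfsg.Lib.Linear.ShortPres.SUN

open Matrix Cfsg.Lib.Linear.SUDegree Cfsg.Lib.Linear.Herm

variable {F : Type u} [Field F] [Fintype F] {q : ℕ}

/-- The conjugation of a finite field of square order. -/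
theorem exists_conj (hF : Fintype.card F = q ^ 2) : ∃ J : Conj F, J.σ = frob hF := by
  obtain ⟨x, hx⟩ : ∃ x, frob hF x ≠ x := by
    by_contra h
    push Not at h
    exact frob_ne_id hF (RingHom.ext h)
  exact ⟨⟨frob hF, frob_frob hF, x - frob hF x, sub_ne_zero.2 (Ne.symm hx), by rw [map_sub, frob_frob hF, neg_sub]⟩, rfl⟩

theorem norm_surj (hF : Fintype.card F = q ^ 2) {J : Conj F} (hJ : J.σ = frob hF) :
    ∀ a : F, J.σ a = a → ∃ b, J.σ b * b = a := by
  intro a ha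
  rcases eq_or_ne a 0 with rfl | h0
  · exact ⟨0, mul_zero _⟩
  obtain ⟨x, hx⟩ := exists_norm_eq hF h0 (by rw [← frob_apply hF, ← hJ, ha])
  exact ⟨x, by rw [hJ, frob_apply hF, ← pow_succ, hx]⟩

theorem exists_gen : ∃ ζ : F, ζ ≠ 0 ∧ ∀ a : F, a ≠ 0 → ∃ i : ℕ, ζ ^ i = a := by
  obtain ⟨ν, hν⟩ := IsCyclic.exists_generator (α := Fˣ)
  refine ⟨ν, ν.ne_zero, fun a ha => ?_⟩
  obtain ⟨i, hi⟩ := mem_powers_iff_mem_zpowers.2 (hν (Units.mk0 a ha))
  exact ⟨i, by simpa using congrArg Units.val hi⟩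

theorem exists_pm (hF : Fintype.card F = q ^ 2) {J : Conj F} (hJ : J.σ = frob hF) : Nonempty (Pm J) :=
  Pm.exists exists_gen (norm_surj hF hJ) (hJ ▸ frob_ne_id hF)

/-- The model is the standard group. -/
theorem equiv_SU (hF : Fintype.card F = q ^ 2) {J : Conj F} (hJ : J.σ = frob hF) {m ε n : ℕ}
    (hn : n = m + m + ε) : Nonempty (Mg J m ε ≃* Cfsg.SU n F q) := by
  obtain ⟨Φ, hΦ⟩ : ∃ Φ : modelSub J.σ m ε →* Cfsg.SU n F q, Function.Bijective Φ := by
    rw [hJ]; exact exists_model_bij hF hn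
  let f : Mg J m ε →* modelSub J.σ m ε :=
    { toFun := fun g => ⟨mat g, mat_mem g⟩, map_one' := rfl, map_mul' := fun _ _ => rfl }
  have hf : Function.Bijective f :=
    ⟨fun a b h => mat_inj (congrArg Subtype.val h), fun A => ⟨mkM (J := J) A.1 A.2, Subtype.ext rfl⟩⟩
  exact ⟨MulEquiv.ofBijective (Φ.comp f) (hΦ.comp hf)⟩

theorem NoStem.of_equiv {M N : Type u} [Group M] [Group N] (e : M ≃* N) (h : NoStem N) : NoStem M := by
  intro Γ _ _ σ hσ
  have hk : (e.toMonoidHom.comp σ).ker = σ.ker := by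
    ext g; simp
  rw [← hk]
  refine h Γ _ ⟨e.surjective.comp hσ.1, ?_, ?_⟩
  · rw [hk]; exact hσ.2.1
  · rw [hk]; exact hσ.2.2

/-- The unitary groups have no stem extensions away from the exceptions. -/
theorem noStem_SU (hF : Fintype.card F = q ^ 2) {n : ℕ} (hn : 3 ≤ n) (h32 : ¬ (n = 3 ∧ q = 2))
    (h42 : ¬ (n = 4 ∧ q = 2)) (h43 : ¬ (n = 4 ∧ q = 3)) (h62 : ¬ (n = 6 ∧ q = 2)) :
    NoStem ↥(Cfsg.SU n F q) :=
  fun Γ _ _ σ hσ => Cfsg.Lib.UnitMult.ker_eq_bot_su hF (Cfsg.Lib.UnitMult.cross_base hF) n hn h32 h42 h43 h62 Γ σ hσ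

theorem isCyclic_center_SU (hF : Fintype.card F = q ^ 2) {n : ℕ} (hn : 2 ≤ n) :
    IsCyclic (Subgroup.center (Cfsg.SU n F q)) := by
  let i₀ : Fin n := ⟨0, by omega⟩
  have hsc : ∀ A : Subgroup.center (Cfsg.SU n F q), ∃ c : F, A.1.1.1 = Matrix.scalar (Fin n) c := fun A =>
    exists_scalar hF hn _ fun B hB => by
      have h := Subgroup.mem_center_iff.1 A.2 ⟨B, hB⟩
      exact congrArg (fun x : Cfsg.SU n F q => x.1.1) h
  let f : Subgroup.center (Cfsg.SU n F q) →* F :=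
    { toFun := fun A => A.1.1.1 i₀ i₀
      map_one' := by simp
      map_mul' := fun A B => by
        obtain ⟨a, ha⟩ := hsc A
        obtain ⟨b, hb⟩ := hsc B
        show (A.1.1.1 * B.1.1.1) i₀ i₀ = _
        rw [ha, hb]; simp }
  haveI : Finite (Subgroup.center (Cfsg.SU n F q)) := Subtype.finite
  refine isCyclic_of_injective_ringHom f ?_
  intro A B h
  obtain ⟨a, ha⟩ := hsc A
  obtain ⟨b, hb⟩ := hsc B
  have hab : a = b := by
    have h' : A.1.1.1 i₀ i₀ = B.1.1.1 i₀ i₀ := h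
    rw [ha, hb] at h'
    simpa using h'
  exact Subtype.ext (Subtype.ext (Subtype.ext (by rw [ha, hb, hab])))

/-- One relator more presents the central quotient. -/
theorem bddG_PSU (hF : Fintype.card F = q ^ 2) {n k r : ℕ} (hn : 2 ≤ n) (h : BddG ↥(Cfsg.SU n F q) k r) :
    BddG (Cfsg.PSU n F q) k (r + 1) := by
  haveI := isCyclic_center_SU hF hn
  obtain ⟨z, hz⟩ := IsCyclic.exists_generator (α := Subgroup.center (Cfsg.SU n F q))
  refine SLN.Seven.bddG_quotient h _ z.1 (le_antisymm ?_ fun x hx => ?_)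
  · rw [Subgroup.closure_le, Set.singleton_subset_iff]
    exact z.2
  · obtain ⟨i, hi⟩ := Subgroup.mem_zpowers_iff.1 (hz ⟨x, hx⟩)
    rw [← Subgroup.zpowers_eq_closure]
    exact ⟨i, by simpa using congrArg Subtype.val hi⟩

end Cfsg.Lib.Linear.ShortPres.SUN
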