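import Cfsg.Agent.Lib.Linear.ShortPres.SUN.Model
import Cfsg.Agent.Lib.UnitMult.Frame

/-!
# Facts about the model group used in the covering argument
-/

set_option autoImplicit false
set_option linter.unusedSectionVars false

namespace Cfsg.Lib.Linear.ShortPres.SUN

open Matrix Cfsg.Lib.Linear.SUDegree Cfsg.Lib.Linear.Herm

variable {F : Type*} [Field F] {J : Conj F} {m ε : ℕ}

theorem uM_mul {H H' : Matrix (Fin m) (Fin m) F} {X X' : Matrix (Fin m) (Fin ε) F}
    (h : H + st J.σ H + X * st J.σ X = 0) (h' : H' + st J.σ H' + X' * st J.σ X' = 0) :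
    uM h * uM h' = (uM (Cfsg.Lib.UnitMult.Rel.mul J.inv2 h h') : Mg J m ε) :=
  mat_inj (by rw [mat_mul, mat_uM, mat_uM]; exact uMat_mul ..)

theorem uM_congr {H H' : Matrix (Fin m) (Fin m) F} {X X' : Matrix (Fin m) (Fin ε) F}
    (h : H + st J.σ H + X * st J.σ X = 0) (h' : H' + st J.σ H' + X' * st J.σ X' = 0) (e : H = H') (e' : X = X') :
    (uM h : Mg J m ε) = uM h' := by
  subst e e'; rfl

theorem uM_inv {H : Matrix (Fin m) (Fin m) F} {X : Matrix (Fin m) (Fin ε) F}
    (h : H + st J.σ H + X * st J.σ X = 0) :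
    ∃ h' : st J.σ H + st J.σ (st J.σ H) + (-X) * st J.σ (-X) = 0, (uM h : Mg J m ε)⁻¹ = uM h' := by
  have h' : st J.σ H + st J.σ (st J.σ H) + (-X) * st J.σ (-X) = 0 := by
    rw [st_st J.inv2, Cfsg.Lib.Linear.SUDegree.st_neg, Matrix.neg_mul, Matrix.mul_neg, neg_neg, add_comm _ H, h]
  refine ⟨h', inv_eq_of_mul_eq_one_right (mat_inj ?_)⟩
  rw [mat_mul, mat_uM, mat_uM, uMat_mul, Cfsg.Lib.Linear.SUDegree.st_neg, Matrix.mul_neg, sub_neg_eq_add, h,
    add_neg_cancel, uMat_zero, mat_one]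

theorem lM_inv {C : GL (Fin m) F} {μ : F} (h : LevOK J ε C μ) :
    ∃ h' : LevOK J ε C⁻¹ (J.σ μ), (lM h : Mg J m ε)⁻¹ = lM h' := by
  have hCC : C.1 * (C⁻¹).1 = 1 := by rw [← Units.val_mul, mul_inv_cancel, Units.val_one]
  have hC'C : (C⁻¹).1 * C.1 = 1 := by rw [← Units.val_mul, inv_mul_cancel, Units.val_one]
  have h1 : (C⁻¹).1.det * C.1.det = 1 := by rw [← det_mul, hC'C, det_one]
  have h' : LevOK J ε C⁻¹ (J.σ μ) := by
    refine ⟨by rw [J.inv2, mul_comm]; exact h.norm, ?_⟩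
    rw [inv_inv]
    have e2 : J.σ ((C⁻¹).1.det) * J.σ (C.1.det) = 1 := by rw [← map_mul, h1, map_one]
    have e3 : μ ^ ε * J.σ μ ^ ε = 1 := by rw [← mul_pow, mul_comm μ, h.norm, one_pow]
    calc (C⁻¹).1.det * J.σ C.1.det * J.σ μ ^ ε
        = (C⁻¹).1.det * J.σ C.1.det * J.σ μ ^ ε * (C.1.det * J.σ (C⁻¹).1.det * μ ^ ε) := by rw [h.det, mul_one]
      _ = (C⁻¹).1.det * C.1.det * (J.σ ((C⁻¹).1.det) * J.σ (C.1.det)) * (μ ^ ε * J.σ μ ^ ε) := by ring
      _ = 1 := by rw [h1, e2, e3]; ring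
  refine ⟨h', inv_eq_of_mul_eq_one_right (mat_inj ?_)⟩
  rw [mat_mul, mat_lM, mat_lM, mat_one]
  have e4 : μ * J.σ μ = 1 := by rw [mul_comm]; exact h.norm
  simp [lMat, fromBlocks_multiply, ← Cfsg.Lib.Linear.SUDegree.st_mul, hCC, hC'C, Cfsg.Lib.Linear.SUDegree.st_one,
    smul_smul, h.norm, e4, fromBlocks_one]

theorem lM_uM {C : GL (Fin m) F} {μ : F} (h : LevOK J ε C μ) {H : Matrix (Fin m) (Fin m) F}
    {X : Matrix (Fin m) (Fin ε) F} (hu : H + st J.σ H + X * st J.σ X = 0) :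
    lM h * uM hu = (uM (Cfsg.Lib.UnitMult.Rel.conj J.inv2 hu C.1 h.norm) : Mg J m ε) * lM h :=
  mat_inj (by
    rw [mat_mul, mat_mul, mat_lM, mat_uM]
    exact Cfsg.Lib.UnitMult.lMat_mul_uMat' (by rw [← Units.val_mul, mul_inv_cancel, Units.val_one]) h.norm J.inv2 H X)

theorem lM_mul {C C₁ : GL (Fin m) F} {μ μ₁ : F} (h : LevOK J ε C μ) (h₁ : LevOK J ε C₁ μ₁) :
    ∃ h' : LevOK J ε (C * C₁) (μ * μ₁), lM h * lM h₁ = (lM h' : Mg J m ε) := by
  have h' : LevOK J ε (C * C₁) (μ * μ₁) := by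
    refine ⟨by rw [map_mul, show J.σ μ * J.σ μ₁ * (μ * μ₁) = J.σ μ * μ * (J.σ μ₁ * μ₁) by ring, h.norm, h₁.norm,
      one_mul], ?_⟩
    rw [_root_.mul_inv_rev, Units.val_mul, Units.val_mul, det_mul, det_mul, map_mul, mul_pow]
    calc C.1.det * C₁.1.det * (J.σ (C₁⁻¹).1.det * J.σ (C⁻¹).1.det) * (μ ^ ε * μ₁ ^ ε)
        = C.1.det * J.σ (C⁻¹).1.det * μ ^ ε * (C₁.1.det * J.σ (C₁⁻¹).1.det * μ₁ ^ ε) := by ring
      _ = 1 := by rw [h.det, h₁.det, one_mul]
  refine ⟨h', mat_inj ?_⟩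
  rw [mat_mul, mat_lM, mat_lM, mat_lM, _root_.mul_inv_rev, Units.val_mul, Units.val_mul]
  simp [lMat, fromBlocks_multiply, Cfsg.Lib.Linear.SUDegree.st_mul, smul_smul, mul_comm μ₁]

theorem kf_lM {C : GL (Fin m) F} {μ : F} (h : LevOK J ε C μ) : kf (lM h : Mg J m ε) = 0 := by
  ext i j; simp [kf, lMat]

theorem kf_uM {H : Matrix (Fin m) (Fin m) F} {X : Matrix (Fin m) (Fin ε) F}
    (h : H + st J.σ H + X * st J.σ X = 0) : kf (uM h : Mg J m ε) = 0 := by
  ext i j; simp [kf, uMat]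

/-- A Levi element may be moved to the left of the radical. -/
theorem exists_par' (hε : ε ≤ 1) {g : Mg J m ε} (hg : kf g⁻¹ = 0) :
    ∃ (C : GL (Fin m) F) (μ : F) (hC : LevOK J ε C μ) (H : Matrix (Fin m) (Fin m) F)
      (X : Matrix (Fin m) (Fin ε) F) (hu : H + st J.σ H + X * st J.σ X = 0), g = lM hC * uM hu := by
  obtain ⟨C, μ, hC, H, X, hu, e⟩ := exists_par hε hg
  obtain ⟨h', e'⟩ := lM_inv hC
  obtain ⟨hu', e''⟩ := uM_inv hu
  exact ⟨_, _, h', _, _, hu', by rw [← e', ← e'', ← _root_.mul_inv_rev, ← e, inv_inv]⟩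

theorem sl_inv_gl (C : SpecialLinearGroup (Fin m) F) : ((SpecialLinearGroup.toGL C)⁻¹).1 = (C⁻¹).1 := by
  rw [← map_inv]; rfl

/-! ## The reflections -/

/-- The sign change at one index. -/
def sg (j : Fin m) : Matrix (Fin m) (Fin m) F := Matrix.diagonal fun a => if a = j then -1 else 1

theorem sg_sq (j : Fin m) : sg (F := F) j * sg j = 1 := by
  rw [sg, Matrix.diagonal_mul_diagonal, ← Matrix.diagonal_one]
  congr 1
  funext a
  split_ifs <;> simp

theorem tM_mul_self_entries (j : Fin m) :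
    mat (tM J ε j * tM J ε j) = lMat J.σ (sg j) (sg j) 1 := by
  rw [mat_mul, mat_tM]
  have hne := J.η_ne
  simp [lMat, fromBlocks_multiply, Matrix.sub_mul, Matrix.mul_sub, Matrix.single_mul_single_same,
    Matrix.smul_single, mul_inv_cancel₀ hne, inv_mul_cancel₀ hne]
  constructor <;> (ext a b; simp [sg, Matrix.one_apply, Matrix.single_apply, Matrix.diagonal_apply, st]) <;>
    (rcases eq_or_ne a b with rfl | h1 <;> rcases eq_or_ne a j with rfl | h2 <;> simp_all [eq_comm, map_neg] <;> ring)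

/-- Moving a reflection across a Levi element. -/
theorem lM_tM {C : GL (Fin m) F} {μ : F} (h : LevOK J ε C μ) (i k : Fin m) (e1 : C.1 * eu i = eu k * C.1)
    (e2 : st J.σ (C⁻¹).1 * eu i = eu k * st J.σ (C⁻¹).1) (e3 : C.1 * eu i = eu k * st J.σ (C⁻¹).1) :
    lM h * tM J ε i = tM J ε k * lM h := by
  refine mat_inj ?_
  rw [mat_mul, mat_mul, mat_lM, mat_tM, mat_tM]
  have e4 : eu k * C.1 = st J.σ (C⁻¹).1 * eu i := by rw [← e1, e3, e2]
  simp only [lMat, fromBlocks_multiply, Matrix.sub_mul, Matrix.mul_sub, Matrix.mul_smul, Matrix.smul_mul,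
    Matrix.mul_zero, Matrix.zero_mul, add_zero, zero_add, Matrix.mul_one, Matrix.one_mul, e1, e2, e4, smul_zero,
    sub_zero]

theorem tv_inv {i j : Fin m} (h : i ≠ j) (c : F) : (tv h c)⁻¹ = tv h (-c) := by
  refine inv_eq_of_mul_eq_one_right (Subtype.ext ?_)
  rw [Matrix.SpecialLinearGroup.coe_mul, tv_coe, tv_coe, Matrix.SpecialLinearGroup.coe_one]
  simp [Matrix.add_mul, Matrix.mul_add, Matrix.single_mul_single_of_ne _ _ _ _ (Ne.symm h), Matrix.single_neg,
    add_assoc]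
  rw [← Matrix.single_add]; simp

/-- A transvection turns into a radical element. -/
theorem tv_tM {a b : Fin m} (h : a ≠ b) (c : F) :
    ∃ hu : Matrix.single a b (c * J.η) + Matrix.single b a (J.σ c * J.η) +
        st J.σ (Matrix.single a b (c * J.η) + Matrix.single b a (J.σ c * J.η)) +
        (0 : Matrix (Fin m) (Fin ε) F) * st J.σ (0 : Matrix (Fin m) (Fin ε) F) = 0,
      slM J m ε (tv h c) * tM J ε b = tM J ε b * uM hu := by
  have hu : Matrix.single a b (c * J.η) + Matrix.single b a (J.σ c * J.η) +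
        st J.σ (Matrix.single a b (c * J.η) + Matrix.single b a (J.σ c * J.η)) +
        (0 : Matrix (Fin m) (Fin ε) F) * st J.σ (0 : Matrix (Fin m) (Fin ε) F) = 0 := by
    rw [Cfsg.Lib.Linear.SUDegree.st_add, st_single, st_single, map_mul, map_mul, J.inv2, J.η_skew, Matrix.zero_mul,
      add_zero]
    ext i j
    simp only [Matrix.add_apply, Matrix.single_apply, Matrix.zero_apply]
    split_ifs <;> ring
  refine ⟨hu, mat_inj ?_⟩
  have hne := J.η_ne
  rw [mat_mul, mat_mul, slM_apply, mat_tM, mat_uM, tv_inv h c, tv_coe, tv_coe]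
  simp [lMat, uMat, fromBlocks_multiply, Cfsg.Lib.Linear.SUDegree.st_zero, Cfsg.Lib.Linear.SUDegree.st_add,
    Cfsg.Lib.Linear.SUDegree.st_one, st_single, Matrix.sub_mul, Matrix.mul_sub, Matrix.add_mul, Matrix.mul_add,
    Matrix.single_mul_single_same, Matrix.single_mul_single_of_ne _ _ _ _ h,
    Matrix.single_mul_single_of_ne _ _ _ _ (Ne.symm h), Matrix.smul_single]
  constructor
  · abel
  · field_simp
    ext i j
    simp only [Matrix.add_apply, Matrix.sub_apply, Matrix.single_apply, Matrix.neg_apply]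
    split_ifs <;> ring

/-- A commuting condition on special linear Levi elements. -/
theorem slM_tM_comm (C : SpecialLinearGroup (Fin m) F) (i : Fin m) (hr : ∀ b, C.1 i b = if i = b then 1 else 0)
    (hc : ∀ a, C.1 a i = if a = i then 1 else 0) : Commute (slM J m ε C) (tM J ε i) := by
  have e1 : C.1 * eu i = eu i := by
    ext a b
    rcases eq_or_ne b i with rfl | hb
    · simp [Matrix.mul_apply, Matrix.single_apply, hc, eq_comm]
    · simp [Matrix.mul_apply, Matrix.single_apply, Ne.symm hb]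
  have e1' : eu i * C.1 = eu i := by
    ext a b
    rcases eq_or_ne a i with rfl | ha
    · simp [Matrix.mul_apply, Matrix.single_apply, hr]
    · simp [Matrix.mul_apply, Matrix.single_apply, Ne.symm ha]
  have f1 : (C⁻¹).1 * eu i = eu i := by
    conv_lhs => rw [← e1]
    rw [← Matrix.mul_assoc, ← Matrix.SpecialLinearGroup.coe_mul, inv_mul_cancel]; simp
  have f1' : eu i * (C⁻¹).1 = eu i := by
    conv_lhs => rw [← e1']
    rw [Matrix.mul_assoc, ← Matrix.SpecialLinearGroup.coe_mul, mul_inv_cancel]; simp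
  have g1 : st J.σ (C⁻¹).1 * eu i = eu i := by
    have := congrArg (st J.σ) f1'
    rwa [Cfsg.Lib.Linear.SUDegree.st_mul, st_single, map_one] at this
  have g1' : eu i * st J.σ (C⁻¹).1 = eu i := by
    have := congrArg (st J.σ) f1
    rwa [Cfsg.Lib.Linear.SUDegree.st_mul, st_single, map_one] at this
  exact lM_tM (levOK_sl C) i i (e1.trans e1'.symm)
    (by rw [sl_inv_gl]; exact g1.trans g1'.symm) (by rw [sl_inv_gl]; exact e1.trans g1'.symm)

theorem tM_comm {i j : Fin m} (h : i ≠ j) : Commute (tM J ε i) (tM J ε j) := by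
  refine mat_inj ?_
  rw [mat_mul, mat_mul, mat_tM, mat_tM]
  simp [fromBlocks_multiply, Matrix.sub_mul, Matrix.mul_sub, Matrix.add_mul, Matrix.mul_add, Matrix.single_mul_single_of_ne _ _ _ _ h,
    Matrix.single_mul_single_of_ne _ _ _ _ (Ne.symm h), Matrix.smul_single, add_comm, sub_eq_add_neg, add_left_comm]

/-- A matrix with one non-zero row. -/
def rowM (i : Fin m) (t : Fin ε → F) : Matrix (Fin m) (Fin ε) F :=
  Matrix.of fun r e => if r = i then t e else 0

theorem rowM_mul (i j : Fin m) (s t : Fin ε → F) :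
    rowM i s * st J.σ (rowM j t) = Matrix.single i j (∑ e, s e * J.σ (t e)) := by
  ext a b
  by_cases h1 : a = i <;> by_cases h2 : b = j <;>
    simp [rowM, st, Matrix.mul_apply, Matrix.single_apply, h1, h2, Ne.symm]

/-- Elements of the radical supported at one index. -/
def IsU (i : Fin m) (g : Mg J m ε) : Prop :=
  ∃ (c : F) (x : Fin ε → F)
    (h : Matrix.single i i c + st J.σ (Matrix.single i i c) + rowM i x * st J.σ (rowM i x) = 0), g = uM h

theorem IsU.kf_eq {i : Fin m} {g : Mg J m ε} (h : IsU i g) : kf g = 0 := by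
  obtain ⟨c, x, h, rfl⟩ := h
  exact kf_uM h

theorem IsU.tM_comm {i j : Fin m} {g : Mg J m ε} (h : IsU i g) (hij : j ≠ i) : Commute (tM J ε j) g := by
  obtain ⟨c, x, h, rfl⟩ := h
  refine mat_inj ?_
  rw [mat_mul, mat_mul, mat_tM, mat_uM]
  have e : ∀ d : F, Matrix.single j j d * rowM i x = 0 := fun d => by
    ext a e
    simp [Matrix.mul_apply, Matrix.single_apply, rowM, hij, ite_and]
  have e' : ∀ d : F, st J.σ (rowM i x) * Matrix.single j j d = 0 := fun d => by
    ext a b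
    simp [Matrix.mul_apply, Matrix.single_apply, rowM, st, hij, Ne.symm hij, ite_and]
  simp [uMat, fromBlocks_multiply, fromRows_mul_fromCols, fromBlocks_mul_fromRows, fromCols_mul_fromBlocks,
    fromCols_mul_fromRows, Matrix.sub_mul, Matrix.mul_sub, Matrix.smul_mul, Matrix.mul_smul, Matrix.smul_single, e, e',
    Matrix.single_mul_single_of_ne _ _ _ _ hij, Matrix.single_mul_single_of_ne _ _ _ _ (Ne.symm hij),
    add_comm]

/-- Splitting off the part at one index. -/
theorem split_at (i : Fin m) {H : Matrix (Fin m) (Fin m) F} {X : Matrix (Fin m) (Fin ε) F}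
    (hu : H + st J.σ H + X * st J.σ X = 0) :
    ∃ (g₀ : Mg J m ε) (H' : Matrix (Fin m) (Fin m) F) (X' : Matrix (Fin m) (Fin ε) F)
      (hu' : H' + st J.σ H' + X' * st J.σ X' = 0), IsU i g₀ ∧ H' i i = 0 ∧ uM hu = uM hu' * g₀ := by
  have h0 : Matrix.single i i (H i i) + st J.σ (Matrix.single i i (H i i)) +
      rowM i (X i) * st J.σ (rowM i (X i)) = 0 := by
    rw [rowM_mul, st_single, ← Matrix.single_add, ← Matrix.single_add]
    have h := congrFun (congrFun hu i) i
    simp only [Matrix.add_apply, Matrix.zero_apply, Matrix.mul_apply, st, Matrix.transpose_apply, Matrix.map_apply] at h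
    rw [h, Matrix.single_zero]
  obtain ⟨h0', e⟩ := uM_inv h0
  refine ⟨(uM h0 : Mg J m ε), _, _, Cfsg.Lib.UnitMult.Rel.mul J.inv2 hu h0', ⟨_, _, h0, rfl⟩, ?_, ?_⟩
  · have h := congrFun (congrFun hu i) i
    simp only [Matrix.add_apply, Matrix.zero_apply, Matrix.mul_apply, st, Matrix.transpose_apply, Matrix.map_apply] at h
    simp [Matrix.mul_apply, st, rowM, Matrix.single_apply]
    linear_combination h
  · rw [← uM_mul hu h0', ← e, inv_mul_cancel_right]

/-- When does conjugation by a reflection stay in the parabolic subgroup? -/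
theorem kf_conj (j : Fin m) (g : Mg J m ε) (hg : kf g = 0)
    (hA : ∀ b, b ≠ j → mat g (Sum.inl (Sum.inl j)) (Sum.inl (Sum.inl b)) = 0)
    (hD : ∀ a, a ≠ j → mat g (Sum.inl (Sum.inr a)) (Sum.inl (Sum.inr j)) = 0)
    (hB : mat g (Sum.inl (Sum.inl j)) (Sum.inl (Sum.inr j)) = 0) :
    kf (tM J ε j * g * (tM J ε j)⁻¹) = 0 := by
  have hT : (tM J ε j)⁻¹ = tM J ε j * (tM J ε j * tM J ε j)⁻¹ := by group
  ext a b
  have hsq : mat ((tM J ε j * tM J ε j)⁻¹ : Mg J m ε) = lMat J.σ (sg j) (sg j) 1 := by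
    rw [← tM_mul_self_entries (J := J) (ε := ε) j]
    congr 1
    refine inv_eq_of_mul_eq_one_right (mat_inj ?_)
    have hd : (sg j) * (sg j) = (1 : Matrix (Fin m) (Fin m) F) := sg_sq j
    rw [mat_mul, tM_mul_self_entries, mat_one]
    simp [lMat, fromBlocks_multiply, ← Cfsg.Lib.Linear.SUDegree.st_mul, hd, Cfsg.Lib.Linear.SUDegree.st_one,
      fromBlocks_one]
  have hk : ∀ x y, mat g (Sum.inl (Sum.inr x)) (Sum.inl (Sum.inl y)) = 0 := fun x y => congrFun (congrFun hg x) y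
  show mat (tM J ε j * g * (tM J ε j)⁻¹) _ _ = 0
  rw [hT, ← mul_assoc, mat_mul, hsq, mul_assoc, Matrix.mul_apply]
  simp only [Fintype.sum_sum_type, tM_col, lMat, fromBlocks_apply₁₁, fromBlocks_apply₂₁, fromBlocks_apply₁₂,
    Matrix.zero_apply, mul_zero, Finset.sum_const_zero, add_zero]
  refine Finset.sum_eq_zero fun y _ => ?_
  refine mul_eq_zero_of_left ?_ _
  simp only [mat_mul, mat_tM]
  by_cases ha : a = j <;> by_cases hy : y = j
  all_goals simp [Matrix.mul_apply, Fintype.sum_sum_type, Matrix.one_apply, Matrix.single_apply, ite_and, hk, *]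
  all_goals
    right
    first | refine Finset.sum_eq_zero fun x _ => ?_ | refine (Finset.sum_eq_zero fun x _ => ?_).symm
    by_cases hx : x = j
    · subst hx; simp [Ne.symm, *]
    · simp [hA x hx]

/-- The Levi elements fixing a hyperplane are conjugated into the parabolic subgroup. -/
theorem kf_conj_lM {C : GL (Fin m) F} {μ : F} (h : LevOK J ε C μ) (j : Fin m)
    (hrow : ∀ b, b ≠ j → C.1 j b = 0) : kf (tM J ε j * lM h * (tM J ε j)⁻¹) = 0 := by
  refine kf_conj j _ (kf_lM h) (fun b hb => by simp [lMat, hrow b hb]) (fun a ha => ?_) (by simp [lMat])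
  have hCC : C.1 * (C⁻¹).1 = 1 := by rw [← Units.val_mul, mul_inv_cancel, Units.val_one]
  have hc : C.1 j j ≠ 0 := fun e => by
    have := congrFun (congrFun hCC j) j
    rw [Matrix.mul_apply, Finset.sum_eq_single j (fun b _ hb => by rw [hrow b hb, zero_mul]) (by simp), e, zero_mul,
      Matrix.one_apply_eq] at this
    exact zero_ne_one this
  have := congrFun (congrFun hCC j) a
  rw [Matrix.mul_apply, Finset.sum_eq_single j (fun b _ hb => by rw [hrow b hb, zero_mul]) (by simp),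
    Matrix.one_apply_ne (Ne.symm ha)] at this
  simp [lMat, st, (mul_eq_zero.1 this).resolve_left hc, -Matrix.coe_units_inv]

theorem kf_conj_uM (j : Fin m) {H : Matrix (Fin m) (Fin m) F} {X : Matrix (Fin m) (Fin ε) F}
    (h : H + st J.σ H + X * st J.σ X = 0) (h0 : H j j = 0) :
    kf (tM J ε j * uM h * (tM J ε j)⁻¹) = 0 :=
  kf_conj j _ (kf_uM h) (fun b hb => by simp [uMat, Ne.symm hb]) (fun a ha => by simp [uMat, ha])
    (by simp [uMat, h0])

end Cfsg.Lib.Linear.ShortPres.SUN
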