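import Cfsg.Agent.Lib.Linear.ShortPres.SUN.OddA
import Cfsg.Agent.Lib.Linear.ShortPres.SUN.Cells
import Cfsg.Agent.Lib.Linear.ShortPres.SUN.Red

/-!
# Odd dimension: a covering given by few relations is faithful
-/

set_option autoImplicit false
set_option linter.unusedSectionVars false

namespace Cfsg.Lib.Linear.ShortPres.SUN

open Matrix Cfsg.Lib.Linear.SUDegree Cfsg.Lib.Linear.Herm
open scoped commutatorElement

variable {F : Type*} [Field F] {J : Conj F}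

theorem Qm_conj {m : ℕ} [NeZero m] {c v : F} (h : c + J.σ c + ∑ _e : Fin 1, v * J.σ v = 0) {g : Mg J m 1}
    (hg : g ∈ Qm J m 1) :
    uM (rel0 (m := m) h) * g * (uM (rel0 (m := m) h))⁻¹ ∈ Qm J m 1 := by
  obtain ⟨H, X, hu, C, rfl, hH, hX, hC⟩ := hg
  obtain ⟨hs', es⟩ := uM_inv (rel0 (m := m) h)
  have e1 := lM_uM (levOK_sl (J := J) (ε := 1) C) hs'
  refine ⟨_, _, Cfsg.Lib.UnitMult.Rel.mul J.inv2 (Cfsg.Lib.UnitMult.Rel.mul J.inv2 (rel0 (m := m) h) hu)
    (Cfsg.Lib.UnitMult.Rel.conj J.inv2 hs' C.1 (levOK_sl (J := J) (ε := 1) C).norm), C, ?_, ?_, ?_, hC⟩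
  · rw [es, ← uM_mul (Cfsg.Lib.UnitMult.Rel.mul J.inv2 (rel0 (m := m) h) hu)
      (Cfsg.Lib.UnitMult.Rel.conj J.inv2 hs' C.1 (levOK_sl (J := J) (ε := 1) C).norm), ← uM_mul (rel0 (m := m) h) hu]
    simp only [mul_assoc]
    congr 2
    rw [show slM J m 1 C = lM (levOK_sl C) from rfl]
    convert e1 using 3
    exact uM_congr _ _ (Matrix.mul_assoc _ _ _).symm rfl
  · simp [Matrix.mul_apply, hC, hX, hH, st, rowM, J.inv2]
    simp at h
    linear_combination h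
  · intro e
    simp [hX, hC, Matrix.mul_apply, rowM]

theorem Qm_conj_normalizer {m : ℕ} [NeZero m] {c v : F} (h : c + J.σ c + ∑ _e : Fin 1, v * J.σ v = 0) :
    (uM (rel0 (m := m) h) : Mg J m 1) ∈ Subgroup.normalizer (Qm J m 1 : Set (Mg J m 1)) := by
  have h' : c + J.σ c + v * J.σ v = 0 := by simpa using h
  obtain ⟨hi, ei⟩ := uM_inv (rel0 (m := m) h)
  have hi' : J.σ c + J.σ (J.σ c) + ∑ _e : Fin 1, -v * J.σ (-v) = 0 := by
    rw [Fin.sum_univ_one, J.inv2, map_neg]; linear_combination h'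
  have e : (uM (rel0 (m := m) hi') : Mg J m 1) = (uM (rel0 (m := m) h))⁻¹ := by
    rw [ei]
    exact uM_congr _ _ (st_single _ _ _).symm (by ext i j; by_cases hi : i = 0 <;> simp [rowM, hi])
  refine Subgroup.mem_normalizer_iff.2 fun g => ⟨Qm_conj h, fun hg => ?_⟩
  have h2 := Qm_conj hi' hg
  rw [e] at h2
  simpa [mul_assoc] using h2

namespace Odd

variable {k : ℕ} [NeZero k] {G : Type*} [Group G] {π : G →* Mg J (k + 1) 1} {Q : Pm J} (D : Odd J k π Q)
variable [Finite F]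

/-- The radical with the special linear group. -/
noncomputable def base : Base J (k + 1) 1 π where
  hε := le_rfl
  A := D.A
  πA := D.πA
  N := D.rad.N
  norm C n hn := by
    have : D.rad.N ≤ D.rad.N.comap (MulAut.conj (D.A C)).toMonoidHom := by
      conv_lhs => rw [RadOne.N, show D.rad.X = D.X from rfl]
      rw [Subgroup.closure_le]
      rintro _ ⟨v, rfl⟩
      show D.A C * D.X v * (D.A C)⁻¹ ∈ D.rad.N
      rw [D.X_conj]
      exact D.rad.X_mem _
    exact this hn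
  inj n hn h := D.rad.N_inj Q.norm hn h
  img n hn := by
    obtain ⟨v, z, hz, rfl⟩ := D.rad.exists_nf hn
    obtain ⟨M, rfl⟩ := D.rad.exists_lam hz
    exact ⟨_, _, Cfsg.Lib.UnitMult.Rel.mul J.inv2 (xrel D.rad.hκ v) (mrel M),
      by rw [map_mul, D.rad.πX, D.rad.π_lam, uM_mul]⟩
  surj H X h := D.rad.N_surj h

theorem X_mem_K (v : Fin (k + 1) → F) : D.X v ∈ D.base.K := D.base.N_le (D.rad.X_mem v)

theorem W_mem_K (v w : Fin (k + 1) → F) : ⁅D.X v, D.X w⁆ ∈ D.base.K :=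
  D.base.N_le (D.rad.Z_le (D.rad.comm_mem v w))

/-- The compatible part. -/
noncomputable def Pq : Subgroup G := D.base.K ⊓ (Qm J (k + 1) 1).comap π

theorem mem_Pq {y : G} : y ∈ D.Pq ↔ y ∈ D.base.K ∧ π y ∈ Qm J (k + 1) 1 := Iff.rfl

theorem X_mem_Pq {v : Fin (k + 1) → F} (hv : v 0 = 0) : D.X v ∈ D.Pq := by
  refine D.mem_Pq.2 ⟨D.X_mem_K v, _, _, xrel Q.hκ v, 1, ?_, ?_, ?_, fun b => by simp [Matrix.one_apply]⟩
  · rw [map_one, mul_one, D.π_X]
  · simp [col_mul, hv]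
  · intro e; simpa using hv

theorem A_mem_Pq {C : SpecialLinearGroup (Fin (k + 1)) F} (hC : ∀ b, C.1 0 b = if 0 = b then 1 else 0) :
    D.A C ∈ D.Pq := by
  have h0 : (0 : Matrix (Fin (k + 1)) (Fin (k + 1)) F) + st J.σ (0 : Matrix (Fin (k + 1)) (Fin (k + 1)) F) +
      (0 : Matrix (Fin (k + 1)) (Fin 1) F) * st J.σ (0 : Matrix (Fin (k + 1)) (Fin 1) F) = 0 := by
    rw [Cfsg.Lib.Linear.SUDegree.st_zero, Matrix.zero_mul]; simp
  refine D.mem_Pq.2 ⟨D.base.A_mem C, 0, 0, h0, C, ?_, rfl, fun _ => rfl, hC⟩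
  rw [D.πA, show (uM h0 : Mg J (k + 1) 1) = 1 from mat_inj (by rw [mat_uM, mat_one, uMat_zero]), one_mul]

theorem W_mem_Pq {v w : Fin (k + 1) → F} (h : v 0 * J.σ (w 0) = 0) : ⁅D.X v, D.X w⁆ ∈ D.Pq := by
  refine D.mem_Pq.2 ⟨D.W_mem_K v w, _, _, mrel (col v * st J.σ (col w)), 1, ?_, ?_, fun _ => rfl,
    fun b => by simp [Matrix.one_apply]⟩
  · rw [map_one, mul_one, D.π_comm]
  · rw [Matrix.sub_apply, col_mul]
    simp [st, h]

/-- Conjugation by the square of the reflection on the mixed commutators. -/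
theorem W_sq (α β : F) : D.t * D.t * ⁅D.X (Pi.single 0 α), D.X (Pi.single 1 β)⁆ * (D.t * D.t)⁻¹ =
    ⁅D.X (Pi.single 0 (-α)), D.X (Pi.single 1 β)⁆ := by
  refine InW.eq D ?_ (D.inW_W _ _) ?_
  · show D.t * _ * D.t⁻¹ ∈ D.A.range
    have h := (Subgroup.mem_normalizer_iff.1 D.sq_NA _).1 (D.inW_W α β)
    convert h using 1
    group
  · have e1 := congrArg π (D.t_W_t α β)
    have e2 := congrArg π (D.t_W_t (-α) β)
    rw [map_mul, map_mul, map_inv, D.πA, D.πt] at e1 e2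
    rw [show β * J.σ (-α) * J.η⁻¹ = -(β * J.σ α * J.η⁻¹) by rw [map_neg]; ring] at e2
    set c := β * J.σ α * J.η⁻¹
    have e1' := eq_inv_mul_iff_mul_eq.2 (mul_inv_eq_iff_eq_mul.1 e1)
    have e2' := eq_inv_mul_iff_mul_eq.2 (mul_inv_eq_iff_eq_mul.1 e2)
    rw [map_mul, map_mul, map_mul, map_inv, map_mul, D.πt, e1', e2']
    have key : tM J 1 (0 : Fin (k + 1)) * tM J 1 0 * slM J (k + 1) 1 (tv (Pm.h01 (k := k)).symm c) =
        slM J (k + 1) 1 (tv (Pm.h01 (k := k)).symm (-c)) * (tM J 1 0 * tM J 1 0) := by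
      refine mat_inj ?_
      rw [mat_mul, mat_mul _ (tM J 1 0 * tM J 1 0), tM_mul_self_entries, slM_apply, slM_apply, tv_inv, tv_inv, neg_neg]
      simp only [tv_coe]
      simp only [lMat, fromBlocks_multiply, Matrix.mul_zero, Matrix.zero_mul, add_zero, zero_add, one_smul,
        Matrix.mul_one, Cfsg.Lib.Linear.SUDegree.st_add, Cfsg.Lib.Linear.SUDegree.st_one, st_single]
      congr 2
      · ext a b
        rw [sg, Matrix.diagonal_mul, Matrix.mul_diagonal]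
        simp only [Matrix.add_apply, Matrix.one_apply, Matrix.single_apply]
        by_cases h : (1 : Fin (k + 1)) = a ∧ 0 = b
        · obtain ⟨rfl, rfl⟩ := h
          simp [Pm.h01, Pm.h01.symm]
        · simp only [if_neg h, add_zero]
          by_cases hab : a = b
          · subst hab; ring
          · simp [hab]
      · ext a b
        rw [show st J.σ (sg (F := F) (0 : Fin (k + 1))) = sg 0 from by
          ext i j; simp [st, sg, Matrix.diagonal_apply]; split_ifs <;> simp_all,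
          sg, Matrix.diagonal_mul, Matrix.mul_diagonal]
        simp only [Matrix.add_apply, Matrix.one_apply, Matrix.single_apply]
        by_cases h : (0 : Fin (k + 1)) = a ∧ 1 = b
        · obtain ⟨rfl, rfl⟩ := h
          simp [Pm.h01, Pm.h01.symm]
        · simp only [if_neg h, add_zero]
          by_cases hab : a = b
          · subst hab; ring
          · simp [hab]
    calc tM J 1 0 * tM J 1 0 * ((tM J 1 0)⁻¹ * (slM J (k + 1) 1 (tv (Pm.h01 (k := k)).symm c) * tM J 1 0)) * (tM J 1 0 * tM J 1 0)⁻¹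
        = (tM J 1 0)⁻¹ * (tM J 1 0 * tM J 1 0 * slM J (k + 1) 1 (tv (Pm.h01 (k := k)).symm c)) *
            (tM J 1 0 * tM J 1 0)⁻¹ * tM J 1 0 := by group
      _ = _ := by rw [key]; group

theorem t_W_t' (α β : F) : D.t⁻¹ * ⁅D.X (Pi.single 0 α), D.X (Pi.single 1 β)⁆ * D.t =
    D.A (tv (Pm.h01 (k := k)).symm (-(β * J.σ α * J.η⁻¹))) := by
  have h := D.W_sq (-α) β
  rw [neg_neg] at h
  rw [← h, show -(β * J.σ α * J.η⁻¹) = β * J.σ (-α) * J.η⁻¹ by rw [map_neg]; ring, ← D.t_W_t]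
  group

/-- The elements carried into the compatible part by the reflection and its inverse. -/
noncomputable def Good : Subgroup G :=
  D.Pq ⊓ D.Pq.comap (MulAut.conj D.t).toMonoidHom ⊓ D.Pq.comap (MulAut.conj D.t⁻¹).toMonoidHom

theorem mem_Good {y : G} (h0 : y ∈ D.Pq) (h1 : D.t * y * D.t⁻¹ ∈ D.Pq) (h2 : D.t⁻¹ * y * D.t ∈ D.Pq) :
    y ∈ D.Good := ⟨⟨h0, h1⟩, show D.t⁻¹ * y * D.t⁻¹⁻¹ ∈ D.Pq by rwa [inv_inv]⟩

theorem tv_row (c : F) : ∀ b, (tv (Pm.h01 (k := k)).symm c).1 (0 : Fin (k + 1)) b = if 0 = b then 1 else 0 := fun b => by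
  simp [tv_coe, Matrix.one_apply, Matrix.single_apply, Pm.h01, Pm.h01.symm]

theorem good_A_ext0 (S : SpecialLinearGroup (Fin k) F) : D.A (ext0 S) ∈ D.Good := by
  have h := D.A_mem_Pq (C := ext0 S) (ext0_apply S).1
  refine D.mem_Good h ?_ ?_
  · rw [← (D.tS S).eq, mul_inv_cancel_right]; exact h
  · rw [mul_assoc, (D.tS S).eq, inv_mul_cancel_left]; exact h

theorem good_X {v : Fin (k + 1) → F} (hv : v 0 = 0) : D.X v ∈ D.Good := by
  have h := D.X_mem_Pq hv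
  refine D.mem_Good h ?_ ?_
  · rw [(D.t_X hv).eq, mul_inv_cancel_right]; exact h
  · rw [mul_assoc, ← (D.t_X hv).eq, inv_mul_cancel_left]; exact h

theorem good_W (α β : F) : ⁅D.X (Pi.single 0 α), D.X (Pi.single 1 β)⁆ ∈ D.Good := by
  refine D.mem_Good (D.W_mem_Pq (by simp [Pm.h01])) ?_ ?_
  · rw [D.t_W_t]; exact D.A_mem_Pq (tv_row _)
  · rw [D.t_W_t']; exact D.A_mem_Pq (tv_row _)

theorem good_tv (c : F) : D.A (tv (Pm.h01 (k := k)).symm c) ∈ D.Good := by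
  have hne := J.η_ne
  have e : D.t * ⁅D.X (Pi.single 0 1), D.X (Pi.single 1 (c * J.η))⁆ * D.t⁻¹ =
      D.A (tv (Pm.h01 (k := k)).symm c) := by
    rw [D.t_W_t, map_one, mul_one, mul_inv_cancel_right₀ hne]
  refine D.mem_Good (D.A_mem_Pq (tv_row _)) ?_ ?_
  · rw [← e, show ∀ y, D.t * (D.t * y * D.t⁻¹) * D.t⁻¹ = D.t * D.t * y * (D.t * D.t)⁻¹ by intro y; group, D.W_sq]
    exact D.W_mem_Pq (by simp [Pm.h01])
  · rw [← e, show ∀ y, D.t⁻¹ * (D.t * y * D.t⁻¹) * D.t = y by intro y; group]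
    exact D.W_mem_Pq (by simp [Pm.h01])

theorem good_row {C : SpecialLinearGroup (Fin (k + 1)) F} (hC : ∀ b, C.1 0 b = if 0 = b then 1 else 0) :
    D.A C ∈ D.Good := by
  refine mem_of_row C hC (D.Good.comap D.A) (fun j hj c => ?_) (fun S => D.good_A_ext0 S)
  obtain ⟨S, hS⟩ : ∃ S, (ext0 S).1 *ᵥ Pi.single 1 (1 : F) = Pi.single j (1 : F) := by
    rcases D.kind with hk | E
    · exact exists_move_tail hk (by simp) (by simp) (Pi.single_eq_of_ne Pm.h01 _)
        (Pi.single_eq_of_ne (Ne.symm hj) _)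
    · exact ⟨1, by rw [map_one, Matrix.SpecialLinearGroup.coe_one, Matrix.one_mulVec, eq_one_of_two E.one hj]⟩
  have hcol : ∀ a, (ext0 S).1 a 1 = (Pi.single j 1 : Fin (k + 1) → F) a := fun a => by
    have := congrFun hS a
    rwa [Matrix.mulVec_single_one, Matrix.col_apply] at this
  have e : tv hj c = ext0 S * tv (Pm.h01 (k := k)).symm c * (ext0 S)⁻¹ := by
    rw [eq_mul_inv_iff_mul_eq]
    refine Subtype.ext ?_
    rw [Matrix.SpecialLinearGroup.coe_mul, Matrix.SpecialLinearGroup.coe_mul, tv_coe, tv_coe, Matrix.add_mul,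
      Matrix.mul_add, Matrix.one_mul, Matrix.mul_one]
    congr 1
    ext a b
    simp [Matrix.mul_apply, Matrix.single_apply, hcol, (ext0_apply S).1, Pi.single_apply, ite_and]
    by_cases ha : a = j <;> by_cases hb : b = 0 <;> simp [ha, hb, Ne.symm, eq_comm]
  show D.A (tv hj c) ∈ D.Good
  rw [e, map_mul, map_mul, map_inv]
  exact mul_mem (mul_mem (D.good_A_ext0 S) (D.good_tv c)) (inv_mem (D.good_A_ext0 S))

theorem good_tail (α : F) {v : Fin (k + 1) → F} (hv : v 0 = 0) : ⁅D.X (Pi.single 0 α), D.X v⁆ ∈ D.Good := by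
  rcases eq_or_ne v 0 with rfl | hne
  · rw [X_zero, commutatorElement_one_right]; exact one_mem _
  rcases D.kind with hk | E
  swap
  · rw [tail_two E.one hv]; exact D.good_W _ _
  obtain ⟨S, hS⟩ := exists_move_tail hk (v := Pi.single 1 (1 : F)) (w := v) (by simp) hne
    (Pi.single_eq_of_ne Pm.h01 _) hv
  have h := mul_mem (mul_mem (D.good_A_ext0 S) (D.good_W α 1)) (inv_mem (D.good_A_ext0 S))
  rwa [D.comm_conj, hS, ext0_e] at h

theorem good_lam {M : Matrix (Fin (k + 1)) (Fin (k + 1)) F} (hM : J.σ (M 0 0) = M 0 0) :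
    ((D.rad.lam M).toMul : D.rad.Z).1 ∈ D.Good := by
  classical
  let T : AddSubgroup (Additive D.rad.Z) := (D.Good.comap D.rad.Z.subtype).toAddSubgroup
  suffices h : D.rad.lam M ∈ T from h
  rw [RadOne.lam_eq]
  refine sum_mem fun p _ => ?_
  obtain ⟨i, j⟩ := p
  show D.rad.cz (Pi.single i (M i j)) (Pi.single j 1) ∈ T
  rcases eq_or_ne i 0 with rfl | hi <;> rcases eq_or_ne j 0 with rfl | hj
  · rw [D.rad.cz_diag Q.norm 0 hM]; exact zero_mem _
  · exact D.good_tail _ (Pi.single_eq_of_ne (Ne.symm hj) _)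
  · rw [D.rad.cz_swap (Pi.single 0 1)]
    exact neg_mem (show D.rad.cz (Pi.single 0 1) (Pi.single i (M i 0)) ∈ T from
      D.good_tail _ (Pi.single_eq_of_ne (Ne.symm hi) _))
  · show ⁅D.X _, D.X _⁆ ∈ D.Good
    rw [commutatorElement_def]
    have a := D.good_X (v := Pi.single i (M i j)) (Pi.single_eq_of_ne (Ne.symm hi) _)
    have b := D.good_X (v := Pi.single j (1 : F)) (Pi.single_eq_of_ne (Ne.symm hj) _)
    exact mul_mem (mul_mem (mul_mem a b) (inv_mem a)) (inv_mem b)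

theorem Pq_le_Good : D.Pq ≤ D.Good := by
  intro y hy
  obtain ⟨hK, H, X, hu, C, e, hH, hX, hC⟩ := D.mem_Pq.1 hy
  obtain ⟨v, rfl⟩ : ∃ v, col v = X := ⟨fun i => X i 0, by ext i j; rw [Subsingleton.elim j 0]; rfl⟩
  obtain ⟨n, hn, en⟩ := D.rad.N_surj hu
  obtain rfl : y = n * D.A C := D.base.eq_K hK (mul_mem (D.base.N_le hn) (D.base.A_mem C)) (by
    rw [e, map_mul, en, D.πA])
  refine mul_mem ?_ (D.good_row hC)
  obtain ⟨v', z, hz, rfl⟩ := D.rad.exists_nf hn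
  obtain ⟨M, rfl⟩ := D.rad.exists_lam hz
  rw [map_mul, D.rad.πX, D.rad.π_lam, uM_mul] at en
  obtain ⟨h1, h2⟩ := uM_inj en
  have hv' : v' 0 = 0 := by
    have := congrFun (congrFun h2 0) 0
    simp at this
    rw [this]; exact hX 0
  refine mul_mem (D.good_X hv') (D.good_lam ?_)
  have h00 := congrFun (congrFun h1 0) 0
  simp [col_mul, Matrix.mul_apply, hv', hH, st] at h00
  exact sub_eq_zero.1 h00

theorem compat {y : G} (hy : y ∈ D.Pq) : D.t * y * D.t⁻¹ ∈ D.Pq := (D.Pq_le_Good hy).1.2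

theorem compat' {y : G} (hy : y ∈ D.Pq) : D.t⁻¹ * y * D.t ∈ D.Pq := by
  have := (D.Pq_le_Good hy).2
  change D.t⁻¹ * y * D.t⁻¹⁻¹ ∈ D.Pq at this
  rwa [inv_inv] at this

theorem t_norm : D.t ∈ Subgroup.normalizer (D.Pq : Set G) := by
  refine Subgroup.mem_normalizer_iff.2 fun y => ⟨D.compat, fun hy => ?_⟩
  have := D.compat' hy
  rwa [show D.t⁻¹ * (D.t * y * D.t⁻¹) * D.t = y by group] at this

theorem X0_norm (α : F) : D.X (Pi.single 0 α) ∈ Subgroup.normalizer (D.Pq : Set G) := by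
  have hk := D.X_mem_K (Pi.single 0 α)
  have hr : Q.κ * (α * J.σ α) + J.σ (Q.κ * (α * J.σ α)) + ∑ _e : Fin 1, α * J.σ α = 0 := by
    rw [Fin.sum_univ_one, map_mul, map_mul, J.inv2]
    linear_combination (α * J.σ α) * Q.hκ
  have hN : π (D.X (Pi.single 0 α)) ∈ Subgroup.normalizer (Qm J (k + 1) 1 : Set (Mg J (k + 1) 1)) := by
    rw [D.π_X]
    convert Qm_conj_normalizer (m := k + 1) hr using 1
    refine uM_congr _ _ ?_ (col_single _)
    rw [col_single_mul, Matrix.smul_single, smul_eq_mul]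
  refine Subgroup.mem_normalizer_iff.2 fun y => ?_
  rw [mem_Pq, mem_Pq, map_mul, map_mul, map_inv, ← Subgroup.mem_normalizer_iff.1 hN (π y)]
  refine and_congr_left fun _ => ⟨fun h => mul_mem (mul_mem hk h) (inv_mem hk), fun h => ?_⟩
  have := mul_mem (mul_mem (inv_mem hk) h) hk
  simpa [mul_assoc] using this

theorem h_norm_Pq : D.h ∈ Subgroup.normalizer (D.Pq : Set G) := by
  have ha : ∀ c, Pm.xa D.A D.x c ∈ Subgroup.normalizer (D.Pq : Set G) := fun c => by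
    rw [xa_eq]; exact D.X0_norm c
  have hx : D.x ∈ Subgroup.normalizer (D.Pq : Set G) := D.X_e0 ▸ D.X0_norm 1
  have hu : ∀ c v, Q.uw D.A D.x c v ∈ Subgroup.normalizer (D.Pq : Set G) := fun c v => by
    rw [Pm.uw, Pm.zw, commutatorElement_def]
    exact mul_mem (ha _) (mul_mem (mul_mem (mul_mem (ha _) hx) (inv_mem (ha _))) (inv_mem hx))
  rw [h, Pm.hw]
  exact mul_mem (mul_mem (mul_mem (inv_mem (hu _ _)) (mul_mem (mul_mem D.t_norm (ha _)) (inv_mem D.t_norm)))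
    (inv_mem (hu _ _))) (inv_mem D.t_norm)

theorem conj_mem_K {g : G} (h1 : g ∈ Subgroup.normalizer (D.Pq : Set G))
    (h2 : g ∈ Subgroup.normalizer (D.A.range : Set G)) {y : G} (hy : y ∈ D.base.K) :
    g * y * g⁻¹ ∈ D.base.K := by
  let T : Subgroup G := D.base.K.comap (MulAut.conj g).toMonoidHom
  suffices h : D.base.K ≤ T from h hy
  have hA : ∀ C, D.A C ∈ T := fun C => by
    obtain ⟨C', hC'⟩ := (Subgroup.mem_normalizer_iff.1 h2 _).1 ⟨C, rfl⟩
    show g * D.A C * g⁻¹ ∈ D.base.K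
    rw [← hC']; exact D.base.A_mem C'
  refine sup_le ?_ (by rintro _ ⟨C, rfl⟩; exact hA C)
  show D.rad.N ≤ T
  rw [RadOne.N, Subgroup.closure_le]
  rintro _ ⟨v, rfl⟩
  show D.X v ∈ T
  rcases eq_or_ne v 0 with rfl | hv
  · rw [X_zero]; exact one_mem _
  obtain ⟨C, hC⟩ := exists_Cv hv
  have e : D.X v = D.A (C * Pm.w10⁻¹) * D.X (Pi.single 1 1) * (D.A (C * Pm.w10⁻¹))⁻¹ := by
    rw [D.X_conj]
    congr 1
    rw [Matrix.SpecialLinearGroup.coe_mul, ← Matrix.mulVec_mulVec, ← Pm.w10_mulVec,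
      Matrix.mulVec_mulVec _ (Pm.w10⁻¹).1 Pm.w10.1, ← Matrix.SpecialLinearGroup.coe_mul, inv_mul_cancel,
      Matrix.SpecialLinearGroup.coe_one, Matrix.one_mulVec, hC]
  rw [e]
  refine mul_mem (mul_mem (hA _) ?_) (inv_mem (hA _))
  exact (D.mem_Pq.1 ((Subgroup.mem_normalizer_iff.1 h1 _).1
    (D.X_mem_Pq (Pi.single_eq_of_ne Pm.h01 _)))).1

theorem π_h_one {i : ℕ} (hi : Q.ζ ^ i = 1) : π (D.h ^ i) = 1 := by
  obtain ⟨C, μ, hC, eC, e⟩ := D.exists_πh
  obtain ⟨h', e'⟩ := lM_pow hC i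
  rw [map_pow, e, e']
  have e1 : (C ^ i).1 = (SpecialLinearGroup.toGL (1 : SpecialLinearGroup (Fin (k + 1)) F)).1 := by
    rw [map_one, Units.val_one, Units.val_pow_eq_pow_val, eC, d0, Matrix.diagonal_pow, ← Matrix.diagonal_one]
    congr 1
    funext a
    simp only [Pi.pow_apply]
    split_ifs <;> simp [hi]
  rw [lM_congr le_rfl h' (levOK_sl 1) e1]
  exact map_one (slM J (k + 1) 1)

theorem h_ord (i : ℕ) (hi : Q.ζ ^ i = 1) : D.h ^ i = 1 := by
  rcases D.red with ⟨hperf, hred⟩ | h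
  swap
  · exact h i hi
  have h1 := D.π_h_one hi
  set r := D.h ^ i with hr
  have hconj : ∀ y, π (r * y * r⁻¹) = π y := fun y => by simp [h1]
  have hA : ∀ C, Commute (D.A C) r := fun C => by
    obtain ⟨C', hC'⟩ := (Subgroup.mem_normalizer_iff.1 (pow_mem D.h_mem_NA i) _).1 ⟨C, rfl⟩
    rw [← hr] at hC'
    obtain rfl : C' = C := D.A_inj (by rw [hC', hconj])
    exact ((eq_mul_inv_iff_mul_eq.1 hC')).symm.symm
  have hx : Commute D.x r := by
    have hk : D.x ∈ D.base.K := D.X_e0 ▸ D.X_mem_K _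
    have := D.base.eq_K (D.conj_mem_K (pow_mem D.h_norm_Pq i) (pow_mem D.h_mem_NA i) hk) hk (hconj _)
    exact (mul_inv_eq_iff_eq_mul.1 this).symm
  obtain ⟨e, he⟩ := D.tht
  obtain ⟨N, hN⟩ := D.sq
  have ht : D.t * r * D.t⁻¹ = r ^ e := by
    rw [hr, ← conj_pow, he, ← pow_mul, ← pow_mul, Nat.mul_comm]
  have ht2 : D.t * r ^ e * D.t⁻¹ = r := by
    rw [← ht, show D.t * (D.t * r * D.t⁻¹) * D.t⁻¹ = D.t * D.t * r * (D.t * D.t)⁻¹ by group, hN, hr,
      ((Commute.refl D.h).pow_pow N i).eq, mul_inv_cancel_right]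
  have ht' : D.t⁻¹ * r * D.t = r ^ e := by
    calc D.t⁻¹ * r * D.t = D.t⁻¹ * (D.t * r ^ e * D.t⁻¹) * D.t := by rw [ht2]
      _ = _ := by group
  have hn : ∀ g : G, g * r * g⁻¹ ∈ Subgroup.zpowers r ∧ g⁻¹ * r * g ∈ Subgroup.zpowers r → 
      g ∈ Subgroup.normalizer (Subgroup.zpowers r : Set G) := by
    rintro g ⟨hg, hg'⟩
    refine Subgroup.mem_normalizer_iff.2 fun y => ⟨fun hy => ?_, fun hy => ?_⟩
    · obtain ⟨j, rfl⟩ := Subgroup.mem_zpowers_iff.1 hy
      rw [← conj_zpow]; exact Subgroup.zpow_mem _ hg j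
    · obtain ⟨j, hj⟩ := Subgroup.mem_zpowers_iff.1 hy
      rw [show y = g⁻¹ * r ^ j * g⁻¹⁻¹ by rw [hj]; group, ← conj_zpow, inv_inv]
      exact Subgroup.zpow_mem _ hg' j
  have hc : ∀ g, Commute g r → g * r * g⁻¹ ∈ Subgroup.zpowers r ∧ g⁻¹ * r * g ∈ Subgroup.zpowers r := fun g hg =>
    ⟨by rw [hg.eq, mul_inv_cancel_right]; exact Subgroup.mem_zpowers r,
      by rw [mul_assoc, ← hg.eq, inv_mul_cancel_left]; exact Subgroup.mem_zpowers r⟩
  have htop : Subgroup.normalizer (Subgroup.zpowers r : Set G) = ⊤ := by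
    rw [eq_top_iff, ← D.gen, Subgroup.closure_le]
    rintro g (⟨C, rfl⟩ | rfl | rfl)
    · exact hn _ (hc _ (hA C))
    · exact hn _ (hc _ hx)
    · exact hn _ ⟨ht ▸ pow_mem (Subgroup.mem_zpowers r) e, ht' ▸ pow_mem (Subgroup.mem_zpowers r) e⟩
  refine hred r h1 (central_of_cyclic hperf r fun g => ?_)
  exact (Subgroup.mem_normalizer_iff.1 (htop ▸ Subgroup.mem_top g) r).1 (Subgroup.mem_zpowers r)

theorem one_eq (hm : 2 ≤ k + 1) : (⟨1, hm⟩ : Fin (k + 1)) = 1 :=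
  Fin.ext (by rw [Fin.val_one', Nat.mod_eq_of_lt (by omega)])

/-- The parabolic data. -/
noncomputable def par : ParData J (k + 1) 1 π where
  toBase := D.base
  hm := D.hm2
  t := D.t
  πt := D.πt
  h := D.h
  ζ := Q.ζ
  πh := D.exists_πh
  det_pow C μ hC := by
    obtain ⟨i, hi⟩ := Q.gen _ hC.det_ne
    exact ⟨i, hi.symm⟩
  h_norm y hy := D.conj_mem_K D.h_norm_Pq D.h_mem_NA hy
  h_norm' y hy := by
    simpa using D.conj_mem_K (inv_mem D.h_norm_Pq) (inv_mem D.h_mem_NA) hy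
  h_ord := D.h_ord
  sq := by
    obtain ⟨N, hN⟩ := D.sq
    rw [hN]; exact Subgroup.mem_sup_right (pow_mem (Subgroup.mem_zpowers _) N)
  t_h1 h01 := by
    have e : wj (F := F) h01 = Pm.w01 := Subtype.ext (by rw [Pm.w01, wj_coe, wj_coe, one_eq])
    show Commute D.t (D.A (wj h01) * D.h * (D.A (wj h01))⁻¹)
    rw [e]; exact D.t_h1
  compat0 y hy H X hu C e hH hC0 hC := by
    have hX : ∀ e, X 0 e = 0 := fun e' => by
      have h := congrFun (congrFun hu 0) 0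
      simp [Matrix.mul_apply, st, hH] at h
      rw [Subsingleton.elim e' 0]
      exact h
    have hy' : y ∈ D.Pq := D.mem_Pq.2 ⟨hy, H, X, hu, C, e, hH, hX, fun b => by
      rcases eq_or_ne b 0 with rfl | hb
      · rw [if_pos rfl]; exact hC0
      · rw [if_neg (Ne.symm hb)]; exact hC b hb⟩
    exact Subgroup.mem_sup_left (D.mem_Pq.1 (D.compat hy')).1
  corner C μ hC h0 hrow := by
    obtain ⟨i, hi⟩ := Q.gen _ h0
    obtain ⟨C', μ', hC', eC', e'⟩ := D.exists_πh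
    obtain ⟨h'', e''⟩ := lM_pow hC' i
    have eC : (C' ^ i).1 = d0 (Q.ζ ^ i) := by
      rw [Units.val_pow_eq_pow_val, eC', d0, Matrix.diagonal_pow, d0]
      congr 1
      funext a
      simp only [Pi.pow_apply]
      split_ifs <;> simp
    obtain ⟨e, he⟩ := D.tht
    refine ⟨D.h ^ i, Subgroup.mem_sup_right (pow_mem (Subgroup.mem_zpowers _) i), ?_, _, _, h'',
      by rw [map_pow, e', e''], by rw [eC]; simp [d0, hi], fun b hb => by rw [eC]; simp [d0, Ne.symm hb]⟩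
    rw [← conj_pow, he, ← pow_mul]
    exact Subgroup.mem_sup_right (pow_mem (Subgroup.mem_zpowers _) _)

theorem K_le_P : D.base.K ≤ D.par.P := le_sup_left

theorem xa_mem_P (c : F) : Pm.xa D.A D.x c ∈ D.par.P := by
  rw [xa_eq]; exact D.K_le_P (D.X_mem_K _)

theorem x_mem_P : D.x ∈ D.par.P := D.X_e0 ▸ D.K_le_P (D.X_mem_K _)

theorem zw_mem_P (d : F) : Q.zw D.A D.x d ∈ D.par.P := by
  rw [Pm.zw, commutatorElement_def]
  exact mul_mem (mul_mem (mul_mem (D.xa_mem_P _) D.x_mem_P) (inv_mem (D.xa_mem_P _))) (inv_mem D.x_mem_P)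

theorem uw_mem_P (c v : F) : Q.uw D.A D.x c v ∈ D.par.P := mul_mem (D.xa_mem_P _) (D.zw_mem_P _)

theorem c0_rel : Q.c0 + J.σ Q.c0 + Q.v0 * J.σ Q.v0 = 0 := by
  have e2 : J.σ Q.c0 = J.σ Q.κ * (Q.v0 * J.σ Q.v0) := by
    rw [Pm.c0, ← Q.hc0, map_mul, map_mul, J.inv2]; ring
  rw [e2, Pm.c0, ← Q.hc0]
  linear_combination (Q.v0 * J.σ Q.v0) * Q.hκ

include D in
/-- A covering with the relations is faithful. -/
theorem injective : Function.Injective π := by
  haveI := Fintype.ofFinite F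
  have k₁ : D.par.Known Q.c0 Q.v0 := by
    have hu : π (Pm.xa D.A D.x Q.v0) = ParData.u0 Q.c0 Q.v0 c0_rel := by
      rw [xa_eq, D.π_X]
      refine uM_congr _ _ ?_ (col_single _)
      rw [col_single_mul, Matrix.smul_single, smul_eq_mul, Q.hc0, Pm.c0]
    refine ParData.Known.mk' D.par c0_rel (D.xa_mem_P _) hu
      ⟨Q.uw D.A D.x (-J.η ^ 2 / Q.c0) (J.η * Q.v0 / J.σ Q.c0) * D.h, mul_mem (D.uw_mem_P _ _) D.par.h_mem,
        Q.uw D.A D.x (-J.η ^ 2 / Q.c0) (J.η * Q.v0 / Q.c0), D.uw_mem_P _ _, ?_⟩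
    show D.t * _ * D.t⁻¹ = _ * D.h * D.t * _
    rw [h, Pm.hw]; group
  have kη : D.par.Known J.η 0 := by
    have h0 : J.η + J.σ J.η + (0 : F) * J.σ 0 = 0 := by rw [J.η_skew]; simp
    exact ParData.Known.mk' D.par h0 (D.zw_mem_P J.η) (D.π_zw J.η_skew)
      ⟨_, D.zw_mem_P (-J.η), _, D.zw_mem_P (-J.η), D.zcell⟩
  have hρ : -J.σ Q.c0 / Q.c0 = J.σ Q.ζ / Q.ζ := by
    have := Q.ζ_ne
    have := J.η_ne
    have : J.σ Q.ζ ≠ 0 := by simpa using Q.ζ_ne
    rw [sc0, Pm.c0]; field_simp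
  have hS : ∀ S : SpecialLinearGroup (Fin (k + 1)) F, (∀ b, S.1 0 b = if 0 = b then 1 else 0) →
      (∀ a, S.1 a 0 = if a = 0 then 1 else 0) → Commute (D.par.A S) D.par.t := fun S hr hc => by
    obtain ⟨S', rfl⟩ := exists_ext0 S hr hc
    exact D.tS S'
  have h01 : (0 : Fin (k + 1)) ≠ ⟨1, D.par.hm⟩ := by simp [Fin.ext_iff]
  have ew : wj (F := F) h01 = Pm.w01 := Subtype.ext (by rw [Pm.w01, wj_coe, wj_coe, one_eq])
  have ht : Commute D.par.t (D.par.A (wj h01) * D.par.t * (D.par.A (wj h01))⁻¹) := by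
    rw [ew]; exact D.tt1
  let core : Core J G π :=
    { hε := le_rfl
      hm := D.par.hm
      P := D.par.P
      kfP := fun p hp => D.par.kf_P hp
      inj := fun p hp h => D.par.inj_P hp h
      surj := D.par.surj_P
      t := D.t
      πt := D.πt
      sq := D.par.sq
      compat := fun p hp h => D.par.compat_P hp h
      cell := D.par.all_cells Q.gen Q.norm c0_rel Q.v0_ne hρ k₁ kη
      comm := fun j hj w hw e => D.par.comm_P h01 ht hS j hj hw e
      gen := by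
        rw [eq_top_iff, ← D.gen, Subgroup.closure_le]
        rintro g (⟨C, rfl⟩ | rfl | rfl)
        · exact Subgroup.subset_closure (Or.inl (D.K_le_P (D.base.A_mem C)))
        · exact Subgroup.subset_closure (Or.inl D.x_mem_P)
        · exact Subgroup.subset_closure (Or.inr rfl) }
  exact (injective_iff_map_eq_one π).2 fun g hg => core.injective g hg

end Odd

end Cfsg.Lib.Linear.ShortPres.SUN
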