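import Cfsg.Agent.Lib.Linear.ShortPres.SUN.EvenTwo

/-!
# Five dimensions: twenty-four relations present the model
-/

set_option autoImplicit false
set_option linter.unusedSectionVars false

universe u

namespace Cfsg.Lib.Linear.ShortPres.SUN

open Matrix Cfsg.Lib.Linear.SUDegree Cfsg.Lib.Linear.Herm
open scoped commutatorElement

variable {F : Type u} [Field F] {J : Conj F}

section Model

variable [Finite F] (Q : Pm J) {k : ℕ} [NeZero k]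

theorem mhw' : ∃ (L : GL (Fin (k + 1)) F) (μ : F) (hL : LevOK J 1 L μ),
    L.1 = d0 Q.ζ ∧ J.σ μ = Q.nu ∧ Q.hw (slM J (k + 1) 1) (xM Q k) (tM J 1 0) = lM hL := by
  obtain ⟨L, μ, hL, eL, e⟩ := mhw (k := k) Q
  refine ⟨L, μ, hL, eL, ?_, e⟩
  have hζ := Q.ζ_ne
  have hsζ : J.σ Q.ζ ≠ 0 := by simpa using hζ
  have hi : (L⁻¹).1 = d0 Q.ζ⁻¹ := by
    calc (L⁻¹).1 = (L⁻¹).1 * (L.1 * d0 Q.ζ⁻¹) := by
          rw [eL, d0_mul, mul_inv_cancel₀ hζ, show d0 (m := k + 1) (1 : F) = 1 by simp [d0], Matrix.mul_one]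
      _ = _ := by rw [← Matrix.mul_assoc, ← Units.val_mul, inv_mul_cancel, Units.val_one, Matrix.one_mul]
  have h := hL.det
  rw [eL, hi, d0_det, d0_det, pow_one, map_inv₀] at h
  have hμ : μ = J.σ Q.ζ / Q.ζ := by
    field_simp at h ⊢
    linear_combination h
  rw [hμ, map_div₀, J.inv2, Pm.nu]

theorem mo_h_A (C : SpecialLinearGroup (Fin (k + 1)) F) :
    Q.hw (slM J (k + 1) 1) (xM Q k) (tM J 1 0) * slM J (k + 1) 1 C *
      (Q.hw (slM J (k + 1) 1) (xM Q k) (tM J 1 0))⁻¹ = slM J (k + 1) 1 (cj Q.ζ Q.ζ_ne C) := by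
  obtain ⟨L, μ, hL, eL, e⟩ := mhw (k := k) Q
  obtain ⟨h1, e1⟩ := lM_mul hL (levOK_sl (J := J) (ε := 1) C)
  obtain ⟨h2, e2⟩ := lM_mul (levOK_sl (J := J) (ε := 1) (cj Q.ζ Q.ζ_ne C)) hL
  rw [mul_inv_eq_iff_eq_mul, e]
  show lM hL * lM (levOK_sl C) = lM (levOK_sl _) * lM hL
  rw [e1, e2]
  refine lM_congr le_rfl _ _ ?_
  rw [Units.val_mul, Units.val_mul, eL]
  show d0 Q.ζ * C.1 = d0 Q.ζ * C.1 * d0 Q.ζ⁻¹ * d0 Q.ζ
  rw [Matrix.mul_assoc _ _ (d0 Q.ζ), d0_inv_mul Q.ζ_ne, Matrix.mul_one]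

theorem mo_h_x (v : Fin (k + 1) → F) :
    Q.hw (slM J (k + 1) 1) (xM Q k) (tM J 1 0) * uM (xrel Q.hκ v) *
      (Q.hw (slM J (k + 1) 1) (xM Q k) (tM J 1 0))⁻¹ = uM (xrel Q.hκ (Q.nu • (d0 Q.ζ *ᵥ v))) := by
  obtain ⟨L, μ, hL, eL, eμ, e⟩ := mhw' (k := k) Q
  rw [mul_inv_eq_iff_eq_mul, e, lM_uM]
  congr 1
  have hn : Q.nu * J.σ Q.nu = 1 := by
    have := Q.ζ_ne
    have : J.σ Q.ζ ≠ 0 := by simpa using Q.ζ_ne
    rw [Pm.nu, map_div₀, J.inv2]; field_simp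
  have hcol : L.1 * col v = col (d0 Q.ζ *ᵥ v) := by
    rw [eL]; ext i j; simp [Matrix.mul_apply, Matrix.mulVec, dotProduct]
  refine uM_congr _ _ ?_ ?_
  · ext i j
    rw [Matrix.smul_apply, col_mul_st, Pi.smul_apply, Pi.smul_apply, smul_eq_mul, smul_eq_mul, smul_eq_mul, map_mul,
      show L.1 * (Q.κ • (col v * st J.σ (col v))) * st J.σ L.1 = Q.κ • (L.1 * col v * st J.σ (L.1 * col v)) by
        rw [Cfsg.Lib.Linear.SUDegree.st_mul, Matrix.mul_smul, Matrix.smul_mul]; simp only [Matrix.mul_assoc],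
      hcol, Matrix.smul_apply, col_mul_st, smul_eq_mul]
    linear_combination -(Q.κ * (d0 Q.ζ *ᵥ v) i * J.σ ((d0 Q.ζ *ᵥ v) j)) * hn
  · ext i j
    rw [hcol, eμ]
    simp

theorem mo_hx : Q.hw (slM J (k + 1) 1) (xM Q k) (tM J 1 0) * xM Q k *
    (Q.hw (slM J (k + 1) 1) (xM Q k) (tM J 1 0))⁻¹ = Pm.xa (slM J (k + 1) 1) (xM Q k) (Q.nu * Q.ζ) := by
  rw [mxa]
  refine (mo_h_x Q _).trans ?_
  exact uM_congr _ _ (by rw [d0_single, if_pos rfl, mul_one, ← Pi.single_smul, smul_eq_mul])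
    (by rw [d0_single, if_pos rfl, mul_one, ← Pi.single_smul, smul_eq_mul])

theorem mo_hadd {c : F} (hc : c ≠ 0) : xM Q k * Pm.xs (slM J (k + 1) 1) (xM Q k) (Pm.w10 * Pm.dl c) =
    Pm.xs (slM J (k + 1) 1) (xM Q k) (tv (Pm.h01 (k := k)).symm c) *
      ⁅Pm.xa (slM J (k + 1) 1) (xM Q k) (-J.σ Q.κ), Pm.xs (slM J (k + 1) 1) (xM Q k) (Pm.w10 * Pm.dl c)⁆ := by
  rw [mxs, mxs, mxa, xM, π_comm_x Q.hκ, uM_mul, uM_mul]
  have e : (tv (Pm.h01 (k := k)).symm c).1 *ᵥ Pi.single 0 1 = Pi.single (0 : Fin (k + 1)) 1 + Pi.single 1 c :=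
    funext fun a => by
      rw [tv_mul_apply, Pi.add_apply]
      rcases eq_or_ne a 1 with rfl | ha
      · simp [Pm.h01, Pm.h01.symm]
      · simp [ha]
  have hs : (Pi.single (0 : Fin (k + 1)) (-J.σ Q.κ) : Fin (k + 1) → F) = (-J.σ Q.κ) • Pi.single 0 1 := by
    rw [← Pi.single_smul, smul_eq_mul, mul_one]
  refine uM_congr _ _ ?_ ?_
  · ext i j
    rw [e, w10_dl_mulVec hc, hs]
    simp [Matrix.mul_apply, st, J.inv2]
    linear_combination (-((Pi.single 0 1 : Fin (k + 1) → F) i * J.σ ((Pi.single 1 c : Fin (k + 1) → F) j))) * Q.hκ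
  · ext i j
    rw [e, w10_dl_mulVec hc]
    simp

theorem mo_W {c : F} (hc : c ≠ 0) :
    tM J 1 0 * ⁅xM Q k, Pm.xs (slM J (k + 1) 1) (xM Q k) (Pm.w10 * Pm.dl c)⁆ * (tM J 1 0)⁻¹ =
      slM J (k + 1) 1 (tv (Pm.h01 (k := k)).symm (c * J.η⁻¹)) := by
  obtain ⟨hu, e⟩ := tv_tM (J := J) (ε := 1) (Pm.h01 (k := k)).symm (c * J.η⁻¹)
  rw [mul_inv_eq_iff_eq_mul, e, mxs, xM, π_comm_x Q.hκ]
  congr 1
  refine uM_congr _ _ ?_ rfl
  have hcol : col (Pi.single (0 : Fin (k + 1)) (1 : F)) *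
      st J.σ (col ((Pm.w10 * Pm.dl c : SpecialLinearGroup (Fin (k + 1)) F).1 *ᵥ Pi.single 0 1)) =
        Matrix.single 0 1 (J.σ c) := by
    rw [w10_dl_mulVec hc]
    ext i j
    rw [col_mul_st, Matrix.single_apply]
    by_cases hi : i = 0 <;> by_cases hj : j = 1 <;> simp [hi, hj, Ne.symm]
  have hne := J.η_ne
  rw [hcol, st_single, J.inv2, map_mul, map_inv₀, J.η_skew]
  ext i j
  simp only [Matrix.sub_apply, Matrix.add_apply, Matrix.single_apply]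
  split_ifs <;> field_simp <;> ring

theorem mo_t_h1 : Commute (tM J 1 0) (slM J (k + 1) 1 Pm.w01 * Q.hw (slM J (k + 1) 1) (xM Q k) (tM J 1 0) *
    (slM J (k + 1) 1 Pm.w01)⁻¹) := by
  obtain ⟨L, μ, hL, eL, e⟩ := mhw (k := k) Q
  obtain ⟨h1, e1⟩ := lM_mul hL (levOK_sl (J := J) (ε := 1) (Pm.dl (F := F) (k := k) Q.ζ⁻¹))
  rw [m_hσ Q, e]
  show Commute (tM J 1 0) (lM hL * lM (levOK_sl _))
  rw [e1]
  obtain ⟨g, hg⟩ : ∃ g : Fin (k + 1) → F,
      g = fun i => (if i = 0 then Q.ζ else 1) * if i = 0 then Q.ζ⁻¹ else if i = 1 then Q.ζ else 1 := ⟨_, rfl⟩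
  have hg0 : g 0 = 1 := by rw [hg]; simp [Q.ζ_ne]
  have hgne : ∀ i, g i ≠ 0 := fun i => by rw [hg]; have := Q.ζ_ne; dsimp only; split_ifs <;> simp [this]
  have ec : (L * SpecialLinearGroup.toGL (Pm.dl (k := k) Q.ζ⁻¹)).1 = diagonal g := by
    rw [Units.val_mul, eL, hg]
    show d0 Q.ζ * (Pm.dl Q.ζ⁻¹).1 = _
    rw [Pm.dl_coe (inv_ne_zero Q.ζ_ne), d0, Matrix.diagonal_mul_diagonal]
    congr 1; funext i; rw [inv_inv]
  have ei : ((L * SpecialLinearGroup.toGL (Pm.dl (k := k) Q.ζ⁻¹))⁻¹).1 = diagonal fun i => (g i)⁻¹ := by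
    calc _ = ((L * SpecialLinearGroup.toGL (Pm.dl (k := k) Q.ζ⁻¹))⁻¹).1 *
          ((L * SpecialLinearGroup.toGL (Pm.dl (k := k) Q.ζ⁻¹)).1 * diagonal fun i => (g i)⁻¹) := by
          rw [ec, Matrix.diagonal_mul_diagonal, show (fun i => g i * (g i)⁻¹) = fun _ => (1 : F) from
            funext fun i => mul_inv_cancel₀ (hgne i), Matrix.diagonal_one, Matrix.mul_one]
      _ = _ := by rw [← Matrix.mul_assoc, ← Units.val_mul, inv_mul_cancel, Units.val_one, Matrix.one_mul]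
  have hd : ∀ f : Fin (k + 1) → F, f 0 = 1 → diagonal f * eu (0 : Fin (k + 1)) = eu 0 ∧
      eu (0 : Fin (k + 1)) * diagonal f = eu 0 := fun f hf => by
    constructor <;> ext a b <;> simp [Matrix.diagonal_mul, Matrix.mul_diagonal, Matrix.single_apply] <;>
      split_ifs with h' <;> first | rfl | (obtain ⟨rfl, rfl⟩ := h'; exact hf)
  have hs : st J.σ (diagonal fun i => (g i)⁻¹) = diagonal fun i => J.σ (g i)⁻¹ := by
    rw [st, Matrix.diagonal_map (map_zero _), Matrix.diagonal_transpose]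
  refine (lM_tM h1 0 0 ?_ ?_ ?_).symm
  · rw [ec, (hd g hg0).1, (hd g hg0).2]
  · rw [ei, hs, (hd _ (by simp [hg0])).1, (hd _ (by simp [hg0])).2]
  · rw [ec, ei, hs, (hd g hg0).1, (hd _ (by simp [hg0])).2]

theorem mo_tdl : ∃ e : ℕ, Q.ζ ^ e = (J.σ Q.ζ)⁻¹ ∧
    tM J 1 0 * Q.hw (slM J (k + 1) 1) (xM Q k) (tM J 1 0) * (tM J 1 0)⁻¹ =
      Q.hw (slM J (k + 1) 1) (xM Q k) (tM J 1 0) ^ e ∧
    tM J 1 0 * slM J (k + 1) 1 (Pm.dl Q.ζ⁻¹) * (tM J 1 0)⁻¹ =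
      (Q.hw (slM J (k + 1) 1) (xM Q k) (tM J 1 0) ^ e)⁻¹ *
        (slM J (k + 1) 1 Pm.w01 * Q.hw (slM J (k + 1) 1) (xM Q k) (tM J 1 0) * (slM J (k + 1) 1 Pm.w01)⁻¹) := by
  obtain ⟨e, he, ht⟩ := m_tht' (k := k) Q
  refine ⟨e, he, ht, ?_⟩
  have hσ := m_hσ (k := k) Q
  have h1 := mo_t_h1 (k := k) Q
  set h := Q.hw (slM J (k + 1) 1) (xM Q k) (tM J 1 0)
  set h₁ := slM J (k + 1) 1 Pm.w01 * h * (slM J (k + 1) 1 Pm.w01)⁻¹
  rw [eq_inv_mul_iff_mul_eq.2 hσ.symm, show tM J 1 0 * (h⁻¹ * h₁) * (tM J 1 0)⁻¹ =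
    (tM J 1 0 * h * (tM J 1 0)⁻¹)⁻¹ * (tM J 1 0 * h₁ * (tM J 1 0)⁻¹) by group, ht, h1.eq, mul_inv_cancel_right]

theorem mo_ord : Q.hw (slM J (k + 1) 1) (xM Q k) (tM J 1 0) ^ orderOf Q.ζ = 1 := by
  obtain ⟨C, μ, hC, eC, e⟩ := mhw_pow (k := k) Q (orderOf Q.ζ)
  rw [e]
  refine (lM_congr le_rfl hC (levOK_sl 1) ?_).trans (map_one (slM J (k + 1) 1))
  rw [eC, pow_orderOf_eq_one, map_one, Units.val_one]
  simp [d0]

end Model

section Rels

variable (Q : Pm J) (u : Fin 3 → SpecialLinearGroup (Fin (1 + 1)) F) (N e : ℕ) {G : Type*} [Group G]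

/-- The twenty-four relations. -/
noncomputable def o2Rels (A : SpecialLinearGroup (Fin (1 + 1)) F → G) (x t : G) : List (G × G) :=
  [(A (tv (Pm.h01 (k := 1)) 1) * x, x * A (tv (Pm.h01 (k := 1)) 1)),
    (A (tv (Pm.h01 (k := 1)) Q.ζ) * x, x * A (tv (Pm.h01 (k := 1)) Q.ζ)),
    (x * Pm.xs A x (Pm.w10 * Pm.dl (Q.ζ ^ 0)), Pm.xs A x (tv (Pm.h01 (k := 1)).symm (Q.ζ ^ 0)) *
      ⁅Pm.xa A x (-J.σ Q.κ), Pm.xs A x (Pm.w10 * Pm.dl (Q.ζ ^ 0))⁆),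
    (x * Pm.xs A x (Pm.w10 * Pm.dl (Q.ζ ^ 1)), Pm.xs A x (tv (Pm.h01 (k := 1)).symm (Q.ζ ^ 1)) *
      ⁅Pm.xa A x (-J.σ Q.κ), Pm.xs A x (Pm.w10 * Pm.dl (Q.ζ ^ 1))⁆),
    (x * Pm.xs A x (Pm.w10 * Pm.dl (Q.ζ ^ 2)), Pm.xs A x (tv (Pm.h01 (k := 1)).symm (Q.ζ ^ 2)) *
      ⁅Pm.xa A x (-J.σ Q.κ), Pm.xs A x (Pm.w10 * Pm.dl (Q.ζ ^ 2))⁆),
    (x * Pm.xs A x (Pm.w10 * Pm.dl (Q.ζ ^ 3)), Pm.xs A x (tv (Pm.h01 (k := 1)).symm (Q.ζ ^ 3)) *
      ⁅Pm.xa A x (-J.σ Q.κ), Pm.xs A x (Pm.w10 * Pm.dl (Q.ζ ^ 3))⁆),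
    (x * Pm.xs A x (Pm.w10 * Pm.dl (Q.ζ ^ 4)), Pm.xs A x (tv (Pm.h01 (k := 1)).symm (Q.ζ ^ 4)) *
      ⁅Pm.xa A x (-J.σ Q.κ), Pm.xs A x (Pm.w10 * Pm.dl (Q.ζ ^ 4))⁆),
    (t * ⁅x, Pm.xs A x (Pm.w10 * Pm.dl (Q.ζ ^ 0))⁆ * t⁻¹, A (tv (Pm.h01 (k := 1)).symm (Q.ζ ^ 0 * J.η⁻¹))),
    (t * ⁅x, Pm.xs A x (Pm.w10 * Pm.dl (Q.ζ ^ 1))⁆ * t⁻¹, A (tv (Pm.h01 (k := 1)).symm (Q.ζ ^ 1 * J.η⁻¹))),
    (t * ⁅x, Pm.xs A x (Pm.w10 * Pm.dl (Q.ζ ^ 2))⁆ * t⁻¹, A (tv (Pm.h01 (k := 1)).symm (Q.ζ ^ 2 * J.η⁻¹))),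
    (t * ⁅x, Pm.xs A x (Pm.w10 * Pm.dl (Q.ζ ^ 3))⁆ * t⁻¹, A (tv (Pm.h01 (k := 1)).symm (Q.ζ ^ 3 * J.η⁻¹))),
    (t * ⁅x, Pm.xs A x (Pm.w10 * Pm.dl (Q.ζ ^ 4))⁆ * t⁻¹, A (tv (Pm.h01 (k := 1)).symm (Q.ζ ^ 4 * J.η⁻¹))),
    (t * t, Q.hw A x t ^ N),
    (t * Q.zw A x J.η * t⁻¹, Q.zw A x (-J.η) * t * Q.zw A x (-J.η)),
    (A Pm.w01 * Q.hw A x t * (A Pm.w01)⁻¹, Q.hw A x t * A (Pm.dl Q.ζ⁻¹)),
    (t * Q.hw A x t * t⁻¹, Q.hw A x t ^ e),
    (t * A (Pm.dl Q.ζ⁻¹) * t⁻¹, (Q.hw A x t ^ e)⁻¹ * (A Pm.w01 * Q.hw A x t * (A Pm.w01)⁻¹)),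
    (t * (A Pm.w01 * t * (A Pm.w01)⁻¹), A Pm.w01 * t * (A Pm.w01)⁻¹ * t),
    (t * Pm.xs A x Pm.w10, Pm.xs A x Pm.w10 * t),
    (Q.hw A x t * x * (Q.hw A x t)⁻¹, Pm.xa A x (Q.nu * Q.ζ)),
    (Q.hw A x t * A (u 0) * (Q.hw A x t)⁻¹, A (cj Q.ζ Q.ζ_ne (u 0))),
    (Q.hw A x t * A (u 1) * (Q.hw A x t)⁻¹, A (cj Q.ζ Q.ζ_ne (u 1))),
    (Q.hw A x t * A (u 2) * (Q.hw A x t)⁻¹, A (cj Q.ζ Q.ζ_ne (u 2))),
    (Q.hw A x t ^ orderOf Q.ζ, 1)]

theorem o2Rels_map {H : Type*} [Group H] (f : G →* H) (A : SpecialLinearGroup (Fin (1 + 1)) F → G) (x t : G) :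
    o2Rels Q u N e (fun C => f (A C)) (f x) (f t) = (o2Rels Q u N e A x t).map fun p => (f p.1, f p.2) := by
  have hxs : ∀ C, Pm.xs (fun C => f (A C)) (f x) C = f (Pm.xs A x C) := fun C => by simp [Pm.xs]
  have hxa : ∀ c, Pm.xa (k := 1) (fun C => f (A C)) (f x) c = f (Pm.xa A x c) := fun c => by
    rw [Pm.xa, Pm.xa]; split_ifs <;> simp [hxs]
  simp only [o2Rels, List.map, hxs, hxa, Pm.hw, Pm.uw, Pm.zw, map_mul, map_inv, map_pow, map_one,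
    map_commutatorElement]

/-- The relations and the images of the generators give the hypotheses. -/
theorem Odd.of_two [Finite F] (hu : Subgroup.closure (Set.range u) = ⊤) (he : Q.ζ ^ e = (J.σ Q.ζ)⁻¹)
    {π : G →* Mg J (1 + 1) 1} (A : SpecialLinearGroup (Fin (1 + 1)) F →* G)
    (hA : ∀ C, π (A C) = slM J (1 + 1) 1 C) (x : G) (hx : π x = xM Q 1) (t : G) (ht : π t = tM J 1 0)
    (gen : Subgroup.closure (Set.range A ∪ {x, t}) = ⊤) (rel : ∀ p ∈ o2Rels Q u N e A x t, p.1 = p.2) :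
    Nonempty (Odd J 1 π Q) := by
  simp only [o2Rels, List.forall_mem_cons, List.not_mem_nil, IsEmpty.forall_iff, implies_true, and_true] at rel
  obtain ⟨c1, cζ, a0, a1, a2, a3, a4, p0, p1, p2, p3, p4, sq, zcell, hσ, tht, tdl, tt1, tX1, hhx, n0, n1, n2,
    hord⟩ := rel
  set h := Q.hw A x t with hh
  have hζ := Q.ζ_ne
  have hsζ : J.σ Q.ζ ≠ 0 := by simpa using hζ
  have hnu : Q.nu ≠ 0 := div_ne_zero hζ hsζ
  have hK : Q.nu * Q.ζ ≠ 0 := mul_ne_zero hnu hζ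
  have hact : ∀ C, h * A C * h⁻¹ = A (cj Q.ζ hζ C) := by
    have e : (MulAut.conj h).toMonoidHom.comp A = A.comp (cj Q.ζ hζ) :=
      MonoidHom.eq_of_eqOn_dense hu (by
        rintro _ ⟨i, rfl⟩
        fin_cases i
        · exact n0
        · exact n1
        · exact n2)
    exact fun C => DFunLike.congr_fun e C
  have hNA : h ∈ Subgroup.normalizer (A.range : Set G) := by
    refine Subgroup.mem_normalizer_iff.2 fun y => ⟨?_, fun hy => ?_⟩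
    · rintro ⟨C, rfl⟩; exact ⟨_, (hact C).symm⟩
    · obtain ⟨C, hC⟩ := hy
      refine ⟨cj Q.ζ⁻¹ (inv_ne_zero hζ) C, ?_⟩
      have := hact (cj Q.ζ⁻¹ (inv_ne_zero hζ) C)
      rw [cj_cj, hC] at this
      exact mul_left_cancel (mul_right_cancel this)
  -- the stabiliser of the first vector fixes the root element
  set d : SpecialLinearGroup (Fin (1 + 1)) F := Pm.dl (Q.nu * Q.ζ)⁻¹ with hd
  have hdh : h * A d * h⁻¹ = A d := by
    rw [hact]; congr 1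
    refine Subtype.ext ?_
    rw [cj_coe, hd, Pm.dl_coe (inv_ne_zero hK), d0, d0, Matrix.diagonal_mul_diagonal, Matrix.diagonal_mul_diagonal]
    congr 1
    funext a
    split_ifs <;> field_simp
  have hz : Commute (h * A d) x := by
    refine mul_inv_eq_iff_eq_mul.1 ?_
    have hdd : A d * A (Pm.dl (Q.nu * Q.ζ)) = 1 := by
      rw [← map_mul, show d * Pm.dl (Q.nu * Q.ζ) = 1 from Subtype.ext (by
        rw [hd, Matrix.SpecialLinearGroup.coe_mul, Pm.dl_coe (inv_ne_zero hK), Pm.dl_coe hK,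
          Matrix.diagonal_mul_diagonal, Matrix.SpecialLinearGroup.coe_one, ← Matrix.diagonal_one]
        congr 1
        funext a
        split_ifs <;> field_simp), map_one]
    have hxaK : Pm.xa A x (Q.nu * Q.ζ) = A (Pm.dl (Q.nu * Q.ζ)) * x * (A (Pm.dl (Q.nu * Q.ζ)))⁻¹ := by
      rw [Pm.xa]
      split_ifs with h'
      · exact absurd h' hK
      · rfl
    rw [hxaK] at hhx
    calc h * A d * x * (h * A d)⁻¹ = h * A d * h⁻¹ * (h * x * h⁻¹) * (h * A d * h⁻¹)⁻¹ := by group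
      _ = (A d * A (Pm.dl (Q.nu * Q.ζ))) * x * (A d * A (Pm.dl (Q.nu * Q.ζ)))⁻¹ := by rw [hdh, hhx]; group
      _ = x := by rw [hdd]; group
  have hzt : ∀ c, h * A d * A (tv (Pm.h01 (k := 1)) c) * (h * A d)⁻¹ = A (tv Pm.h01 (Q.scale⁻¹ * c)) := fun c => by
    rw [show h * A d * A (tv (Pm.h01 (k := 1)) c) * (h * A d)⁻¹ =
      h * (A d * A (tv Pm.h01 c) * (A d)⁻¹) * h⁻¹ by group, ← map_inv A, ← map_mul, ← map_mul, hd,
      dl_tv (inv_ne_zero hK), hact, cj_tv hζ]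
    congr 2
    rw [Pm.scale]
    field_simp
  have hfix : ∀ C : SpecialLinearGroup (Fin (1 + 1)) F, C.1 *ᵥ Pi.single 0 1 = Pi.single 0 1 → Commute (A C) x := by
    intro C hC
    rw [two_shear C hC]
    have hadd : ∀ a b, Commute (A (tv (Pm.h01 (k := 1)) a)) x → Commute (A (tv (Pm.h01 (k := 1)) b)) x →
        Commute (A (tv (Pm.h01 (k := 1)) (a + b))) x := fun a b ha hb => by
      rw [show tv (Pm.h01 (k := 1)) (a + b) = tv Pm.h01 a * tv Pm.h01 b from Subtype.ext (by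
        rw [Matrix.SpecialLinearGroup.coe_mul, tv_coe, tv_coe, tv_coe, Matrix.single_add]
        simp [Matrix.add_mul, Matrix.mul_add, Matrix.single_mul_single_of_ne _ _ _ _ Pm.h01.symm]
        abel), map_mul]
      exact ha.mul_left hb
    have hdn : ∀ (n : ℕ) a, Commute (A (tv (Pm.h01 (k := 1)) a)) x →
        Commute (A (tv (Pm.h01 (k := 1)) ((Q.scale⁻¹) ^ n * a))) x := by
      intro n a ha
      induction n with
      | zero => simpa using ha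
      | succ n ih =>
        have h2 := (hz.mul_left ih).mul_left hz.inv_left
        rwa [hzt, ← mul_assoc, ← pow_succ'] at h2
    obtain ⟨n, hn⟩ := Q.gen (J.σ Q.ζ) hsζ
    have hM : Q.scale ^ (1 + n) = Q.n0 := by
      obtain ⟨m, hm⟩ := Q.gen Q.scale (mul_ne_zero (mul_ne_zero hnu hnu) hζ)
      have e1 : Q.scale ^ n = J.σ Q.scale := by
        rw [← hm, ← pow_mul, Nat.mul_comm, pow_mul, hn, map_pow]
      rw [pow_add, pow_one, e1, Pm.scale, Pm.nu, Pm.n0, map_mul, map_mul, map_div₀, J.inv2]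
      field_simp
    have hscal : ∀ a p : F, J.σ p = p → Commute (A (tv (Pm.h01 (k := 1)) a)) x →
        Commute (A (tv (Pm.h01 (k := 1)) (p * a))) x := by
      intro a p hp ha
      rcases eq_or_ne p 0 with rfl | hp0
      · rw [zero_mul, show tv (Pm.h01 (k := 1)) (0 : F) = 1 from Subtype.ext (by rw [tv_coe]; simp), map_one]
        exact Commute.one_left _
      · obtain ⟨i, hi⟩ := Q.n0_gen (inv_ne_zero hp0) (by rw [map_inv₀, hp])
        have := hdn ((1 + n) * i) a ha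
        rwa [inv_pow, pow_mul, hM, hi, inv_inv] at this
    have hne : Q.ζ - J.σ Q.ζ ≠ 0 := by
      intro e
      have hid : ∀ a : F, J.σ a = a := fun a => by
        rcases eq_or_ne a 0 with rfl | ha
        · exact map_zero _
        · obtain ⟨i, rfl⟩ := Q.gen a ha
          rw [map_pow, ← sub_eq_zero.1 e]
      have h1 := Q.hκ
      have h2 := J.η_skew
      rw [hid] at h1 h2
      have h3 : J.η = 0 := by linear_combination J.η * h1 - Q.κ * h2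
      exact J.η_ne h3
    obtain ⟨c, hc⟩ : ∃ c, c = C.1 0 1 := ⟨_, rfl⟩
    obtain ⟨r, hr⟩ : ∃ r, r = (c - J.σ c) / (Q.ζ - J.σ Q.ζ) := ⟨_, rfl⟩
    have hrc : r * (Q.ζ - J.σ Q.ζ) = c - J.σ c := by rw [hr]; field_simp
    have hsr : J.σ r = r := by
      have h1 := congrArg J.σ hrc
      rw [map_mul, map_sub, map_sub, J.inv2, J.inv2] at h1
      exact mul_right_cancel₀ hne (by linear_combination -h1 - hrc)
    have hp : J.σ (c - r * Q.ζ) = c - r * Q.ζ := by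
      rw [map_sub, map_mul, hsr]; linear_combination hrc
    rw [← hc, show c = (c - r * Q.ζ) * 1 + r * Q.ζ by ring]
    exact hadd _ _ (hscal _ _ hp c1) (hscal _ _ hsr cζ)
  have hS1 : ∀ S : SpecialLinearGroup (Fin 1) F, S = 1 := fun S => Subtype.ext (by
    have hd : S.1.det = 1 := S.2
    rw [Matrix.det_fin_one] at hd
    ext i j
    rw [Fin.fin_one_eq_zero i, Fin.fin_one_eq_zero j, hd]; simp)
  have hdl1 : (Pm.w10 * Pm.dl (Q.ζ ^ 0) : SpecialLinearGroup (Fin (1 + 1)) F) = Pm.w10 := by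
    rw [pow_zero, show (Pm.dl (1 : F) : SpecialLinearGroup (Fin (1 + 1)) F) = 1 from Subtype.ext (by
      rw [Pm.dl_coe one_ne_zero, Matrix.SpecialLinearGroup.coe_one, ← Matrix.diagonal_one]
      congr 1
      funext a
      split_ifs <;> simp), mul_one]
  exact ⟨
    { A := A
      πA := hA
      x := x
      πx := hx
      t := t
      πt := ht
      gen := gen
      kind := Or.inr
        { one := rfl
          hNA := hNA
          hx := hhx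
          tdl := ⟨e, he, tdl⟩
          hadd5 := fun j hj => by interval_cases j <;> assumption
          hW5 := fun j hj => by
            interval_cases j
            · exact ⟨_, p0.symm⟩
            · exact ⟨_, p1.symm⟩
            · exact ⟨_, p2.symm⟩
            · exact ⟨_, p3.symm⟩
            · exact ⟨_, p4.symm⟩ }
      red := Or.inr fun i hi => by
        obtain ⟨l, rfl⟩ := orderOf_dvd_of_pow_eq_one hi
        rw [pow_mul, hord, one_pow]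
      fix := hfix
      tS := fun S => by rw [hS1 S, map_one, map_one]; exact Commute.one_left _
      hW := by
        rw [hdl1, pow_zero, one_mul] at p0
        exact (mul_inv_eq_iff_eq_mul.1 p0).symm
      hadd := by
        rw [hdl1, pow_zero] at a0
        exact a0
      sq := ⟨N, sq⟩
      zcell := zcell
      hσ := hσ
      tht := ⟨e, tht⟩
      tt1 := tt1
      tX1 := tX1 }⟩

end Rels

/-- The relations hold in the model for suitable integers. -/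
theorem exists_code_two_odd [Finite F] (Q : Pm J) (u : Fin 3 → SpecialLinearGroup (Fin (1 + 1)) F) :
    ∃ N e : ℕ, Q.ζ ^ e = (J.σ Q.ζ)⁻¹ ∧
      ∀ p ∈ o2Rels Q u N e (slM J (1 + 1) 1) (xM Q 1) (tM J 1 0), p.1 = p.2 := by
  obtain ⟨N, hN⟩ := m_sq (k := 1) Q
  obtain ⟨e, he, ht, hdl⟩ := mo_tdl (k := 1) Q
  refine ⟨N, e, he, ?_⟩
  have hζ := Q.ζ_ne
  simp only [o2Rels, List.forall_mem_cons, List.not_mem_nil, IsEmpty.forall_iff, implies_true, and_true]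
  refine ⟨(m_fix Q _ ?_).eq, (m_fix Q _ ?_).eq, mo_hadd Q (pow_ne_zero _ hζ), mo_hadd Q (pow_ne_zero _ hζ),
    mo_hadd Q (pow_ne_zero _ hζ), mo_hadd Q (pow_ne_zero _ hζ), mo_hadd Q (pow_ne_zero _ hζ),
    mo_W Q (pow_ne_zero _ hζ), mo_W Q (pow_ne_zero _ hζ), mo_W Q (pow_ne_zero _ hζ), mo_W Q (pow_ne_zero _ hζ),
    mo_W Q (pow_ne_zero _ hζ), hN, m_zcell Q, m_hσ Q, ht, hdl, m_tt1.eq, (m_tX1 Q).eq, mo_hx Q,
    mo_h_A Q _, mo_h_A Q _, mo_h_A Q _, mo_ord Q⟩ <;>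
    exact funext fun a => by rw [tv_mul_apply, Pi.single_eq_of_ne Pm.h01.symm]; simp

theorem o2Rels_lift (Q : Pm J) (u : Fin 3 → SpecialLinearGroup (Fin (1 + 1)) F) (N e : ℕ) {G : Type*} [Group G]
    (A : SpecialLinearGroup (Fin (1 + 1)) F → G) (b : Fin 2 → G) :
    (∀ p ∈ o2Rels Q u N e (fun C => FreeGroup.of (Sum.inl C)) (FreeGroup.of (Sum.inr (0 : Fin 2)))
          (FreeGroup.of (Sum.inr (1 : Fin 2))),
        FreeGroup.lift (Sum.elim A b) p.1 = FreeGroup.lift (Sum.elim A b) p.2) ↔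
      ∀ p ∈ o2Rels Q u N e A (b 0) (b 1), p.1 = p.2 := by
  have h := o2Rels_map Q u N e (FreeGroup.lift (Sum.elim A b)) (fun C => FreeGroup.of (Sum.inl C))
    (FreeGroup.of (Sum.inr (0 : Fin 2))) (FreeGroup.of (Sum.inr (1 : Fin 2)))
  simp only [FreeGroup.lift_apply_of, Sum.elim_inl, Sum.elim_inr] at h
  rw [h, List.forall_mem_map]

/-- Twenty-four relations more than the special linear group present the model. -/
theorem bddOn_two_odd [Finite F] (Q : Pm J) {r : ℕ} {u : Fin 3 → SpecialLinearGroup (Fin (1 + 1)) F}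
    (hu : BddOn u r) :
    BddOn (Fin.append (fun i => slM J (1 + 1) 1 (u i)) ![xM Q 1, tM J 1 0]) (r + 24) := by
  haveI := Fintype.ofFinite F
  obtain ⟨N, e, he, hP⟩ := exists_code_two_odd Q u
  set W := Subgroup.closure (Set.range (slM J (1 + 1) 1) ∪ {xM Q 1, tM J 1 0}) with hW
  have hs' : ∀ C, slM J (1 + 1) 1 C ∈ W := fun C => Subgroup.subset_closure (Or.inl ⟨C, rfl⟩)
  have hx : xM Q 1 ∈ W := Subgroup.subset_closure (Or.inr (Or.inl rfl))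
  have ht : tM J 1 0 ∈ W := Subgroup.subset_closure (Or.inr (Or.inr rfl))
  have htop : W = ⊤ := by
    let A : SpecialLinearGroup (Fin (1 + 1)) F →* W := (slM J (1 + 1) 1).codRestrict W hs'
    have gen : Subgroup.closure (Set.range A ∪ {⟨xM Q 1, hx⟩, ⟨tM J 1 0, ht⟩}) = ⊤ := by
      refine Subgroup.map_injective W.subtype_injective ?_
      rw [MonoidHom.map_closure, ← MonoidHom.range_eq_map, Subgroup.range_subtype, Set.image_union, Set.image_pair,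
        ← Set.range_comp]
      exact hW.symm
    have rel : ∀ p ∈ o2Rels Q u N e A (⟨xM Q 1, hx⟩ : W) ⟨tM J 1 0, ht⟩, p.1 = p.2 := fun p hp => by
      refine W.subtype_injective (hP (W.subtype p.1, W.subtype p.2) ?_)
      show _ ∈ o2Rels Q u N e (fun C => W.subtype (A C)) (W.subtype ⟨xM Q 1, hx⟩) (W.subtype ⟨tM J 1 0, ht⟩)
      rw [o2Rels_map]
      exact List.mem_map.2 ⟨p, hp, rfl⟩
    obtain ⟨D⟩ := Odd.of_two Q u N e hu.closure he (π := W.subtype) A (fun _ => rfl) _ rfl _ rfl gen rel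
    refine gen_top (by omega) le_rfl W (fun H X h => ?_) (fun C μ h => ?_) ht
    · obtain ⟨p, -, e⟩ := D.par.surj_P _ (kf_uM h)
      exact e ▸ p.2
    · obtain ⟨p, -, e⟩ := D.par.surj_P _ (kf_lM h)
      exact e ▸ p.2
  have hgen' : Subgroup.closure (Set.range (slM J (1 + 1) 1) ∪ Set.range ![xM Q 1, tM J 1 0]) = ⊤ := by
    rw [Matrix.range_cons_cons_empty]; exact htop
  let A₀ : SpecialLinearGroup (Fin (1 + 1)) F → FreeGroup (SpecialLinearGroup (Fin (1 + 1)) F ⊕ Fin 2) :=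
    fun C => FreeGroup.of (Sum.inl C)
  have h := hu.extend (slM J (1 + 1) 1) ![xM Q 1, tM J 1 0] hgen'
    (o2Rels Q u N e A₀ (FreeGroup.of (Sum.inr 0)) (FreeGroup.of (Sum.inr 1))) ?_ ?_
  · exact h
  · exact (o2Rels_lift Q u N e _ _).2 (by simpa using hP)
  · intro G _ A b φ hgA hφA hφb hr
    have hgb : Subgroup.closure (Set.range A ∪ {b 0, b 1}) = ⊤ := by
      rw [eq_top_iff, ← hgA]
      refine Subgroup.closure_mono (Set.union_subset_union_right _ ?_)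
      rintro _ ⟨i, rfl⟩
      fin_cases i <;> simp
    obtain ⟨D⟩ := Odd.of_two Q u N e hu.closure he A (fun C => DFunLike.congr_fun hφA C) (b 0) (hφb 0) (b 1) (hφb 1)
      hgb ((o2Rels_lift Q u N e A b).1 hr)
    exact D.injective

end Cfsg.Lib.Linear.ShortPres.SUN
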