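import Cfsg.Agent.Lib.Linear.ShortPres.SUN.Mdl
import Cfsg.Agent.Lib.Linear.ShortPres.SUN.Mdl2

/-!
# Words for the odd dimensional unitary groups
-/

set_option autoImplicit false
set_option linter.unusedSectionVars false

namespace Cfsg.Lib.Linear.ShortPres.SUN

open Matrix Cfsg.Lib.Linear.SUDegree Cfsg.Lib.Linear.Herm
open scoped commutatorElement

variable {F : Type*} [Field F] {J : Conj F}

/-- Field parameters. -/
structure Pm (J : Conj F) where
  ζ : F
  ζ_ne : ζ ≠ 0
  gen : ∀ a : F, a ≠ 0 → ∃ i : ℕ, ζ ^ i = a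
  norm : ∀ a : F, J.σ a = a → ∃ b, J.σ b * b = a
  κ : F
  hκ : κ + J.σ κ + 1 = 0
  v0 : F
  v0_ne : v0 ≠ 0
  hc0 : κ * (v0 * J.σ v0) = J.η / J.σ ζ

/-- The parameters exist. -/
theorem Pm.exists (hgen : ∃ ζ : F, ζ ≠ 0 ∧ ∀ a : F, a ≠ 0 → ∃ i : ℕ, ζ ^ i = a)
    (hN : ∀ a : F, J.σ a = a → ∃ b, J.σ b * b = a) (hσ : J.σ ≠ RingHom.id F) : Nonempty (Pm J) := by
  obtain ⟨ζ, hζ, hg⟩ := hgen
  have hsζ : J.σ ζ ≠ 0 := by simpa using hζ
  obtain ⟨c, hc⟩ : ∃ c, c = J.η / J.σ ζ := ⟨_, rfl⟩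
  have hsc : J.σ c = -J.η / ζ := by rw [hc, map_div₀, J.η_skew, J.inv2]
  have hs : c + J.σ c ≠ 0 := by
    intro h
    rw [hsc, hc, div_add_div _ _ hsζ hζ, div_eq_zero_iff] at h
    have h' := h.resolve_right (mul_ne_zero hsζ hζ)
    have e : J.σ ζ = ζ := by
      have : J.η * (ζ - J.σ ζ) = 0 := by linear_combination h'
      exact (sub_eq_zero.1 ((mul_eq_zero.1 this).resolve_left J.η_ne)).symm
    refine hσ (RingHom.ext fun a => ?_)
    rcases eq_or_ne a 0 with rfl | ha
    · simp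
    · obtain ⟨i, rfl⟩ := hg a ha
      simp [map_pow, e]
  obtain ⟨b, hb⟩ := hN (-(c + J.σ c)) (by rw [map_neg, map_add, J.inv2, add_comm])
  have hb0 : b ≠ 0 := fun e => hs (by rw [e, mul_zero] at hb; exact neg_eq_zero.1 hb.symm)
  refine ⟨⟨ζ, hζ, hg, hN, c / -(c + J.σ c), ?_, b, hb0, ?_⟩⟩
  · rw [map_div₀, map_neg, map_add, J.inv2, add_comm (J.σ c) c, ← add_div, div_add_one (neg_ne_zero.2 hs),
      add_neg_cancel, zero_div]
  · rw [mul_comm b, hb, div_mul_cancel₀ _ (neg_ne_zero.2 hs), hc]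

namespace Pm

variable (Q : Pm J) {k : ℕ}

/-- The first two indices differ. -/
theorem h01 [NeZero k] : (0 : Fin (k + 1)) ≠ 1 := by
  intro e; simp at e

/-- The diagonal element at the first two indices. -/
noncomputable def dl [NeZero k] (c : F) : SpecialLinearGroup (Fin (k + 1)) F := open Classical in
  if hc : c = 0 then 1 else SpecialLinearGroup.diag2n (h01 (k := k)) c hc

/-- The exchange. -/
def w01 [NeZero k] : SpecialLinearGroup (Fin (k + 1)) F := wj (h01 (k := k))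

/-- The opposite exchange. -/
def w10 [NeZero k] : SpecialLinearGroup (Fin (k + 1)) F := wj (h01 (k := k)).symm

variable {G : Type*} [Group G] [NeZero k] (A : SpecialLinearGroup (Fin (k + 1)) F → G) (x t : G)

/-- A conjugate of the root element. -/
def xs (C : SpecialLinearGroup (Fin (k + 1)) F) : G := A C * x * (A C)⁻¹

/-- The root element with a given coefficient at the first index. -/
noncomputable def xa (c : F) : G := open Classical in if c = 0 then 1 else xs A x (dl (k := k) c)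

/-- The central root element. -/
noncomputable def zw (d : F) : G := ⁅xa A x (Q.κ * d), x⁆

/-- An element at the first index. -/
noncomputable def uw (c v : F) : G := xa A x v * Q.zw A x (c - Q.κ * (v * J.σ v))

/-- The value of the distinguished coefficient. -/
def c0 : F := J.η / J.σ Q.ζ

/-- The torus element. -/
noncomputable def hw : G :=
  (Q.uw A x (-J.η ^ 2 / Q.c0) (J.η * Q.v0 / J.σ Q.c0))⁻¹ * (t * xa A x Q.v0 * t⁻¹) *
    (Q.uw A x (-J.η ^ 2 / Q.c0) (J.η * Q.v0 / Q.c0))⁻¹ * t⁻¹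

theorem dl_coe {c : F} (hc : c ≠ 0) :
    (dl (k := k) c).1 = Matrix.diagonal fun i => if i = 0 then c else if i = 1 then c⁻¹ else 1 := by
  rw [dl, dif_neg hc, SpecialLinearGroup.diag2n_coe]

theorem dl_mulVec {c : F} (hc : c ≠ 0) :
    (dl (k := k) c).1 *ᵥ Pi.single 0 1 = Pi.single (0 : Fin (k + 1)) c := by
  funext a
  rw [dl_coe hc, Matrix.mulVec_diagonal]
  rcases eq_or_ne a 0 with rfl | ha
  · simp
  · simp [ha]

theorem w10_mulVec : (w10 (F := F) (k := k)).1 *ᵥ Pi.single 0 1 = Pi.single (1 : Fin (k + 1)) 1 := by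
  funext a
  rw [Matrix.mulVec_single_one, Matrix.col_apply, w10, wj_coe]
  rcases eq_or_ne a 0 with rfl | ha
  · simp [Matrix.single_apply, h01, h01.symm]
  · rcases eq_or_ne a 1 with rfl | ha1
    · simp [Matrix.single_apply, h01, h01.symm]
    · simp [Matrix.single_apply, Matrix.one_apply, ha, Ne.symm ha, Ne.symm ha1, ha1]

end Pm

end Cfsg.Lib.Linear.ShortPres.SUN
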