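import Cfsg.Agent.Lib.Linear.ShortPres.SUN.OddSix
import Cfsg.Agent.Lib.Linear.ShortPres.SUN.EvenSix
import Cfsg.Agent.Lib.Linear.ShortPres.SUN.OddTwo
import Cfsg.Agent.S2286

/-!
# Special unitary groups of dimension at least four on six generators
-/

set_option autoImplicit false

universe u

namespace Cfsg.Lib.Linear.ShortPres.SUN

variable {F : Type u} [Field F] [Fintype F] {q : ℕ}

theorem exists_slTwo : ∃ v : Fin 3 → Matrix.SpecialLinearGroup (Fin (1 + 1)) F, BddOn v 9 := by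
  obtain ⟨h, -, -⟩ := Cfsg.Agent.S2286.result (F := F)
  exact BddG.exists_on (M := Matrix.SpecialLinearGroup (Fin 2) F) h

/-- Four dimensions. -/
theorem bddG_four (hF : Fintype.card F = q ^ 2) : BddG ↥(Cfsg.SU 4 F q) 6 30 := by
  obtain ⟨J, hJ⟩ := exists_conj hF
  obtain ⟨Q⟩ := exists_pm hF hJ
  obtain ⟨e⟩ := equiv_SU hF hJ (m := 1 + 1) (ε := 0) (n := 4) rfl
  obtain ⟨v, hv⟩ := exists_slTwo (F := F)
  exact (((bddOn_two Q hv).snoc 1).bddG.of_equiv e).mono (by norm_num)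

/-- Five dimensions. -/
theorem bddG_five (hF : Fintype.card F = q ^ 2) : BddG ↥(Cfsg.SU 5 F q) 6 34 := by
  obtain ⟨J, hJ⟩ := exists_conj hF
  obtain ⟨Q⟩ := exists_pm hF hJ
  obtain ⟨e⟩ := equiv_SU hF hJ (m := 1 + 1) (ε := 1) (n := 5) rfl
  obtain ⟨v, hv⟩ := exists_slTwo (F := F)
  exact (((bddOn_two_odd Q hv).snoc 1).bddG.of_equiv e).mono (by norm_num)

/-- Six dimensions, without hypotheses on stem extensions. -/
theorem bddG_six (hF : Fintype.card F = q ^ 2) : BddG ↥(Cfsg.SU 6 F q) 6 28 := by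
  obtain ⟨J, hJ⟩ := exists_conj hF
  obtain ⟨Q⟩ := exists_pm hF hJ
  obtain ⟨e⟩ := equiv_SU hF hJ (m := 2 + 1) (ε := 0) (n := 6) rfl
  obtain ⟨s, hs⟩ : ∃ s : Fin 2 → Matrix.SpecialLinearGroup (Fin 2) F, Subgroup.closure (Set.range s) = ⊤ :=
    OmegaPlus.two_gen 0
  obtain ⟨p, hp⟩ := CharP.exists F
  haveI : Fact p.Prime := ⟨CharP.char_is_prime F p⟩
  obtain ⟨v, hv⟩ := BddG.exists_on (M := Matrix.SpecialLinearGroup (Fin (2 + 1)) F) (Three.present_SL_three (F := F) p)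
  exact ((bddOn_even_ord le_rfl Q s hs hv).bddG.of_equiv e).mono (by norm_num)

/-- At most thirty-nine relators on six generators. -/
theorem bddG_SU (hF : Fintype.card F = q ^ 2) {n : ℕ} (hn : 4 ≤ n) : BddG ↥(Cfsg.SU n F q) 6 39 := by
  obtain rfl | rfl | rfl | h7 : n = 4 ∨ n = 5 ∨ n = 6 ∨ 7 ≤ n := by omega
  · exact (bddG_four hF).mono (by norm_num)
  · exact (bddG_five hF).mono (by norm_num)
  · exact (bddG_six hF).mono (by norm_num)
  obtain ⟨j, rfl | rfl⟩ : ∃ j, n = 2 * j ∨ n = 2 * j + 1 := ⟨n / 2, by omega⟩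
  · have h := bddG_even hF (j - 1) (by omega) (by omega)
    rwa [show j - 1 + 1 + (j - 1 + 1) = 2 * j by omega] at h
  · have h := bddG_odd hF (j - 1) (by omega)
    rwa [show j - 1 + 1 + (j - 1 + 1) + 1 = 2 * j + 1 by omega] at h

end Cfsg.Lib.Linear.ShortPres.SUN
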